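/-
Schemes over a base given by compatible charts over the affine opens of the base.
-/
import Mathlib.AlgebraicGeometry.AffineScheme
import Mathlib.AlgebraicGeometry.Gluing
import Mathlib.AlgebraicGeometry.Morphisms.Basic

set_option autoImplicit false

universe u

open CategoryTheory CategoryTheory.Limits AlgebraicGeometry Opposite TopologicalSpace

noncomputable section

namespace Groth.Ega2P2

/-- `P` over `S` covered by charts indexed by the affine opens of `S`. -/
structure Charts {P S : Scheme.{u}} (π : P ⟶ S) where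
  X : ∀ U : S.Opens, IsAffineOpen U → Scheme.{u}
  e : ∀ (U : S.Opens) (hU : IsAffineOpen U), X U hU ⟶ P
  isOpenImmersion : ∀ (U : S.Opens) (hU : IsAffineOpen U), IsOpenImmersion (e U hU)
  opensRange : ∀ (U : S.Opens) (hU : IsAffineOpen U),
    (haveI := isOpenImmersion U hU; (e U hU).opensRange) = π ⁻¹ᵁ U
  t : ∀ (U : S.Opens) (hU : IsAffineOpen U) (r : Γ(S, U)),
    X (S.basicOpen r) (hU.basicOpen r) ⟶ X U hU
  fac : ∀ (U : S.Opens) (hU : IsAffineOpen U) (r : Γ(S, U)),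
    t U hU r ≫ e U hU = e (S.basicOpen r) (hU.basicOpen r)

namespace Charts

variable {P S : Scheme.{u}} {π : P ⟶ S} (C : Charts π)

instance isOpenImmersion_e (U : S.Opens) (hU : IsAffineOpen U) : IsOpenImmersion (C.e U hU) :=
  C.isOpenImmersion U hU

/-- The open cover by the charts. -/
def cover : P.OpenCover where
  I₀ := {U : S.Opens // IsAffineOpen U}
  X U := C.X U.1 U.2
  f U := C.e U.1 U.2
  mem₀ := by
    rw [Scheme.presieve₀_mem_precoverage_iff]
    refine ⟨fun x ↦ ?_, fun U ↦ C.isOpenImmersion U.1 U.2⟩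
    obtain ⟨U, hxU⟩ := TopologicalSpace.Opens.mem_iSup.mp
      ((iSup_affineOpens_eq_top S).ge (Set.mem_univ (π.base x)))
    refine ⟨⟨U.1, U.2⟩, ?_⟩
    change x ∈ (C.e U.1 (show IsAffineOpen U.1 from U.2)).opensRange
    rw [C.opensRange]
    exact hxU

include C in
theorem hom_ext {Z : Scheme.{u}} {a b : P ⟶ Z}
    (h : ∀ (U : S.Opens) (hU : IsAffineOpen U), C.e U hU ≫ a = C.e U hU ≫ b) : a = b :=
  C.cover.hom_ext a b fun U ↦ h U.1 U.2

theorem exists_eq (x : P) : ∃ (U : S.Opens) (hU : IsAffineOpen U) (y : C.X U hU),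
    (C.e U hU).base y = x := by
  obtain ⟨U, y, h⟩ := C.cover.exists_eq x
  exact ⟨U.1, U.2, y, h⟩

theorem mem_range {U : S.Opens} (hU : IsAffineOpen U) {x : P} (hx : π.base x ∈ U) :
    ∃ y : C.X U hU, (C.e U hU).base y = x := by
  have h : x ∈ (C.e U hU).opensRange := by rw [C.opensRange]; exact hx
  exact h

theorem map_mem {U : S.Opens} (hU : IsAffineOpen U) (y : C.X U hU) :
    π.base ((C.e U hU).base y) ∈ U := by
  have h : (C.e U hU).base y ∈ (C.e U hU).opensRange := ⟨y, rfl⟩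
  rw [C.opensRange] at h
  exact h

theorem exists_iso_of_eq {U V : S.Opens} (hU : IsAffineOpen U) (hV : IsAffineOpen V) (h : U = V)
    {Z : Scheme.{u}} (g : ∀ (W : S.Opens) (hW : IsAffineOpen W), C.X W hW ⟶ Z) :
    ∃ φ : C.X U hU ⟶ C.X V hV, φ ≫ C.e V hV = C.e U hU ∧ φ ≫ g V hV = g U hU := by
  subst h
  exact ⟨𝟙 _, Category.id_comp _, Category.id_comp _⟩

/-- Compatible morphisms on the charts agree wherever the charts meet. -/
theorem overlap {Z : Scheme.{u}} (g : ∀ (U : S.Opens) (hU : IsAffineOpen U), C.X U hU ⟶ Z)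
    (hg : ∀ (U : S.Opens) (hU : IsAffineOpen U) (r : Γ(S, U)),
      C.t U hU r ≫ g U hU = g (S.basicOpen r) (hU.basicOpen r))
    {T : Scheme.{u}} (U V : S.Opens) (hU : IsAffineOpen U) (hV : IsAffineOpen V)
    (a : T ⟶ C.X U hU) (b : T ⟶ C.X V hV) (hab : a ≫ C.e U hU = b ≫ C.e V hV) :
    a ≫ g U hU = b ≫ g V hV := by
  -- locally on `T` both sides factor through the chart of a common basic open
  have loc : ∀ x : T, ∃ O : T.Opens, x ∈ O ∧ O.ι ≫ a ≫ g U hU = O.ι ≫ b ≫ g V hV := by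
    intro x
    have h1 := C.map_mem hU (a.base x)
    have h2 : π.base ((C.e U hU).base (a.base x)) ∈ V := by
      have hx : (a ≫ C.e U hU).base x = (b ≫ C.e V hV).base x := by rw [hab]
      change (C.e U hU).base (a.base x) = (C.e V hV).base (b.base x) at hx
      rw [hx]
      exact C.map_mem hV (b.base x)
    obtain ⟨r, s, hrs, hx⟩ := exists_basicOpen_le_affine_inter hU hV _ ⟨h1, h2⟩
    obtain ⟨φ, hφe, hφg⟩ := C.exists_iso_of_eq (hU.basicOpen r) (hV.basicOpen s) hrs g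
    refine ⟨(a ≫ C.e U hU ≫ π) ⁻¹ᵁ S.basicOpen r, hx, ?_⟩
    set O : T.Opens := (a ≫ C.e U hU ≫ π) ⁻¹ᵁ S.basicOpen r
    have hsub : Set.range (O.ι ≫ a ≫ C.e U hU).base ⊆
        Set.range (C.e (S.basicOpen r) (hU.basicOpen r)).base := by
      rintro _ ⟨y, rfl⟩
      exact C.mem_range (hU.basicOpen r) y.2
    let w := IsOpenImmersion.lift (C.e (S.basicOpen r) (hU.basicOpen r)) _ hsub
    have hw : w ≫ C.e (S.basicOpen r) (hU.basicOpen r) = O.ι ≫ a ≫ C.e U hU :=
      IsOpenImmersion.lift_fac _ _ _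
    have e1 : w ≫ C.t U hU r = O.ι ≫ a := by
      rw [← cancel_mono (C.e U hU), Category.assoc, C.fac, hw, Category.assoc]
    have e2 : w ≫ φ ≫ C.t V hV s = O.ι ≫ b := by
      rw [← cancel_mono (C.e V hV), Category.assoc, Category.assoc, C.fac, hφe, hw,
        Category.assoc, hab]
    rw [← reassoc_of% e1, ← reassoc_of% e2, hg, hg, hφg]
  choose O hO1 hO2 using loc
  refine (T.openCoverOfIsOpenCover O (TopologicalSpace.Opens.ext ?_)).hom_ext _ _ fun x ↦ hO2 x
  exact Set.eq_univ_of_forall fun x ↦ by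
    simpa using ⟨x, hO1 x⟩

/-- Glue compatible morphisms on the charts. -/
def desc {Z : Scheme.{u}} (g : ∀ (U : S.Opens) (hU : IsAffineOpen U), C.X U hU ⟶ Z)
    (hg : ∀ (U : S.Opens) (hU : IsAffineOpen U) (r : Γ(S, U)),
      C.t U hU r ≫ g U hU = g (S.basicOpen r) (hU.basicOpen r)) : P ⟶ Z :=
  C.cover.glueMorphisms (fun U ↦ g U.1 U.2) fun U V ↦
    C.overlap g hg U.1 V.1 U.2 V.2 _ _ pullback.condition

@[reassoc]
theorem e_desc {Z : Scheme.{u}} (g : ∀ (U : S.Opens) (hU : IsAffineOpen U), C.X U hU ⟶ Z)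
    (hg : ∀ (U : S.Opens) (hU : IsAffineOpen U) (r : Γ(S, U)),
      C.t U hU r ≫ g U hU = g (S.basicOpen r) (hU.basicOpen r)) (U : S.Opens)
    (hU : IsAffineOpen U) : C.e U hU ≫ C.desc g hg = g U hU :=
  C.cover.ι_glueMorphisms (fun U ↦ g U.1 U.2) _ ⟨U, hU⟩

theorem existsUnique_hom {Z : Scheme.{u}}
    (g : ∀ (U : S.Opens) (hU : IsAffineOpen U), C.X U hU ⟶ Z)
    (hg : ∀ (U : S.Opens) (hU : IsAffineOpen U) (r : Γ(S, U)),
      C.t U hU r ≫ g U hU = g (S.basicOpen r) (hU.basicOpen r)) :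
    ∃! h : P ⟶ Z, ∀ (U : S.Opens) (hU : IsAffineOpen U), C.e U hU ≫ h = g U hU :=
  ⟨C.desc g hg, C.e_desc g hg, fun h hh ↦ C.hom_ext fun U hU ↦ by rw [hh, C.e_desc]⟩

/-- A morphism over `S` between chart systems that is an isomorphism on charts is an isomorphism,
and more generally any property local on the target can be checked on charts. -/
theorem isPullback_e {P' : Scheme.{u}} {π' : P' ⟶ S} (C' : Charts π') (h : P' ⟶ P)
    (hπ : h ≫ π = π') (U : S.Opens) (hU : IsAffineOpen U) (g : C'.X U hU ⟶ C.X U hU)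
    (hg : C'.e U hU ≫ h = g ≫ C.e U hU) : IsPullback g (C'.e U hU) (C.e U hU) h := by
  refine IsOpenImmersion.isPullback g (C'.e U hU) (C.e U hU) h hg ?_
  rw [C.opensRange, C'.opensRange, ← hπ, Scheme.Hom.comp_preimage]

/-- A property local on the target holds for a morphism over `S` if it holds on all charts. -/
theorem of_charts {P' : Scheme.{u}} {π' : P' ⟶ S} (C' : Charts π') (h : P' ⟶ P)
    (hπ : h ≫ π = π') (Q : MorphismProperty Scheme.{u}) [IsZariskiLocalAtTarget Q]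
    (g : ∀ (U : S.Opens) (hU : IsAffineOpen U), C'.X U hU ⟶ C.X U hU)
    (hg : ∀ (U : S.Opens) (hU : IsAffineOpen U), C'.e U hU ≫ h = g U hU ≫ C.e U hU)
    (hQ : ∀ (U : S.Opens) (hU : IsAffineOpen U), Q (g U hU)) : Q h := by
  refine IsZariskiLocalAtTarget.of_openCover C.cover fun U ↦ ?_
  have hp := (C.isPullback_e C' h hπ U.1 U.2 (g U.1 U.2) (hg U.1 U.2)).flip
  change Q (pullback.snd h (C.e U.1 U.2))
  rw [← hp.isoPullback_inv_snd]
  exact (Q.cancel_left_of_respectsIso _ _).mpr (hQ _ _)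

end Charts

end Groth.Ega2P2
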