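/-
Proj of a graded ring and localisation at a degree-zero element.
-/
import Mathlib.AlgebraicGeometry.ProjectiveSpectrum.Functor
import Mathlib.AlgebraicGeometry.Morphisms.OpenImmersion

set_option autoImplicit false

universe u

open CategoryTheory CategoryTheory.Limits AlgebraicGeometry Opposite TopologicalSpace
open scoped HomogeneousIdeal

noncomputable section

namespace Groth.Ega2P2

variable {A B σ τ : Type u} [CommRing A] [SetLike σ A] [AddSubgroupClass σ A]
  [CommRing B] [SetLike τ B] [AddSubgroupClass τ B]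
  {𝒜 : ℕ → σ} {ℬ : ℕ → τ} [GradedRing 𝒜] [GradedRing ℬ]

/-- The degree zero part of a graded ring homomorphism. -/
def zeroHom (ψ : 𝒜 →+*ᵍ ℬ) : 𝒜 0 →+* ℬ 0 where
  toFun a := ⟨ψ a, ψ.map_mem a.2⟩
  map_one' := Subtype.ext (map_one ψ)
  map_mul' a b := Subtype.ext (map_mul ψ a.1 b.1)
  map_zero' := Subtype.ext (map_zero ψ)
  map_add' a b := Subtype.ext (map_add ψ a.1 b.1)

@[simp] lemma zeroHom_coe (ψ : 𝒜 →+*ᵍ ℬ) (a : 𝒜 0) : (zeroHom ψ a : B) = ψ a := rfl

@[simp] lemma val_fromZero (f : A) (a : 𝒜 0) :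
    (HomogeneousLocalization.fromZeroRingHom 𝒜 (Submonoid.powers f) a).val =
      Localization.mk (a : A) 1 := rfl

lemma awayMap_fromZero (ψ : 𝒜 →+*ᵍ ℬ) (f : A) :
    (HomogeneousLocalization.Away.map ψ f).comp
        (HomogeneousLocalization.fromZeroRingHom 𝒜 (Submonoid.powers f)) =
      (HomogeneousLocalization.fromZeroRingHom ℬ (Submonoid.powers (ψ f))).comp (zeroHom ψ) := by
  ext a
  simp only [RingHom.comp_apply, val_fromZero]
  erw [HomogeneousLocalization.map_mk]
  rw [HomogeneousLocalization.val_mk]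
  exact congrArg₂ Localization.mk rfl (Subtype.ext (map_one ψ))

lemma map_toSpecZero (ψ : 𝒜 →+*ᵍ ℬ) (hψ : ℬ₊ ≤ 𝒜₊.map ψ) :
    Proj.map ψ hψ ≫ Proj.toSpecZero 𝒜 =
      Proj.toSpecZero ℬ ≫ Spec.map (CommRingCat.ofHom (zeroHom ψ)) := by
  refine (Proj.mapAffineOpenCover ψ hψ).openCover.hom_ext _ _ fun (s : Σ i : PNat, 𝒜 i) ↦ ?_
  change Proj.awayι ℬ (ψ _) (ψ.map_mem s.2.2) s.1.pos ≫ _ =
    Proj.awayι ℬ (ψ _) (ψ.map_mem s.2.2) s.1.pos ≫ _
  rw [Proj.awayι_comp_map_assoc _ _ s.1.pos _ s.2.2, Proj.awayι_toSpecZero,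
    Proj.awayι_toSpecZero_assoc, ← Spec.map_comp, ← Spec.map_comp, ← CommRingCat.ofHom_comp,
    ← CommRingCat.ofHom_comp, awayMap_fromZero]

lemma opensRange_eq_of_comp {X Y : Scheme.{u}} (f : X ⟶ Y) [IsOpenImmersion f] (U : Y.Opens)
    (h : Set.range f.base = (U : Set Y)) : f.opensRange = U :=
  TopologicalSpace.Opens.ext (by simpa using h)

section away

variable (ψ : 𝒜 →+*ᵍ ℬ) (c : 𝒜 0)
  (hloc : letI := ψ.toRingHom.toAlgebra; IsLocalization.Away (c : A) B)

include hloc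

lemma isUnit_zeroHom : IsUnit (zeroHom ψ c) := by
  letI := ψ.toRingHom.toAlgebra
  have hu : IsUnit (ψ (c : A)) := IsLocalization.Away.algebraMap_isUnit (S := B) (c : A)
  obtain ⟨v, hv⟩ := hu.exists_right_inv
  refine IsUnit.of_mul_eq_one ⟨(DirectSum.decompose ℬ v 0 : B), SetLike.coe_mem _⟩ (Subtype.ext ?_)
  change ψ (c : A) * (DirectSum.decompose ℬ v 0 : B) = 1
  exact ((DirectSum.coe_decompose_mul_of_left_mem_zero ℬ (j := 0) (b := v) (ψ.map_mem c.2)).symm).trans
    ((congrArg (fun w => ((DirectSum.decompose ℬ w 0 : ℬ 0) : B)) hv).trans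
      (DirectSum.decompose_of_mem_same ℬ (SetLike.one_mem_graded ℬ)))

lemma irrelevant_le_map_of_away : ℬ₊ ≤ 𝒜₊.map ψ := by
  classical
  letI := ψ.toRingHom.toAlgebra
  rw [HomogeneousIdeal.irrelevant_le]
  intro i hi b hb
  change b ∈ Ideal.map ψ (𝒜₊.toIdeal)
  obtain ⟨k, x, hx⟩ := IsLocalization.Away.surj (c : A) b
  change b * ψ (c : A) ^ k = ψ x at hx
  have hu : IsUnit (ψ (c : A) ^ k) := (IsLocalization.Away.algebraMap_isUnit (S := B) (c : A)).pow k
  have hc0 : ψ (c : A) ^ k ∈ ℬ 0 := by simpa using SetLike.pow_mem_graded (A := ℬ) k (ψ.map_mem c.2)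
  have hbi : b * ψ (c : A) ^ k ∈ ℬ i := by
    simpa only [add_zero] using SetLike.mul_mem_graded (A := ℬ) hb hc0
  have hxi : ψ (DirectSum.decompose 𝒜 x i : A) = b * ψ (c : A) ^ k := by
    rw [GradedRingHom.map_directSumDecompose, ← hx, DirectSum.decompose_of_mem_same _ hbi]
  have hm : ψ (DirectSum.decompose 𝒜 x i : A) ∈ Ideal.map ψ (𝒜₊.toIdeal) :=
    Ideal.mem_map_of_mem _ (HomogeneousIdeal.mem_irrelevant_of_mem _ hi (SetLike.coe_mem _))
  rw [hxi] at hm
  exact (Ideal.mul_unit_mem_iff_mem _ hu).mp hm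

lemma isLocalization_awayMap {f : A} {d : ℕ} (hf : f ∈ 𝒜 d) :
    letI := (HomogeneousLocalization.Away.map ψ f).toAlgebra
    IsLocalization.Away (HomogeneousLocalization.fromZeroRingHom 𝒜 (Submonoid.powers f) c)
      (HomogeneousLocalization.Away ℬ (ψ f)) := by
  classical
  letI := ψ.toRingHom.toAlgebra
  letI := (HomogeneousLocalization.Away.map ψ f).toAlgebra
  have hz := DFunLike.congr_fun (awayMap_fromZero ψ f) c
  simp only [RingHom.comp_apply] at hz
  refine IsLocalization.Away.mk _ ?_ ?_ ?_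
  · rw [RingHom.algebraMap_toAlgebra]
    erw [hz]
    exact (isUnit_zeroHom ψ c hloc).map _
  · intro z
    obtain ⟨n, b, hb, rfl⟩ := HomogeneousLocalization.Away.mk_surjective ℬ (ψ.map_mem hf) z
    obtain ⟨k, x, hx⟩ := IsLocalization.Away.surj (c : A) b
    change b * ψ (c : A) ^ k = ψ x at hx
    have hck : ψ (c : A) ^ k ∈ ℬ 0 := by simpa using SetLike.pow_mem_graded (A := ℬ) k (ψ.map_mem c.2)
    have hbi : b * ψ (c : A) ^ k ∈ ℬ (n • d) := by
      simpa only [add_zero] using SetLike.mul_mem_graded (A := ℬ) hb hck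
    have hxi : ψ (DirectSum.decompose 𝒜 x (n • d) : A) = b * ψ (c : A) ^ k := by
      rw [GradedRingHom.map_directSumDecompose, ← hx, DirectSum.decompose_of_mem_same _ hbi]
    refine ⟨k, HomogeneousLocalization.Away.mk 𝒜 hf n _ (DirectSum.decompose 𝒜 x (n • d)).2, ?_⟩
    rw [RingHom.algebraMap_toAlgebra]
    erw [hz, HomogeneousLocalization.Away.map_mk]
    apply HomogeneousLocalization.val_injective
    simp only [HomogeneousLocalization.val_mul, HomogeneousLocalization.val_pow, val_fromZero,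
      HomogeneousLocalization.Away.val_mk, Localization.mk_mul, Localization.mk_pow, hxi,
      zeroHom_coe, one_pow, mul_one]
    rfl
  · intro a b hab
    obtain ⟨n, x, hx, rfl⟩ := HomogeneousLocalization.Away.mk_surjective 𝒜 hf a
    obtain ⟨m, y, hy, rfl⟩ := HomogeneousLocalization.Away.mk_surjective 𝒜 hf b
    rw [RingHom.algebraMap_toAlgebra] at hab
    erw [HomogeneousLocalization.Away.map_mk, HomogeneousLocalization.Away.map_mk] at hab
    replace hab := congr_arg HomogeneousLocalization.val hab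
    simp only [HomogeneousLocalization.Away.val_mk, Localization.mk_eq_mk_iff,
      Localization.r_iff_exists] at hab
    obtain ⟨⟨_, l, rfl⟩, hl⟩ := hab
    have hA : algebraMap A B (f ^ l * (f ^ m * x)) = algebraMap A B (f ^ l * (f ^ n * y)) := by
      simpa [RingHom.algebraMap_toAlgebra] using hl
    obtain ⟨k, hk⟩ := IsLocalization.Away.exists_of_eq (x := (c : A)) hA
    refine ⟨k, ?_⟩
    apply HomogeneousLocalization.val_injective
    simp only [HomogeneousLocalization.val_mul, HomogeneousLocalization.val_pow, val_fromZero,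
      HomogeneousLocalization.Away.val_mk, Localization.mk_pow, Localization.mk_mul,
      Localization.mk_eq_mk_iff, Localization.r_iff_exists]
    refine ⟨⟨f ^ l, l, rfl⟩, ?_⟩
    simp only [Submonoid.coe_mul, OneMemClass.coe_one, one_pow, one_mul]
    linear_combination hk

variable (hψ : ℬ₊ ≤ 𝒜₊.map ψ)

omit hloc in
lemma isPullback_awayι {f : A} {d : ℕ} (hd : 0 < d) (hf : f ∈ 𝒜 d) :
    IsPullback (Proj.awayι ℬ (ψ f) (ψ.map_mem hf) hd)
      (Spec.map (CommRingCat.ofHom (HomogeneousLocalization.Away.map ψ f)))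
      (Proj.map ψ hψ) (Proj.awayι 𝒜 f hf hd) := by
  refine (IsOpenImmersion.isPullback _ _ _ _ ?_ ?_).flip
  · exact Proj.awayι_comp_map ψ hψ hd f hf
  · rw [Proj.opensRange_awayι, Proj.opensRange_awayι, Proj.map_preimage_basicOpen]

lemma isOpenImmersion_map_of_away : IsOpenImmersion (Proj.map ψ hψ) := by
  refine IsZariskiLocalAtTarget.of_openCover (P := @IsOpenImmersion)
    (Proj.affineOpenCover 𝒜).openCover fun (s : Σ i : PNat, 𝒜 i) ↦ ?_
  have hloc' := isLocalization_awayMap ψ c hloc s.2.2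
  letI := (HomogeneousLocalization.Away.map ψ (s.2 : A)).toAlgebra
  have : IsOpenImmersion
      (Spec.map (CommRingCat.ofHom (HomogeneousLocalization.Away.map ψ (s.2 : A)))) :=
    IsOpenImmersion.of_isLocalization
      (HomogeneousLocalization.fromZeroRingHom 𝒜 (Submonoid.powers (s.2 : A)) c)
  have hp := isPullback_awayι ψ hψ s.1.pos s.2.2
  change IsOpenImmersion (pullback.snd (Proj.map ψ hψ) (Proj.awayι 𝒜 (s.2 : A) s.2.2 s.1.pos))
  rw [← hp.isoPullback_inv_snd]
  infer_instance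

lemma opensRange_map_of_away :
    (haveI := isOpenImmersion_map_of_away ψ c hloc hψ
     (Proj.map ψ hψ).opensRange) = Proj.toSpecZero 𝒜 ⁻¹ᵁ PrimeSpectrum.basicOpen c := by
  haveI := isOpenImmersion_map_of_away ψ c hloc hψ
  apply le_antisymm
  · rintro _ ⟨y, rfl⟩
    change (Proj.map ψ hψ ≫ Proj.toSpecZero 𝒜).base y ∈ PrimeSpectrum.basicOpen c
    rw [map_toSpecZero]
    intro h
    exact ((Proj.toSpecZero ℬ).base y).2.ne_top
      (Ideal.eq_top_of_isUnit_mem _ h (isUnit_zeroHom ψ c hloc))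
  · intro x hx
    obtain ⟨s, w, hw⟩ : ∃ (s : Σ i : PNat, 𝒜 i) (w : Spec (CommRingCat.of
        (HomogeneousLocalization.Away 𝒜 (s.2 : A)))),
        (Proj.awayι 𝒜 (s.2 : A) s.2.2 s.1.pos).base w = x :=
      (Proj.affineOpenCover 𝒜).openCover.exists_eq x
    subst hw
    replace hx : w ∈ (Proj.awayι 𝒜 (s.2 : A) s.2.2 s.1.pos ≫ Proj.toSpecZero 𝒜) ⁻¹ᵁ
        PrimeSpectrum.basicOpen c := hx
    rw [Proj.awayι_toSpecZero] at hx
    have hloc' := isLocalization_awayMap ψ c hloc s.2.2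
    letI := (HomogeneousLocalization.Away.map ψ (s.2 : A)).toAlgebra
    have hr : w ∈ Set.range (PrimeSpectrum.comap (algebraMap
        (HomogeneousLocalization.Away 𝒜 (s.2 : A)) (HomogeneousLocalization.Away ℬ (ψ (s.2 : A))))) := by
      rw [PrimeSpectrum.localization_away_comap_range _
        (HomogeneousLocalization.fromZeroRingHom 𝒜 (Submonoid.powers (s.2 : A)) c)]
      exact hx
    obtain ⟨v, hv⟩ := hr
    refine ⟨(Proj.awayι ℬ (ψ (s.2 : A)) (ψ.map_mem s.2.2) s.1.pos).base v, ?_⟩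
    subst hv
    exact congr($(Proj.awayι_comp_map ψ hψ s.1.pos (s.2 : A) s.2.2).base v)

end away

end Groth.Ega2P2
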