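/-
Relative Proj: existence, charts, uniqueness; charts of relative Spec.
-/
import Groth.Prelude.Def_RelProj2
import Groth.Agent.Ega2Proj2.Charts
import Groth.Agent.Ega2Proj2.ProjLoc

set_option autoImplicit false

universe u

open CategoryTheory CategoryTheory.Limits AlgebraicGeometry Opposite TopologicalSpace
open scoped HomogeneousIdeal

noncomputable section

namespace Groth.Ega2P2

lemma projMap_congr {A B σ τ : Type u} [CommRing A] [SetLike σ A] [AddSubgroupClass σ A]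
    [CommRing B] [SetLike τ B] [AddSubgroupClass τ B]
    {𝒜 : ℕ → σ} {ℬ : ℕ → τ} [GradedRing 𝒜] [GradedRing ℬ]
    {f g : 𝒜 →+*ᵍ ℬ} (h : f = g) {hf : ℬ₊ ≤ 𝒜₊.map f} {hg : ℬ₊ ≤ 𝒜₊.map g} :
    Proj.map f hf = Proj.map g hg := by subst h; rfl

variable {S : Scheme.{u}}

/-- The charts of a relative spectrum. -/
def specCharts (A : RelSpec.QCAlg S) : Charts A.π where
  X U _ := Spec (A.presheaf.obj (op U))
  e U hU := A.ι U hU
  isOpenImmersion U hU := inferInstance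
  opensRange U hU := (A.π_preimage U hU).symm
  t U _ r := Spec.map (A.presheaf.map (homOfLE (S.basicOpen_le r)).op)
  fac U hU r := A.ι_res (U := ⟨U, hU⟩) (V := ⟨S.basicOpen r, hU.basicOpen r⟩) (homOfLE ⟨r, rfl⟩)

section relProj

variable {𝒮 : RelProj.QCGrAlg S} {P : Scheme.{u}} {p : P ⟶ S}
  {chart : ∀ (U : S.Opens) (hU : IsAffineOpen U),
    (((p ⁻¹ᵁ U : P.Opens) : Scheme.{u}) ≅ Proj (𝒮.deg U hU))}

lemma opensRange_emb (U : S.Opens) (hU : IsAffineOpen U) :
    (RelProj.emb p chart U hU).opensRange = p ⁻¹ᵁ U := by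
  refine (Scheme.Hom.opensRange_comp_of_isIso (chart U hU).inv (p ⁻¹ᵁ U).ι).trans ?_
  exact Scheme.Opens.opensRange_ι _

lemma chart_hom_emb (U : S.Opens) (hU : IsAffineOpen U) :
    (chart U hU).hom ≫ RelProj.emb p chart U hU = (p ⁻¹ᵁ U).ι := by
  simp [RelProj.emb]

variable (h : RelProj.IsRelProj 𝒮 p chart)

include h in
lemma emb_p (U : S.Opens) (hU : IsAffineOpen U) :
    RelProj.emb p chart U hU ≫ p =
      Proj.toSpecZero (𝒮.deg U hU) ≫ Spec.map (𝒮.strZero U hU) ≫ hU.fromSpec := by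
  rw [RelProj.emb, Category.assoc, ← h.chart_over U hU, Iso.inv_hom_id_assoc]

/-- The charts of a relative Proj. -/
def projCharts : Charts p where
  X U hU := Proj (𝒮.deg U hU)
  e U hU := RelProj.emb p chart U hU
  isOpenImmersion U hU := inferInstance
  opensRange U hU := opensRange_emb U hU
  t U hU r := Proj.map (𝒮.res hU (hU.basicOpen r) (S.basicOpen_le r)) (𝒮.irrelevant_le_map U hU r)
  fac U hU r := RelProj.map_res_emb h U hU r

include h in
/-- Two morphisms out of a relative Proj agreeing on all charts are equal. -/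
lemma emb_hom_ext {Z : Scheme.{u}} {a b : P ⟶ Z} (hab : ∀ (U : S.Opens) (hU : IsAffineOpen U),
    RelProj.emb p chart U hU ≫ a = RelProj.emb p chart U hU ≫ b) : a = b :=
  (projCharts h).hom_ext hab

include h in
/-- Compatible morphisms on the charts of a relative Proj glue uniquely. -/
lemma emb_existsUnique {Z : Scheme.{u}}
    (g : ∀ (U : S.Opens) (hU : IsAffineOpen U), Proj (𝒮.deg U hU) ⟶ Z)
    (hg : ∀ (U : S.Opens) (hU : IsAffineOpen U) (r : Γ(S, U)),
      Proj.map (𝒮.res hU (hU.basicOpen r) (S.basicOpen_le r)) (𝒮.irrelevant_le_map U hU r) ≫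
        g U hU = g (S.basicOpen r) (hU.basicOpen r)) :
    ∃! f : P ⟶ Z, ∀ (U : S.Opens) (hU : IsAffineOpen U),
      RelProj.emb p chart U hU ≫ f = g U hU :=
  (projCharts h).existsUnique_hom g hg

lemma ι_comp_eq_iff {Z : Scheme.{u}} (f : P ⟶ Z) (U : S.Opens) (hU : IsAffineOpen U)
    (g : Proj (𝒮.deg U hU) ⟶ Z) :
    (p ⁻¹ᵁ U).ι ≫ f = (chart U hU).hom ≫ g ↔ RelProj.emb p chart U hU ≫ f = g := by
  rw [RelProj.emb, Category.assoc, Iso.inv_comp_eq]

end relProj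

section existence

variable (𝒮 : RelProj.QCGrAlg S)

lemma irrelevant_le_map_site {V U : S.AffineZariskiSite} (i : V ≤ U) :
    (𝒮.deg V.1 V.2)₊ ≤ ((𝒮.deg U.1 U.2)₊).map
      (𝒮.res U.2 V.2 (Scheme.AffineZariskiSite.toOpens_mono i)) := by
  obtain ⟨V, hV⟩ := V
  obtain ⟨r, hr⟩ := i
  change S.basicOpen r = V at hr
  subst hr
  exact 𝒮.irrelevant_le_map U.1 U.2 r

/-- The diagram of the `Proj 𝒮(U)`. -/
def projFunctor : S.AffineZariskiSite ⥤ Scheme.{u} where
  obj U := Proj (𝒮.deg U.1 U.2)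
  map {V U} i := Proj.map (𝒮.res U.2 V.2 (Scheme.AffineZariskiSite.toOpens_mono i.le))
    (irrelevant_le_map_site 𝒮 i.le)
  map_id U := by
    refine (projMap_congr ?_).trans Proj.map_id
    refine DFunLike.ext _ _ fun x ↦ ?_
    change (𝒮.presheaf.map (𝟙 (op U.1))).hom x = x
    rw [CategoryTheory.Functor.map_id]; rfl
  map_comp {W V U} i j := by
    refine Eq.trans ?_ (Proj.map_comp _ _ _ _)
    refine projMap_congr ?_
    refine DFunLike.ext _ _ fun x ↦ ?_
    change _ = (𝒮.presheaf.map _).hom ((𝒮.presheaf.map _).hom x)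
    rw [← CommRingCat.comp_apply, ← Functor.map_comp]
    rfl

/-- `Proj 𝒮(U) ⟶ U`. -/
def toOpenAux (U : S.Opens) (hU : IsAffineOpen U) : Proj (𝒮.deg U hU) ⟶ (U : Scheme.{u}) :=
  Proj.toSpecZero (𝒮.deg U hU) ≫ Spec.map (𝒮.strZero U hU) ≫ hU.isoSpec.inv

lemma toOpenAux_ι (U : S.Opens) (hU : IsAffineOpen U) :
    toOpenAux 𝒮 U hU ≫ U.ι =
      Proj.toSpecZero (𝒮.deg U hU) ≫ Spec.map (𝒮.strZero U hU) ≫ hU.fromSpec := by
  rw [toOpenAux, Category.assoc, Category.assoc, IsAffineOpen.isoSpec_inv_ι]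

/-- `Proj 𝒮(U) ⟶ U`, on the site. -/
def projToOpen (U : S.AffineZariskiSite) : (projFunctor 𝒮).obj U ⟶ (U.1 : Scheme.{u}) :=
  toOpenAux 𝒮 U.1 U.2

lemma projToOpen_ι (U : S.AffineZariskiSite) :
    projToOpen 𝒮 U ≫ U.1.ι =
      Proj.toSpecZero (𝒮.deg U.1 U.2) ≫ Spec.map (𝒮.strZero U.1 U.2) ≫ U.2.fromSpec :=
  toOpenAux_ι 𝒮 U.1 U.2

lemma toOpenAux_isPullback (U : S.Opens) (hU : IsAffineOpen U) (r : Γ(S, U))
    (w : Proj.map (𝒮.res hU (hU.basicOpen r) (S.basicOpen_le r)) (𝒮.irrelevant_le_map U hU r) ≫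
        toOpenAux 𝒮 U hU =
      toOpenAux 𝒮 (S.basicOpen r) (hU.basicOpen r) ≫ S.homOfLE (S.basicOpen_le r)) :
    IsPullback (Proj.map (𝒮.res hU (hU.basicOpen r) (S.basicOpen_le r))
        (𝒮.irrelevant_le_map U hU r)) (toOpenAux 𝒮 (S.basicOpen r) (hU.basicOpen r))
      (toOpenAux 𝒮 U hU) (S.homOfLE (S.basicOpen_le r)) := by
  have hloc := 𝒮.isQC U hU r
  let c : 𝒮.deg U hU 0 := ⟨(𝒮.str.app (op U)).hom r, 𝒮.str_mem U hU r⟩
  haveI : IsOpenImmersion (Proj.map (𝒮.res hU (hU.basicOpen r) (S.basicOpen_le r))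
      (𝒮.irrelevant_le_map U hU r)) :=
    isOpenImmersion_map_of_away (𝒮.res hU (hU.basicOpen r) (S.basicOpen_le r)) c hloc _
  refine (IsOpenImmersion.isPullback _ _ _ _ w ?_).flip
  rw [opensRange_map_of_away (𝒮.res hU (hU.basicOpen r) (S.basicOpen_le r)) c hloc,
    Scheme.opensRange_homOfLE, ← Scheme.Hom.comp_preimage, toOpenAux_ι, Scheme.Hom.comp_preimage,
    Scheme.Hom.comp_preimage, hU.fromSpec_preimage_basicOpen]
  rfl

lemma projFunctor_map_projToOpen {V U : S.AffineZariskiSite} (i : V ⟶ U) :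
    (projFunctor 𝒮).map i ≫ projToOpen 𝒮 U ≫ U.1.ι = projToOpen 𝒮 V ≫ V.1.ι := by
  rw [projToOpen_ι, projToOpen_ι]
  change Proj.map _ _ ≫ _ = _
  rw [reassoc_of% map_toSpecZero,
    ← U.2.map_fromSpec V.2 (homOfLE (Scheme.AffineZariskiSite.toOpens_mono i.le)).op,
    ← Spec.map_comp_assoc, ← Spec.map_comp_assoc]
  congr 2
  refine congrArg Spec.map ?_
  refine CommRingCat.hom_ext (RingHom.ext fun r ↦ Subtype.ext ?_)
  exact congr($(𝒮.str.naturality (homOfLE (Scheme.AffineZariskiSite.toOpens_mono i.le)).op).hom r).symm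

lemma projToOpen_naturality {V U : S.AffineZariskiSite} (i : V ⟶ U) :
    (projFunctor 𝒮).map i ≫ projToOpen 𝒮 U =
      projToOpen 𝒮 V ≫ S.homOfLE (Scheme.AffineZariskiSite.toOpens_mono i.le) := by
  rw [← cancel_mono U.1.ι, Category.assoc, Category.assoc, Scheme.homOfLE_ι,
    projFunctor_map_projToOpen]

/-- The relative gluing data of `Proj 𝒮`. -/
def projGlueData : (Scheme.AffineZariskiSite.directedCover S).RelativeGluingData where
  functor := projFunctor 𝒮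
  natTrans :=
    { app := projToOpen 𝒮
      naturality := fun V U i ↦ projToOpen_naturality 𝒮 i }
  equifibered {V U} i := by
    obtain ⟨r, hr⟩ := i.le
    obtain ⟨V, hV⟩ := V
    change S.basicOpen r = V at hr
    subst hr
    exact toOpenAux_isPullback 𝒮 U.1 U.2 r (projToOpen_naturality 𝒮 i)

instance : ((projGlueData 𝒮).functor ⋙ Scheme.forget).IsLocallyDirected :=
  Scheme.Cover.RelativeGluingData.instIsLocallyDirectedI₀CompFunctorForgetOfIsThin ..

/-- A relative Proj. -/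
def relProj : Scheme.{u} := (projGlueData 𝒮).glued

/-- Its structure morphism. -/
def relProjπ : relProj 𝒮 ⟶ S := (projGlueData 𝒮).toBase

/-- The chart immersions of the constructed relative Proj. -/
def relProjι (U : S.Opens) (hU : IsAffineOpen U) : Proj (𝒮.deg U hU) ⟶ relProj 𝒮 :=
  (projGlueData 𝒮).cover.f ⟨U, hU⟩

instance (U : S.Opens) (hU : IsAffineOpen U) : IsOpenImmersion (relProjι 𝒮 U hU) :=
  (projGlueData 𝒮).cover.map_prop _

lemma relProjι_π (U : S.Opens) (hU : IsAffineOpen U) :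
    relProjι 𝒮 U hU ≫ relProjπ 𝒮 =
      Proj.toSpecZero (𝒮.deg U hU) ≫ Spec.map (𝒮.strZero U hU) ≫ hU.fromSpec :=
  (colimit.ι_desc _ _).trans (projToOpen_ι 𝒮 ⟨U, hU⟩)

lemma relProjι_range (U : S.Opens) (hU : IsAffineOpen U) :
    (relProjι 𝒮 U hU).opensRange = relProjπ 𝒮 ⁻¹ᵁ U := by
  have h := (projGlueData 𝒮).toBase_preimage_eq_opensRange_ι ⟨U, hU⟩
  refine h.symm.trans ?_
  congr 1
  exact Scheme.Opens.opensRange_ι _

/-- The charts of the constructed relative Proj. -/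
def relProjChart (U : S.Opens) (hU : IsAffineOpen U) :
    ((relProjπ 𝒮 ⁻¹ᵁ U : (relProj 𝒮).Opens) : Scheme.{u}) ≅ Proj (𝒮.deg U hU) :=
  IsOpenImmersion.isoOfRangeEq (relProjπ 𝒮 ⁻¹ᵁ U).ι (relProjι 𝒮 U hU) (by
    rw [← Scheme.Hom.coe_opensRange, ← Scheme.Hom.coe_opensRange, relProjι_range,
      Scheme.Opens.opensRange_ι])

lemma relProjChart_ι (U : S.Opens) (hU : IsAffineOpen U) :
    (relProjChart 𝒮 U hU).hom ≫ relProjι 𝒮 U hU = (relProjπ 𝒮 ⁻¹ᵁ U).ι :=
  IsOpenImmersion.isoOfRangeEq_hom_fac ..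

theorem isRelProj_relProj : RelProj.IsRelProj 𝒮 (relProjπ 𝒮) (relProjChart 𝒮) where
  chart_over U hU := by
    rw [← relProjι_π, ← Category.assoc, relProjChart_ι]
  chart_res U hU r := by
    have hc : Proj.map (𝒮.res hU (hU.basicOpen r) (S.basicOpen_le r))
        (𝒮.irrelevant_le_map U hU r) ≫ relProjι 𝒮 U hU =
          relProjι 𝒮 (S.basicOpen r) (hU.basicOpen r) :=
      colimit.w (projGlueData 𝒮).functor
        (homOfLE (Scheme.AffineZariskiSite.basicOpen_le (⟨U, hU⟩ : S.AffineZariskiSite) r))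
    rw [← cancel_mono (relProjι 𝒮 U hU), Category.assoc, Category.assoc, relProjChart_ι, hc,
      relProjChart_ι, Scheme.homOfLE_ι]

theorem exists_isRelProj : ∃ (P : Scheme.{u}) (p : P ⟶ S)
    (chart : ∀ (U : S.Opens) (hU : IsAffineOpen U),
      (((p ⁻¹ᵁ U : P.Opens) : Scheme.{u}) ≅ Proj (𝒮.deg U hU))),
      RelProj.IsRelProj 𝒮 p chart :=
  ⟨_, _, _, isRelProj_relProj 𝒮⟩

end existence

end Groth.Ega2P2
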