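/-
Degree-zero localisations of a graded ring and base change (EGA II 2.8.10).
-/
import Mathlib.RingTheory.GradedAlgebra.HomogeneousLocalization
import Mathlib.RingTheory.GradedAlgebra.Homogeneous.Maps
import Mathlib.RingTheory.IsTensorProduct
import Mathlib.Algebra.Category.Ring.Constructions

set_option autoImplicit false

universe u

open CategoryTheory TensorProduct
open scoped HomogeneousIdeal

noncomputable section

namespace Groth.Ega2P2

variable {A B σ τ : Type u} [CommRing A] [SetLike σ A] [AddSubgroupClass σ A]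
  [CommRing B] [SetLike τ B] [AddSubgroupClass τ B]
  {𝒜 : ℕ → σ} {ℬ : ℕ → τ} [GradedRing 𝒜] [GradedRing ℬ] (ψ : 𝒜 →+*ᵍ ℬ)

section component

variable {R : Type u} [CommRing R] [Algebra R A]
  (ha : ∀ r, algebraMap R A r ∈ 𝒜 0) {d : ℕ} {f : A} (hf : f ∈ 𝒜 d)

include ha in
lemma decompose_smul (r : R) (x : A) (n : ℕ) :
    (DirectSum.decompose 𝒜 (r • x) n : A) = r • (DirectSum.decompose 𝒜 x n : A) := by
  rw [Algebra.smul_def, Algebra.smul_def,
    DirectSum.coe_decompose_mul_of_left_mem_zero 𝒜 (ha r)]

lemma mk_eq_mk {n : ℕ} {x y : A} (hx : x ∈ 𝒜 (n • d)) (hy : y ∈ 𝒜 (n • d)) (h : x = y) :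
    HomogeneousLocalization.Away.mk 𝒜 hf n x hx = HomogeneousLocalization.Away.mk 𝒜 hf n y hy := by
  subst h; rfl

/-- The degree `n • d` component of an element, divided by `f ^ n`. -/
def comp (n : ℕ) (x : A) : HomogeneousLocalization.Away 𝒜 f :=
  HomogeneousLocalization.Away.mk 𝒜 hf n (DirectSum.decompose 𝒜 x (n • d)) (SetLike.coe_mem _)

lemma comp_add (n : ℕ) (x y : A) : comp hf n (x + y) = comp hf n x + comp hf n y := by
  apply HomogeneousLocalization.val_injective
  rw [HomogeneousLocalization.val_add]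
  simp only [comp, HomogeneousLocalization.Away.val_mk, DirectSum.decompose_add, DirectSum.add_apply,
    Localization.add_mk, AddMemClass.coe_add]
  rw [Localization.mk_eq_mk_iff, Localization.r_iff_exists]
  refine ⟨1, ?_⟩
  push_cast
  ring

lemma comp_zero (n : ℕ) : comp hf n 0 = 0 := by
  apply HomogeneousLocalization.val_injective
  simp [comp, Localization.mk_zero]

lemma comp_of_mem (n : ℕ) (x : A) (hx : x ∈ 𝒜 (n • d)) :
    comp hf n x = HomogeneousLocalization.Away.mk 𝒜 hf n x hx :=
  mk_eq_mk hf _ _ (DirectSum.decompose_of_mem_same 𝒜 hx)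

lemma comp_decompose (n : ℕ) (x : A) :
    comp hf n (DirectSum.decompose 𝒜 x (n • d) : A) = comp hf n x :=
  comp_of_mem hf n _ (SetLike.coe_mem _)

lemma comp_pow_mul (n m : ℕ) (x : A) : comp hf (n + m) (f ^ m * x) = comp hf n x := by
  have h : (DirectSum.decompose 𝒜 (f ^ m * x) ((n + m) • d) : A) =
      f ^ m * (DirectSum.decompose 𝒜 x (n • d) : A) := by
    classical
    rw [DirectSum.coe_decompose_mul_of_left_mem 𝒜 ((n + m) • d) (SetLike.pow_mem_graded m hf),
      if_pos (by simp [add_mul])]
    rw [show (n + m) • d - m • d = n • d by rw [add_smul, Nat.add_sub_cancel]]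
  apply HomogeneousLocalization.val_injective
  simp only [comp, HomogeneousLocalization.Away.val_mk, h]
  rw [Localization.mk_eq_mk_iff, Localization.r_iff_exists]
  exact ⟨1, by simp only [Submonoid.coe_one, one_mul, pow_add]; ring⟩

variable [Algebra R (HomogeneousLocalization.Away 𝒜 f)]
  (hA : ∀ r, (algebraMap R (HomogeneousLocalization.Away 𝒜 f) r).val =
    Localization.mk (algebraMap R A r) 1)

include ha hA in
lemma comp_smul (n : ℕ) (r : R) (x : A) : comp hf n (r • x) = r • comp hf n x := by
  apply HomogeneousLocalization.val_injective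
  rw [Algebra.smul_def r (comp hf n x), HomogeneousLocalization.val_mul, hA]
  simp only [comp, HomogeneousLocalization.Away.val_mk, Localization.mk_mul,
    one_mul, Algebra.smul_def]
  rw [DirectSum.coe_decompose_mul_of_left_mem_zero 𝒜 (ha r)]

/-- `comp` as a linear map. -/
def compL (n : ℕ) : A →ₗ[R] HomogeneousLocalization.Away 𝒜 f where
  toFun := comp hf n
  map_add' := comp_add hf n
  map_smul' := comp_smul ha hf hA n

@[simp] lemma compL_apply (n : ℕ) (x : A) : compL ha hf hA n x = comp hf n x := rfl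

end component

section pushout

variable {R R' : Type u} [CommRing R] [CommRing R'] [Algebra R R'] [Algebra R A] [Algebra R' B]
  [Algebra R B] [Algebra A B] [IsScalarTower R R' B] [IsScalarTower R A B]
  (hψ : ∀ x, algebraMap A B x = ψ x)
  (ha : ∀ r, algebraMap R A r ∈ 𝒜 0) (hb : ∀ r, algebraMap R' B r ∈ ℬ 0)
  [Algebra.IsPushout R R' A B]

include hψ in
lemma equiv_tmul' (r : R') (x : A) :
    Algebra.IsPushout.equiv R R' A B (r ⊗ₜ x) = algebraMap R' B r * ψ x := by
  rw [Algebra.IsPushout.equiv_tmul, hψ]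

include hψ hb in
/-- Base change makes the irrelevant ideal generated by the image of the irrelevant ideal. -/
theorem irrelevant_le_map_of_pushout (_hp : Algebra.IsPushout R R' A B) : ℬ₊ ≤ 𝒜₊.map ψ := by
  refine (HomogeneousIdeal.irrelevant_le _).mpr fun i hi y hy ↦ ?_
  change y ∈ Ideal.map ψ (HomogeneousIdeal.irrelevant 𝒜).toIdeal
  obtain ⟨t, rfl⟩ := (Algebra.IsPushout.equiv R R' A B).surjective y
  rw [← DirectSum.decompose_of_mem_same ℬ hy]
  clear hy
  induction t with
  | zero => simp
  | add x y hx hy => rw [map_add, DirectSum.decompose_add]; exact add_mem hx hy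
  | tmul r x =>
    rw [equiv_tmul' ψ hψ, DirectSum.coe_decompose_mul_of_left_mem_zero ℬ (hb r),
      ← GradedRingHom.map_directSumDecompose]
    exact Ideal.mul_mem_left _ _ (Ideal.mem_map_of_mem ψ
      (HomogeneousIdeal.mem_irrelevant_of_mem _ hi (SetLike.coe_mem _)))

variable {d : ℕ} {f : A} (hf : f ∈ 𝒜 d)
  [Algebra R (HomogeneousLocalization.Away 𝒜 f)]
  [Algebra R' (HomogeneousLocalization.Away ℬ (ψ f))]
  [Algebra R (HomogeneousLocalization.Away ℬ (ψ f))]
  [Algebra (HomogeneousLocalization.Away 𝒜 f) (HomogeneousLocalization.Away ℬ (ψ f))]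
  [IsScalarTower R R' (HomogeneousLocalization.Away ℬ (ψ f))]
  [IsScalarTower R (HomogeneousLocalization.Away 𝒜 f) (HomogeneousLocalization.Away ℬ (ψ f))]
  (hA : ∀ r, (algebraMap R (HomogeneousLocalization.Away 𝒜 f) r).val =
    Localization.mk (algebraMap R A r) 1)
  (hB : ∀ r, (algebraMap R' (HomogeneousLocalization.Away ℬ (ψ f)) r).val =
    Localization.mk (algebraMap R' B r) 1)
  (hAB : ∀ z, algebraMap (HomogeneousLocalization.Away 𝒜 f)
    (HomogeneousLocalization.Away ℬ (ψ f)) z = HomogeneousLocalization.Away.map ψ f z)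

attribute [local instance] Algebra.TensorProduct.rightAlgebra in
include hψ ha hb hf hA hB hAB in
/-- The degree zero localisations form a pushout square. -/
theorem isPushout_away : Algebra.IsPushout R R' (HomogeneousLocalization.Away 𝒜 f)
    (HomogeneousLocalization.Away ℬ (ψ f)) := by
  let Φ := Algebra.TensorProduct.lift (Algebra.ofId R' (HomogeneousLocalization.Away ℬ (ψ f)))
    (IsScalarTower.toAlgHom R (HomogeneousLocalization.Away 𝒜 f)
      (HomogeneousLocalization.Away ℬ (ψ f))) (fun _ _ ↦ Commute.all _ _)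
  let E := Algebra.IsPushout.equiv R R' A B
  -- `Φ` on images of `R' ⊗ A`
  have hΦ : ∀ (n : ℕ) (s : R' ⊗[R] A),
      Φ (LinearMap.lTensor R' (compL ha hf hA n) s) = comp (ψ.map_mem hf) n (E s) := by
    intro n s
    induction s with
    | zero => simp [comp_zero]
    | add x y hx hy => rw [map_add, map_add, map_add, hx, hy, comp_add]
    | tmul r x =>
      rw [LinearMap.lTensor_tmul, compL_apply, Algebra.TensorProduct.lift_tmul,
        Algebra.ofId_apply, IsScalarTower.toAlgHom_apply, hAB, equiv_tmul' ψ hψ]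
      apply HomogeneousLocalization.val_injective
      simp only [comp, HomogeneousLocalization.Away.map_mk, HomogeneousLocalization.val_mul, hB,
        HomogeneousLocalization.Away.val_mk, Localization.mk_mul, one_mul,
        DirectSum.coe_decompose_mul_of_left_mem_zero ℬ (hb r), GradedRingHom.map_directSumDecompose]
      rfl
  -- every element is such an image
  have hsurj : ∀ t : R' ⊗[R] HomogeneousLocalization.Away 𝒜 f,
      ∃ n s, LinearMap.lTensor R' (compL ha hf hA n) s = t := by
    have hmove : ∀ (n m : ℕ) (s : R' ⊗[R] A),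
        LinearMap.lTensor R' (compL ha hf hA (n + m)) (LinearMap.lTensor R'
          (LinearMap.mulLeft R (f ^ m)) s) = LinearMap.lTensor R' (compL ha hf hA n) s := by
      intro n m s
      induction s with
      | zero => simp
      | add x y hx hy => simp only [map_add, hx, hy]
      | tmul r x => simp [comp_pow_mul]
    intro t
    induction t with
    | zero => exact ⟨0, 0, map_zero _⟩
    | tmul r z =>
      obtain ⟨n, x, hx, rfl⟩ := HomogeneousLocalization.Away.mk_surjective 𝒜 hf z
      exact ⟨n, r ⊗ₜ x, by simp [comp_of_mem hf n x hx]⟩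
    | add x y hx hy =>
      obtain ⟨n, s, rfl⟩ := hx
      obtain ⟨m, s', rfl⟩ := hy
      refine ⟨n + m, LinearMap.lTensor R' (LinearMap.mulLeft R (f ^ m)) s +
        LinearMap.lTensor R' (LinearMap.mulLeft R (f ^ n)) s', ?_⟩
      rw [map_add, hmove]
      congr 1
      rw [add_comm n m, hmove]
  have hinj : Function.Injective Φ := by
    rw [injective_iff_map_eq_zero]
    intro t ht
    obtain ⟨n, s, rfl⟩ := hsurj t
    rw [hΦ] at ht
    have hval := congrArg HomogeneousLocalization.val ht
    simp only [comp, HomogeneousLocalization.Away.val_mk, HomogeneousLocalization.val_zero] at hval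
    rw [← Localization.mk_zero 1, Localization.mk_eq_mk_iff, Localization.r_iff_exists] at hval
    obtain ⟨⟨_, m, rfl⟩, hm⟩ := hval
    simp only [Submonoid.coe_one, one_mul, mul_zero] at hm
    let pr : A →ₗ[R] A :=
      { toFun := fun x ↦ (DirectSum.decompose 𝒜 x (n • d) : A)
        map_add' := fun x y ↦ by simp
        map_smul' := fun r x ↦ decompose_smul ha r x _ }
    have hpr : ∀ x : R' ⊗[R] A, E (LinearMap.lTensor R' pr x) =
        (DirectSum.decompose ℬ (E x) (n • d) : B) := by
      intro x
      induction x with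
      | zero => simp
      | add x y hx hy => simp only [map_add, hx, hy, DirectSum.decompose_add]; rfl
      | tmul r x =>
        rw [LinearMap.lTensor_tmul, equiv_tmul' ψ hψ, equiv_tmul' ψ hψ,
          DirectSum.coe_decompose_mul_of_left_mem_zero ℬ (hb r),
          ← GradedRingHom.map_directSumDecompose]
        rfl
    have hmul : ∀ x : R' ⊗[R] A, E (LinearMap.lTensor R' (LinearMap.mulLeft R (f ^ m)) x) =
        (ψ f) ^ m * E x := by
      intro x
      induction x with
      | zero => simp
      | add x y hx hy => simp only [map_add, hx, hy, mul_add]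
      | tmul r x =>
        rw [LinearMap.lTensor_tmul, equiv_tmul' ψ hψ, equiv_tmul' ψ hψ, LinearMap.mulLeft_apply,
          map_mul, map_pow]
        ring
    have hzero : LinearMap.lTensor R' (LinearMap.mulLeft R (f ^ m)) (LinearMap.lTensor R' pr s)
        = 0 := E.injective (((hmul _).trans (congrArg _ (hpr s))).trans (hm.trans (map_zero E).symm))
    have hcomp : (compL ha hf hA (n + m)).comp ((LinearMap.mulLeft R (f ^ m)).comp pr) =
        compL ha hf hA n := by
      refine LinearMap.ext fun x ↦ ?_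
      simp only [LinearMap.comp_apply, LinearMap.mulLeft_apply, compL_apply, comp_pow_mul]
      exact comp_decompose hf n x
    rw [← hcomp, LinearMap.lTensor_comp, LinearMap.lTensor_comp, LinearMap.comp_apply,
      LinearMap.comp_apply, hzero, map_zero]
  have hbij : Function.Bijective Φ := by
    refine ⟨hinj, fun z ↦ ?_⟩
    obtain ⟨n, y, hy, rfl⟩ := HomogeneousLocalization.Away.mk_surjective ℬ (ψ.map_mem hf) z
    refine ⟨LinearMap.lTensor R' (compL ha hf hA n) (E.symm y), ?_⟩
    rw [hΦ, AlgEquiv.apply_symm_apply, comp_of_mem]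
  refine Algebra.IsPushout.of_equiv (AlgEquiv.ofBijective Φ hbij) ?_
  refine RingHom.ext fun z ↦ ?_
  change Φ ((1 : R') ⊗ₜ z) = _
  rw [Algebra.TensorProduct.lift_tmul, map_one, one_mul]
  rfl

end pushout

section cat

variable {R R' : CommRingCat.{u}} (r : R ⟶ R') (a : R ⟶ CommRingCat.of A)
  (b : R' ⟶ CommRingCat.of B)

/-- `isPushout_away` for squares of rings. -/
theorem isPushout_away_cat (a0 : R →+* 𝒜 0) (b0 : R' →+* ℬ 0)
    (ha0 : ∀ x, ((a0 x : 𝒜 0) : A) = a.hom x) (hb0 : ∀ x, ((b0 x : ℬ 0) : B) = b.hom x)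
    (h : IsPushout r a b (CommRingCat.ofHom ψ.toRingHom)) {d : ℕ} {f : A} (hf : f ∈ 𝒜 d) :
    IsPushout r
      (CommRingCat.ofHom ((HomogeneousLocalization.fromZeroRingHom 𝒜 (Submonoid.powers f)).comp a0))
      (CommRingCat.ofHom
        ((HomogeneousLocalization.fromZeroRingHom ℬ (Submonoid.powers (ψ f))).comp b0))
      (CommRingCat.ofHom (HomogeneousLocalization.Away.map ψ f)) := by
  algebraize [r.hom, a.hom, b.hom, ψ.toRingHom, b.hom.comp r.hom,
    (HomogeneousLocalization.fromZeroRingHom 𝒜 (Submonoid.powers f)).comp a0,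
    (HomogeneousLocalization.fromZeroRingHom ℬ (Submonoid.powers (ψ f))).comp b0,
    HomogeneousLocalization.Away.map ψ f,
    (((HomogeneousLocalization.fromZeroRingHom ℬ (Submonoid.powers (ψ f))).comp b0).comp r.hom)]
  have hw : ∀ x, b.hom (r.hom x) = ψ (a.hom x) := fun x ↦ congr($(h.w).hom x)
  haveI : IsScalarTower R A B := .of_algebraMap_eq fun x ↦ hw x
  haveI : IsScalarTower R (HomogeneousLocalization.Away 𝒜 f)
      (HomogeneousLocalization.Away ℬ (ψ f)) := .of_algebraMap_eq fun x ↦ by
    apply HomogeneousLocalization.val_injective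
    change Localization.mk ((b0 (r.hom x) : ℬ 0) : B) 1 = (HomogeneousLocalization.Away.map ψ f
      (HomogeneousLocalization.fromZeroRingHom 𝒜 (Submonoid.powers f) (a0 x))).val
    erw [HomogeneousLocalization.map_mk]
    rw [HomogeneousLocalization.val_mk]
    refine congrArg₂ Localization.mk ?_ (Subtype.ext (map_one ψ).symm)
    rw [hb0, hw]
    exact congrArg ψ (ha0 x).symm
  haveI : Algebra.IsPushout R R' A B := CommRingCat.isPushout_iff_isPushout.mp h
  have := isPushout_away ψ (R := R) (R' := R') (fun _ ↦ rfl) (fun x ↦ ha0 x ▸ (a0 x).2)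
    (fun x ↦ hb0 x ▸ (b0 x).2) hf (fun x ↦ congrArg (Localization.mk · 1) (ha0 x))
    (fun x ↦ congrArg (Localization.mk · 1) (hb0 x)) (fun _ ↦ rfl)
  exact CommRingCat.isPushout_iff_isPushout.mpr this

/-- The irrelevant ideals under base change. -/
theorem irrelevant_le_map_of_pushout_cat (hb : ∀ x, b.hom x ∈ ℬ 0)
    (h : IsPushout r a b (CommRingCat.ofHom ψ.toRingHom)) : ℬ₊ ≤ 𝒜₊.map ψ := by
  algebraize [r.hom, a.hom, b.hom, ψ.toRingHom, b.hom.comp r.hom]
  have hw : ∀ x, b.hom (r.hom x) = ψ (a.hom x) := fun x ↦ congr($(h.w).hom x)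
  haveI : IsScalarTower R A B := .of_algebraMap_eq fun x ↦ hw x
  haveI : Algebra.IsPushout R R' A B := CommRingCat.isPushout_iff_isPushout.mp h
  exact irrelevant_le_map_of_pushout ψ (R := R) (R' := R') (fun _ ↦ rfl) hb inferInstance

end cat

end Groth.Ega2P2
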