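/-
Properties of relative Proj checked on the affine base.
-/
import Groth.Agent.Ega2Proj2.RelProjBasic
import Mathlib.AlgebraicGeometry.ProjectiveSpectrum.Proper

set_option autoImplicit false

universe u

open CategoryTheory CategoryTheory.Limits AlgebraicGeometry Opposite TopologicalSpace
open scoped HomogeneousIdeal

noncomputable section

namespace Groth.Ega2P2

variable {S : Scheme.{u}} {𝒮 : RelProj.QCGrAlg S} {P : Scheme.{u}} {p : P ⟶ S}
  {chart : ∀ (U : S.Opens) (hU : IsAffineOpen U),
    (((p ⁻¹ᵁ U : P.Opens) : Scheme.{u}) ≅ Proj (𝒮.deg U hU))}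
  (h : RelProj.IsRelProj 𝒮 p chart)

include h

lemma isPullback_emb (U : S.Opens) (hU : IsAffineOpen U) :
    IsPullback (toOpenAux 𝒮 U hU) (RelProj.emb p chart U hU) U.ι p :=
  IsOpenImmersion.isPullback _ _ _ _ (by rw [emb_p h, toOpenAux_ι])
    (by rw [Scheme.Opens.opensRange_ι, opensRange_emb])

/-- A property of morphisms local on the target holds for `p` if it does over each affine. -/
lemma of_affine (Q : MorphismProperty Scheme.{u}) [IsZariskiLocalAtTarget Q]
    (hQ : ∀ (U : S.Opens) (hU : IsAffineOpen U),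
      Q (Proj.toSpecZero (𝒮.deg U hU) ≫ Spec.map (𝒮.strZero U hU))) : Q p := by
  refine IsZariskiLocalAtTarget.of_openCover
    (S.openCoverOfIsOpenCover (fun U : S.affineOpens ↦ U.1) (iSup_affineOpens_eq_top S))
    fun (U : S.affineOpens) ↦ ?_
  have hp := (isPullback_emb h U.1 U.2).flip
  change Q (pullback.snd p U.1.ι)
  rw [← hp.isoPullback_inv_snd, Q.cancel_left_of_respectsIso, toOpenAux, ← Category.assoc,
    Q.cancel_right_of_respectsIso]
  exact hQ U.1 U.2

lemma awayι_emb_p (U : S.Opens) (hU : IsAffineOpen U) {d : ℕ} (f : 𝒮.presheaf.obj (op U))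
    (hf : f ∈ 𝒮.deg U hU d) (hd : 0 < d) :
    Proj.awayι (𝒮.deg U hU) f hf hd ≫ RelProj.emb p chart U hU ≫ p =
      Spec.map (𝒮.strZero U hU ≫ CommRingCat.ofHom
        (HomogeneousLocalization.fromZeroRingHom (𝒮.deg U hU) (Submonoid.powers f))) ≫
        hU.fromSpec := by
  rw [emb_p h, Proj.awayι_toSpecZero_assoc, Spec.map_comp, Category.assoc]

end Groth.Ega2P2
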