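/-
Base change of relative homogeneous spectra (EGA II 3.5.3).
-/
import Groth.Agent.Ega2Proj2.BaseChangeRing
import Groth.Agent.Ega2Proj2.RelProjProps
import Groth.Agent.Ega2Proj2.ProjLoc

set_option autoImplicit false

universe u

open CategoryTheory CategoryTheory.Limits AlgebraicGeometry Opposite TopologicalSpace
open scoped HomogeneousIdeal

noncomputable section

namespace Groth.Ega2P2

variable {A B σ τ : Type u} [CommRing A] [SetLike σ A] [AddSubgroupClass σ A]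
  [CommRing B] [SetLike τ B] [AddSubgroupClass τ B]
  {𝒜 : ℕ → σ} {ℬ : ℕ → τ} [GradedRing 𝒜] [GradedRing ℬ] (ψ : 𝒜 →+*ᵍ ℬ)

/-- `Proj` commutes with base change of the graded ring. -/
theorem isPullback_projMap {R R' : CommRingCat.{u}} (r : R ⟶ R') (a : R ⟶ CommRingCat.of A)
    (b : R' ⟶ CommRingCat.of B) (a0 : R ⟶ CommRingCat.of (𝒜 0)) (b0 : R' ⟶ CommRingCat.of (ℬ 0))
    (ha0 : ∀ x, ((a0.hom x : 𝒜 0) : A) = a.hom x) (hb0 : ∀ x, ((b0.hom x : ℬ 0) : B) = b.hom x)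
    (h : IsPushout r a b (CommRingCat.ofHom ψ.toRingHom)) (hψ : ℬ₊ ≤ 𝒜₊.map ψ) :
    IsPullback (Proj.map ψ hψ) (Proj.toSpecZero ℬ ≫ Spec.map b0)
      (Proj.toSpecZero 𝒜 ≫ Spec.map a0) (Spec.map r) := by
  refine Scheme.isPullback_of_openCover _ _ _ _ (Proj.affineOpenCover 𝒜).openCover
    fun (s : Σ i : PNat, 𝒜 i) ↦ ?_
  change IsPullback (pullback.snd (Proj.map ψ hψ) (Proj.awayι 𝒜 (s.2 : A) s.2.2 s.1.pos))
    (pullback.fst (Proj.map ψ hψ) (Proj.awayι 𝒜 (s.2 : A) s.2.2 s.1.pos) ≫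
      Proj.toSpecZero ℬ ≫ Spec.map b0)
    (Proj.awayι 𝒜 (s.2 : A) s.2.2 s.1.pos ≫ Proj.toSpecZero 𝒜 ≫ Spec.map a0) (Spec.map r)
  have hp := isPullback_awayι ψ hψ s.1.pos s.2.2
  have hq := isPullback_SpecMap_of_isPushout _ _ _ _
    (isPushout_away_cat ψ r a b a0.hom b0.hom ha0 hb0 h s.2.2).flip
  refine hq.of_iso hp.isoPullback (Iso.refl _) (Iso.refl _) (Iso.refl _) ?_ ?_ ?_ ?_
  · rw [Iso.refl_hom, Category.comp_id, hp.isoPullback_hom_snd]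
  · rw [Iso.refl_hom, Category.comp_id, hp.isoPullback_hom_fst_assoc,
      Proj.awayι_toSpecZero_assoc, ← Spec.map_comp]
    rfl
  · refine (Category.comp_id _).trans (Eq.trans ?_ (Category.id_comp _).symm)
    rw [Proj.awayι_toSpecZero_assoc, ← Spec.map_comp]
    rfl
  · simp

variable {S S' : Scheme.{u}} {g : S' ⟶ S} {𝒮 : RelProj.QCGrAlg S} {𝒮' : RelProj.QCGrAlg S'}
  {P : Scheme.{u}} {p : P ⟶ S}
  {chart : ∀ (U : S.Opens) (hU : IsAffineOpen U),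
    (((p ⁻¹ᵁ U : P.Opens) : Scheme.{u}) ≅ Proj (𝒮.deg U hU))}
  {P' : Scheme.{u}} {p' : P' ⟶ S'}
  {chart' : ∀ (U' : S'.Opens) (hU' : IsAffineOpen U'),
    (((p' ⁻¹ᵁ U' : P'.Opens) : Scheme.{u}) ≅ Proj (𝒮'.deg U' hU'))}
  (h : RelProj.IsRelProj 𝒮 p chart) (h' : RelProj.IsRelProj 𝒮' p' chart')

lemma toOpenAux_paste {U : S.Opens} (hU : IsAffineOpen U) {U' : S'.Opens} (hU' : IsAffineOpen U')
    (hle : U' ≤ g ⁻¹ᵁ U) :
    IsPullback (Spec.map (g.appLE U U' hle)) hU'.isoSpec.inv hU.isoSpec.inv (g.resLE U U' hle) := by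
  refine IsPullback.of_vert_isIso ⟨?_⟩
  rw [← cancel_mono U.ι, Category.assoc, Category.assoc, IsAffineOpen.isoSpec_inv_ι,
    Scheme.Hom.resLE_comp_ι, IsAffineOpen.isoSpec_inv_ι_assoc, hU.SpecMap_appLE_fromSpec g hU' hle]

include h h' in
/-- A morphism that is `Proj` of a base change on every affine pair is a base change. -/
theorem isPullback_of_charts
    (φ : ∀ (U : S.Opens) (hU : IsAffineOpen U) (U' : S'.Opens) (hU' : IsAffineOpen U')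
      (_ : U' ≤ g ⁻¹ᵁ U), 𝒮.deg U hU →+*ᵍ 𝒮'.deg U' hU')
    (hpo : ∀ (U : S.Opens) (hU : IsAffineOpen U) (U' : S'.Opens) (hU' : IsAffineOpen U')
      (hle : U' ≤ g ⁻¹ᵁ U), IsPushout (g.appLE U U' hle) (𝒮.str.app (op U)) (𝒮'.str.app (op U'))
        (CommRingCat.ofHom (φ U hU U' hU' hle).toRingHom))
    (hirr : ∀ (U : S.Opens) (hU : IsAffineOpen U) (U' : S'.Opens) (hU' : IsAffineOpen U')
      (hle : U' ≤ g ⁻¹ᵁ U), (𝒮'.deg U' hU')₊ ≤ ((𝒮.deg U hU)₊).map (φ U hU U' hU' hle))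
    (f : P' ⟶ P)
    (hf : ∀ (U : S.Opens) (hU : IsAffineOpen U) (U' : S'.Opens) (hU' : IsAffineOpen U')
      (hle : U' ≤ g ⁻¹ᵁ U), RelProj.emb p' chart' U' hU' ≫ f =
        Proj.map (φ U hU U' hU' hle) (hirr U hU U' hU' hle) ≫ RelProj.emb p chart U hU) :
    IsPullback f p' p g := by
  refine IsPullback.flip ?_
  let I := {W : S'.Opens // IsAffineOpen W ∧ ∃ U : S.Opens, IsAffineOpen U ∧ W ≤ g ⁻¹ᵁ U}
  have hI : IsOpenCover (fun i : I ↦ i.1) := by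
    refine top_le_iff.mp fun x _ ↦ ?_
    obtain ⟨_, ⟨U, hU, rfl⟩, hxU, -⟩ :=
      S.isBasis_affineOpens.exists_subset_of_mem_open (Set.mem_univ (g.base x)) isOpen_univ
    obtain ⟨_, ⟨W, hW, rfl⟩, hxW, hle⟩ := S'.isBasis_affineOpens.exists_subset_of_mem_open
      (show x ∈ g ⁻¹ᵁ U from hxU) (g ⁻¹ᵁ U).2
    exact Opens.mem_iSup.mpr ⟨⟨W, hW, U, hU, hle⟩, hxW⟩
  refine Scheme.isPullback_of_openCover _ _ _ _ (S'.openCoverOfIsOpenCover _ hI) fun (i : I) ↦ ?_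
  obtain ⟨U', hU', U, hU, hle⟩ := i
  change IsPullback (pullback.snd p' U'.ι) (pullback.fst p' U'.ι ≫ f) (U'.ι ≫ g) p
  have hp := (isPullback_emb h' U' hU').flip
  have hq : IsPullback (Proj.map (φ U hU U' hU' hle) (hirr U hU U' hU' hle))
      (toOpenAux 𝒮' U' hU') (toOpenAux 𝒮 U hU) (g.resLE U U' hle) := by
    have := (isPullback_projMap (φ U hU U' hU' hle) (g.appLE U U' hle) (𝒮.str.app (op U))
      (𝒮'.str.app (op U')) (𝒮.strZero U hU) (𝒮'.strZero U' hU') (fun _ ↦ rfl) (fun _ ↦ rfl)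
      (hpo U hU U' hU' hle) (hirr U hU U' hU' hle)).paste_vert (toOpenAux_paste hU hU' hle)
    simpa [toOpenAux, Category.assoc] using this
  have hK := (hq.paste_horiz (isPullback_emb h U hU).flip).flip
  rw [← hf U hU U' hU' hle, Scheme.Hom.resLE_comp_ι] at hK
  refine hK.of_iso hp.isoPullback (Iso.refl _) (Iso.refl _) (Iso.refl _) ?_ ?_ ?_ ?_
  · rw [Iso.refl_hom, Category.comp_id, hp.isoPullback_hom_snd]
  · rw [Iso.refl_hom, Category.comp_id, hp.isoPullback_hom_fst_assoc]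
  · simp
  · simp

end Groth.Ega2P2
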