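/-
Graded rings generated by homogeneous elements (in particular by degrees zero and one).
-/
import Mathlib.RingTheory.GradedAlgebra.Basic
import Mathlib.RingTheory.GradedAlgebra.HomogeneousLocalization
import Mathlib.RingTheory.GradedAlgebra.Homogeneous.Ideal

set_option autoImplicit false

universe u

open scoped HomogeneousIdeal

namespace Groth.Ega2P2

variable {A σ : Type u} [CommRing A] [SetLike σ A] [AddSubgroupClass σ A]
  {𝒜 : ℕ → σ} [GradedRing 𝒜]

/-- A property of homogeneous elements that is additive in each degree and multiplicative passes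
from a set of homogeneous generators to everything in the subring they generate. -/
lemma homogeneous_mem_of_closure (P : ℕ → A → Prop) (hP0 : ∀ k, P k 0)
    (hPadd : ∀ k, ∀ a ∈ 𝒜 k, ∀ b ∈ 𝒜 k, P k a → P k b → P k (a + b))
    (hPneg : ∀ k, ∀ a ∈ 𝒜 k, P k a → P k (-a)) (hP1 : P 0 1)
    (hPmul : ∀ i j, ∀ a ∈ 𝒜 i, ∀ b ∈ 𝒜 j, P i a → P j b → P (i + j) (a * b))
    (s : Set A) (hs : ∀ x ∈ s, ∃ j, x ∈ 𝒜 j ∧ P j x)
    {x : A} (hx : x ∈ Subring.closure s) {k : ℕ} (hk : x ∈ 𝒜 k) : P k x := by
  classical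
  have hmono : ∀ m ∈ Submonoid.closure s, ∃ j, m ∈ 𝒜 j ∧ P j m := by
    intro m hm
    induction hm using Submonoid.closure_induction with
    | mem y hy => exact hs y hy
    | one => exact ⟨0, SetLike.one_mem_graded 𝒜, hP1⟩
    | mul a b _ _ ha hb =>
      obtain ⟨i, hi, hPi⟩ := ha
      obtain ⟨j, hj, hPj⟩ := hb
      exact ⟨i + j, SetLike.mul_mem_graded hi hj, hPmul i j a hi b hj hPi hPj⟩
  suffices h : ∀ k, P k (DirectSum.decompose 𝒜 x k : A) by
    have := h k
    rwa [DirectSum.decompose_of_mem_same 𝒜 hk] at this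
  clear hk k
  rw [Subring.mem_closure_iff] at hx
  induction hx using AddSubgroup.closure_induction with
  | mem m hm =>
    intro k
    obtain ⟨j, hj, hPj⟩ := hmono m hm
    by_cases hjk : j = k
    · subst hjk
      rwa [DirectSum.decompose_of_mem_same 𝒜 hj]
    · rw [DirectSum.decompose_of_mem_ne 𝒜 hj hjk]
      exact hP0 k
  | zero => intro k; simpa using hP0 k
  | add a b _ _ ha hb =>
    intro k
    rw [DirectSum.decompose_add, DirectSum.add_apply]
    exact hPadd k _ (SetLike.coe_mem _) _ (SetLike.coe_mem _) (ha k) (hb k)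
  | neg a _ ha =>
    intro k
    rw [DirectSum.decompose_neg, DFinsupp.neg_apply]
    exact hPneg k _ (SetLike.coe_mem _) (ha k)

/-- In a ring generated in degrees zero and one, a subring containing the degree one part contains
every part of positive degree. -/
lemma mem_of_genDegOne (hgen : Subring.closure ((𝒜 0 : Set A) ∪ (𝒜 1 : Set A)) = ⊤)
    (R : Subring A) (h1 : (𝒜 1 : Set A) ⊆ R) {k : ℕ} (hk : 0 < k) {x : A} (hx : x ∈ 𝒜 k) :
    x ∈ R := by
  have h := homogeneous_mem_of_closure (𝒜 := 𝒜)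
    (fun j y ↦ j = 0 ∨ ∀ a ∈ 𝒜 0, a * y ∈ R) ?_ ?_ ?_ (Or.inl rfl) ?_
    ((𝒜 0 : Set A) ∪ (𝒜 1 : Set A)) ?_ (x := x) (by rw [hgen]; trivial) hx
  · rcases h with h | h
    · omega
    · simpa using h 1 (SetLike.one_mem_graded 𝒜)
  · exact fun j ↦ Or.inr fun a _ ↦ by simp [R.zero_mem]
  · rintro j a - b - (rfl | ha) (h | hb)
    · exact Or.inl rfl
    · exact Or.inl rfl
    · exact Or.inl h
    · exact Or.inr fun c hc ↦ by rw [mul_add]; exact add_mem (ha c hc) (hb c hc)
  · rintro j a - (rfl | ha)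
    · exact Or.inl rfl
    · exact Or.inr fun c hc ↦ by rw [mul_neg]; exact neg_mem (ha c hc)
  · intro i j a hai b hbj ha hb
    by_cases hij : i + j = 0
    · exact Or.inl hij
    refine Or.inr fun c hc ↦ ?_
    rcases ha with rfl | ha
    · rcases hb with rfl | hb
      · omega
      · rw [← mul_assoc]
        exact hb _ (by simpa using SetLike.mul_mem_graded (A := 𝒜) hc hai)
    · rcases hb with rfl | hb
      · rw [mul_comm a b, ← mul_assoc]
        exact ha _ (by simpa using SetLike.mul_mem_graded (A := 𝒜) hc hbj)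
      · rw [← mul_assoc]
        refine R.mul_mem (ha c hc) ?_
        simpa using hb 1 (SetLike.one_mem_graded 𝒜)
  · rintro y (hy | hy)
    · exact ⟨0, hy, Or.inl rfl⟩
    · refine ⟨1, hy, Or.inr fun a ha ↦ h1 ?_⟩
      simpa using SetLike.mul_mem_graded (A := 𝒜) ha hy

/-- Homogeneous elements of positive degree in the subring generated by degree-zero elements and a
set `T` of degree-one elements lie in the ideal generated by `T`. -/
lemma mem_span_of_mem_closure {G : Set A} (hG : G ⊆ (𝒜 0 : Set A)) {T : Set A}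
    (hT : T ⊆ (𝒜 1 : Set A)) {x : A} (hx : x ∈ Subring.closure (G ∪ T)) {k : ℕ} (hk : 0 < k)
    (hxk : x ∈ 𝒜 k) : x ∈ Ideal.span T := by
  have h := homogeneous_mem_of_closure (𝒜 := 𝒜) (fun j y ↦ j = 0 ∨ y ∈ Ideal.span T)
    ?_ ?_ ?_ (Or.inl rfl) ?_ (G ∪ T) ?_ hx hxk
  · exact h.resolve_left hk.ne'
  · exact fun j ↦ Or.inr (zero_mem _)
  · rintro j a - b - (rfl | ha) (h | hb)
    · exact Or.inl rfl
    · exact Or.inl rfl
    · exact Or.inl h
    · exact Or.inr (add_mem ha hb)
  · rintro j a - (rfl | ha)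
    · exact Or.inl rfl
    · exact Or.inr (neg_mem ha)
  · intro i j a _ b _ ha hb
    rcases ha with rfl | ha
    · rcases hb with rfl | hb
      · exact Or.inl rfl
      · exact Or.inr (Ideal.mul_mem_left _ _ hb)
    · exact Or.inr (Ideal.mul_mem_right _ _ ha)
  · rintro y (hy | hy)
    · exact ⟨0, hG hy, Or.inl rfl⟩
    · exact ⟨1, hT hy, Or.inr (Ideal.subset_span hy)⟩

end Groth.Ega2P2
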