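/-
`A = π_* O` for a relative spectrum (EGA II 1.3.1).
-/
import Groth.Prelude.Def_RelSpec

set_option autoImplicit false

universe u

open CategoryTheory CategoryTheory.Limits AlgebraicGeometry Opposite TopologicalSpace

noncomputable section

namespace Groth.Ega2P2

variable {S : Scheme.{u}} (A : RelSpec.QCAlg S)

lemma isIso_appLE_of_le {X Y : Scheme.{u}} (f : X ⟶ Y) [IsOpenImmersion f] (W : Y.Opens) {V : X.Opens}
    (hW : W ≤ f.opensRange) (hV : V = f ⁻¹ᵁ W) : IsIso (f.appLE W V hV.le) := by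
  subst hV
  rw [Scheme.Hom.appLE_eq_app]
  exact f.isIso_app W hW

lemma isIso_gammaAff (U : S.Opens) (hU : IsAffineOpen U) : IsIso (A.gammaAff U hU) := by
  haveI := isIso_appLE_of_le (A.ι U hU) (A.π ⁻¹ᵁ U) (A.π_preimage U hU).le
    (V := ⊤) (top_le_iff.mp (A.top_le_preimage U hU)).symm
  exact IsIso.comp_isIso

/-- The identification `π_* O ⟶ A` is an isomorphism. -/
theorem isIso_gammaMap : IsIso A.gammaMap := by
  haveI : ∀ V, IsIso (A.gammaRestrict.app V) := fun V ↦ isIso_gammaAff A V.unop.1 V.unop.2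
  haveI : IsIso A.gammaRestrict := NatIso.isIso_of_isIso_app _
  let F : TopCat.Sheaf CommRingCat.{u} S.carrier :=
    ⟨A.π.base _* A.spec.presheaf, TopCat.Sheaf.pushforward_sheaf_of_sheaf A.π.base A.spec.sheaf.property⟩
  let F' : TopCat.Sheaf CommRingCat.{u} S.carrier := ⟨A.presheaf, A.isSheaf⟩
  have hα := Functor.IsCoverDense.iso_of_restrict_iso
    (G := Scheme.AffineZariskiSite.toOpensFunctor S) (K := Opens.grothendieckTopology S)
    (ℱ := F) (ℱ' := F') ⟨A.gammaMap⟩ (by
      change IsIso ((Scheme.AffineZariskiSite.toOpensFunctor S).op.whiskerLeft A.gammaMap)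
      rw [A.gammaMap_restrict]
      infer_instance)
  exact ((sheafToPresheaf _ _).map_isIso (⟨A.gammaMap⟩ : F ⟶ F'))

end Groth.Ega2P2
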