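/-
Maps between standard charts of Proj.
-/
import Groth.Agent.Ega2Proj2.ProjLoc
import Groth.Agent.Ega2Proj2.RelProjBasic

set_option autoImplicit false

universe u

open CategoryTheory CategoryTheory.Limits AlgebraicGeometry Opposite TopologicalSpace
open scoped HomogeneousIdeal

noncomputable section

namespace Groth.Ega2P2

section ring

variable {A B C σ τ υ : Type u} [CommRing A] [SetLike σ A] [AddSubgroupClass σ A]
  [CommRing B] [SetLike τ B] [AddSubgroupClass τ B]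
  [CommRing C] [SetLike υ C] [AddSubgroupClass υ C]
  {𝒜 : ℕ → σ} {ℬ : ℕ → τ} {𝒞 : ℕ → υ} [GradedRing 𝒜] [GradedRing ℬ] [GradedRing 𝒞]

/-- `Away.map` with a prescribed value of the image element. -/
def amap (ψ : 𝒜 →+*ᵍ ℬ) (f : A) (e : B) (he : ψ f = e) :
    HomogeneousLocalization.Away 𝒜 f →+* HomogeneousLocalization.Away ℬ e :=
  HomogeneousLocalization.map ψ (P := Submonoid.powers f) (Q := Submonoid.powers e)
    (Submonoid.powers_le.mpr ⟨1, by simp [he]⟩)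

lemma amap_rfl (ψ : 𝒜 →+*ᵍ ℬ) (f : A) :
    amap ψ f (ψ f) rfl = HomogeneousLocalization.Away.map ψ f := rfl

lemma amap_congr {ψ ψ' : 𝒜 →+*ᵍ ℬ} (h : ψ = ψ') (f : A) (e : B) (he : ψ f = e) :
    amap ψ f e he = amap ψ' f e (h ▸ he) := by
  subst h
  rfl

lemma amap_comp (φ : ℬ →+*ᵍ 𝒞) (ψ : 𝒜 →+*ᵍ ℬ) (f : A) (e : B) (he : ψ f = e) (e' : C)
    (he' : φ e = e') :
    (amap φ e e' he').comp (amap ψ f e he) =
      amap (φ.comp ψ) f e' (by subst he; subst he'; rfl) := by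
  subst he; subst he'
  ext z
  exact congrArg HomogeneousLocalization.val (HomogeneousLocalization.Away.map_map ψ φ f z)

lemma awayι_comp_map_amap (ψ : 𝒜 →+*ᵍ ℬ) (hψ : ℬ₊ ≤ 𝒜₊.map ψ) {d : ℕ} (hd : 0 < d) (f : A)
    (hf : f ∈ 𝒜 d) (e : B) (he : ψ f = e) (hed : e ∈ ℬ d) :
    Proj.awayι ℬ e hed hd ≫ Proj.map ψ hψ =
      Spec.map (CommRingCat.ofHom (amap ψ f e he)) ≫ Proj.awayι 𝒜 f hf hd := by
  subst he
  exact Proj.awayι_comp_map ψ hψ hd f hf

lemma awayMap_comp_map (ψ : 𝒜 →+*ᵍ ℬ) {f h x : A} {d d' : ℕ} (hf : f ∈ 𝒜 d) (hh : h ∈ 𝒜 d')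
    (hx : x = f * h) :
    (HomogeneousLocalization.awayMap ℬ (ψ.map_mem hh)
        (show ψ x = ψ f * ψ h by rw [hx, map_mul])).comp
        (HomogeneousLocalization.Away.map ψ f) =
      (HomogeneousLocalization.Away.map ψ x).comp
        (HomogeneousLocalization.awayMap 𝒜 hh hx) := by
  refine RingHom.ext fun z ↦ ?_
  obtain ⟨n, a, ha, rfl⟩ := HomogeneousLocalization.Away.mk_surjective 𝒜 hf z
  apply HomogeneousLocalization.val_injective
  simp only [RingHom.comp_apply]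
  erw [HomogeneousLocalization.Away.map_mk, HomogeneousLocalization.awayMap_mk,
    HomogeneousLocalization.awayMap_mk, HomogeneousLocalization.Away.map_mk]
  simp [map_mul, map_pow]

lemma isLocalizationElem_map (ψ : 𝒜 →+*ᵍ ℬ) {f h : A} {d d' : ℕ} (hf : f ∈ 𝒜 d)
    (hh : h ∈ 𝒜 d') :
    HomogeneousLocalization.Away.map ψ f (HomogeneousLocalization.Away.isLocalizationElem hf hh) =
      HomogeneousLocalization.Away.isLocalizationElem (ψ.map_mem hf) (ψ.map_mem hh) := by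
  apply HomogeneousLocalization.val_injective
  erw [HomogeneousLocalization.Away.map_mk]
  simp

end ring

variable {S : Scheme.{u}} (𝒮 : RelProj.QCGrAlg S)

lemma irrelevant_le_map_of_eq {U : S.Opens} (hU : IsAffineOpen U) {V : S.Opens}
    (hV : IsAffineOpen V) (i : V ≤ U) (r : Γ(S, U)) (hr : S.basicOpen r = V) :
    (𝒮.deg V hV)₊ ≤ ((𝒮.deg U hU)₊).map (𝒮.res hU hV i) := by
  subst hr
  exact 𝒮.irrelevant_le_map U hU r

variable {𝒮} {P : Scheme.{u}} {p : P ⟶ S}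
  {chart : ∀ (U : S.Opens) (hU : IsAffineOpen U),
    (((p ⁻¹ᵁ U : P.Opens) : Scheme.{u}) ≅ Proj (𝒮.deg U hU))}

lemma map_res_emb_of_eq (h : RelProj.IsRelProj 𝒮 p chart) {U : S.Opens} (hU : IsAffineOpen U)
    {V : S.Opens} (hV : IsAffineOpen V) (i : V ≤ U) (r : Γ(S, U)) (hr : S.basicOpen r = V) :
    Proj.map (𝒮.res hU hV i) (irrelevant_le_map_of_eq 𝒮 hU hV i r hr) ≫
        RelProj.emb p chart U hU = RelProj.emb p chart V hV := by
  subst hr
  exact RelProj.map_res_emb h U hU r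

lemma exists_basicOpen_eq_of_eq {U : S.Opens} (hU : IsAffineOpen U) {V : S.Opens} (r : Γ(S, U))
    (hr : S.basicOpen r = V) (c : Γ(S, V)) : ∃ r' : Γ(S, U), S.basicOpen r' = S.basicOpen c := by
  subst hr
  exact hU.basicOpen_basicOpen_is_basicOpen r c

/-- A point over two affine opens lies over an open basic in both. -/
lemma exists_common_basic {U V : S.Opens} (hU : IsAffineOpen U) (hV : IsAffineOpen V) (O : S.Opens)
    (y : S) (hy : y ∈ U) (hy' : y ∈ V) (hyO : y ∈ O) :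
    ∃ (W : S.Opens) (_ : IsAffineOpen W), y ∈ W ∧ W ≤ O ∧
      (∃ r : Γ(S, U), S.basicOpen r = W) ∧ ∃ s : Γ(S, V), S.basicOpen s = W := by
  obtain ⟨r, s, hrs, hyr⟩ := exists_basicOpen_le_affine_inter hU hV y ⟨hy, hy'⟩
  obtain ⟨c, hc, hyc⟩ := (hU.basicOpen r).exists_basicOpen_le (V := O) ⟨y, hyO⟩ hyr
  exact ⟨S.basicOpen c, (hU.basicOpen r).basicOpen c, hyc, hc,
    exists_basicOpen_eq_of_eq hU r rfl c, exists_basicOpen_eq_of_eq hV s hrs.symm c⟩

lemma le_of_basicOpen_eq {U V : S.Opens} {r : Γ(S, U)} (hr : S.basicOpen r = V) : V ≤ U :=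
  hr ▸ S.basicOpen_le r

end Groth.Ega2P2
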