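/-
Gluing morphisms along a family of open immersions which is directed on overlaps.
-/
import Mathlib.AlgebraicGeometry.Gluing
import Mathlib.AlgebraicGeometry.OpenImmersion
import Mathlib.AlgebraicGeometry.Pullbacks

set_option autoImplicit false

universe u

open CategoryTheory CategoryTheory.Limits AlgebraicGeometry Opposite TopologicalSpace

noncomputable section

namespace Groth.Ega2P2

variable {W Z : Scheme.{u}} {I : Type u} (X : I → Scheme.{u}) (e : ∀ i, X i ⟶ W)
  [∀ i, IsOpenImmersion (e i)] (hcov : ∀ w : W, ∃ i, w ∈ Set.range (e i).base)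

/-- The open cover by a covering family of open immersions. -/
def famCover : W.OpenCover where
  I₀ := I
  X := X
  f := e
  mem₀ := by
    rw [Scheme.presieve₀_mem_precoverage_iff]
    exact ⟨hcov, inferInstance⟩

variable (g : ∀ i, X i ⟶ Z)
  (hdir : ∀ (i j : I) (xi : X i) (xj : X j), (e i).base xi = (e j).base xj →
    ∃ (k : I) (a : X k ⟶ X i) (b : X k ⟶ X j), a ≫ e i = e k ∧ b ≫ e j = e k ∧
      a ≫ g i = g k ∧ b ≫ g j = g k ∧ (e i).base xi ∈ Set.range (e k).base)

include hdir in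
theorem fam_overlap {T : Scheme.{u}} (i j : I) (a : T ⟶ X i) (b : T ⟶ X j)
    (hab : a ≫ e i = b ≫ e j) : a ≫ g i = b ≫ g j := by
  have loc : ∀ x : T, ∃ O : T.Opens, x ∈ O ∧ O.ι ≫ a ≫ g i = O.ι ≫ b ≫ g j := by
    intro x
    have hx : (e i).base (a.base x) = (e j).base (b.base x) := by
      change (a ≫ e i).base x = (b ≫ e j).base x
      rw [hab]
    obtain ⟨k, c, d, hce, hde, hcg, hdg, hk⟩ := hdir i j _ _ hx
    refine ⟨(a ≫ e i) ⁻¹ᵁ (e k).opensRange, hk, ?_⟩
    set O : T.Opens := (a ≫ e i) ⁻¹ᵁ (e k).opensRange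
    have hsub : Set.range (O.ι ≫ a ≫ e i).base ⊆ Set.range (e k).base := by
      rintro _ ⟨y, rfl⟩
      exact y.2
    let w := IsOpenImmersion.lift (e k) _ hsub
    have hw : w ≫ e k = O.ι ≫ a ≫ e i := IsOpenImmersion.lift_fac _ _ _
    have e1 : w ≫ c = O.ι ≫ a := by
      rw [← cancel_mono (e i), Category.assoc, hce, hw, Category.assoc]
    have e2 : w ≫ d = O.ι ≫ b := by
      rw [← cancel_mono (e j), Category.assoc, hde, hw, Category.assoc, hab]
    rw [← reassoc_of% e1, ← reassoc_of% e2, hcg, hdg]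
  choose O hO1 hO2 using loc
  refine (T.openCoverOfIsOpenCover O (TopologicalSpace.Opens.ext ?_)).hom_ext _ _ fun x ↦ hO2 x
  exact Set.eq_univ_of_forall fun x ↦ by simpa using ⟨x, hO1 x⟩

instance (i : (famCover X e hcov).I₀) : IsOpenImmersion ((famCover X e hcov).f i) :=
  ‹∀ i, IsOpenImmersion (e i)› i

include hcov hdir in
theorem fam_existsUnique : ∃! h : W ⟶ Z, ∀ i, e i ≫ h = g i := by
  refine ⟨(famCover X e hcov).glueMorphisms g fun i j ↦
    fam_overlap X e g hdir i j _ _ pullback.condition,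
    fun i ↦ (famCover X e hcov).ι_glueMorphisms g _ i, fun h hh ↦ ?_⟩
  refine (famCover X e hcov).hom_ext _ _ fun i ↦ (hh i).trans ?_
  exact ((famCover X e hcov).ι_glueMorphisms g _ i).symm

include hcov in
theorem fam_hom_ext {a b : W ⟶ Z} (h : ∀ i, e i ≫ a = e i ≫ b) : a = b :=
  (famCover X e hcov).hom_ext _ _ h

end Groth.Ega2P2
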