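/-
`Spec(u)` for a morphism of algebras over a morphism of bases (EGA II 1.5.6).
-/
import Groth.Prelude.Def_RelProj4
import Groth.Agent.Ega2Proj2.ChartMaps
import Groth.Agent.Ega2Proj2.RelProjBasic
import Groth.Agent.Ega2Proj2.Glue

set_option autoImplicit false

universe u

open CategoryTheory CategoryTheory.Limits AlgebraicGeometry Opposite TopologicalSpace

noncomputable section

namespace Groth.Ega2P2

variable {S S' : Scheme.{u}} {g : S' ⟶ S} {A : RelSpec.QCAlg S} {B : RelSpec.QCAlg S'}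

/-- Charts of relative spectra restrict along basic opens. -/
lemma specι_res_of_eq (A : RelSpec.QCAlg S) {U : S.Opens} (hU : IsAffineOpen U) {V : S.Opens}
    (hV : IsAffineOpen V) (r : Γ(S, U)) (hr : S.basicOpen r = V) :
    Spec.map (A.presheaf.map (homOfLE (le_of_basicOpen_eq hr)).op) ≫ A.ι U hU = A.ι V hV := by
  subst hr
  exact (specCharts A).fac U hU r

lemma appLE_res (u : RelSpec.QHom g A B) {U : S.Opens} {U' : S'.Opens} (hle : U' ≤ g ⁻¹ᵁ U)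
    {Z : S.Opens} (iZ : Z ≤ U) {W : S'.Opens} (iW : W ≤ U') (hWZ : W ≤ g ⁻¹ᵁ Z) :
    u.appLE U U' hle ≫ B.presheaf.map (homOfLE iW).op =
      A.presheaf.map (homOfLE iZ).op ≫ u.appLE Z W hWZ :=
  (u.appLE_map hle iW).trans (u.map_appLE iZ hWZ).symm

/-- `Spec(u)` exists, is unique and lies over the morphism of bases. -/
theorem existsUnique_specQMap (u : RelSpec.QHom g A B) :
    ∃! v : B.spec ⟶ A.spec, RelSpec.IsSpecQMap u v := by
  let I := {i : S.affineOpens × S'.affineOpens // (i.2 : S'.Opens) ≤ g ⁻¹ᵁ (i.1 : S.Opens)}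
  let X : I → Scheme.{u} := fun i ↦ Spec (B.presheaf.obj (op (i.1.2 : S'.Opens)))
  let e : ∀ i, X i ⟶ B.spec := fun i ↦ B.ι i.1.2.1 i.1.2.2
  let t : ∀ i, X i ⟶ A.spec := fun i ↦
    Spec.map (u.appLE i.1.1.1 i.1.2.1 i.2) ≫ A.ι i.1.1.1 i.1.1.2
  have hcov : ∀ w : B.spec, ∃ i, w ∈ Set.range (e i).base := by
    intro w
    obtain ⟨U, hgU⟩ := Opens.mem_iSup.mp
      ((iSup_affineOpens_eq_top S).ge (Set.mem_univ (g.base (B.π.base w))))
    obtain ⟨_, ⟨U', hU', rfl⟩, hwU', hle⟩ := S'.isBasis_affineOpens.exists_subset_of_mem_open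
      (show B.π.base w ∈ g ⁻¹ᵁ U.1 from hgU) (g ⁻¹ᵁ U.1).2
    exact ⟨⟨(U, ⟨U', hU'⟩), hle⟩, (specCharts B).mem_range hU' hwU'⟩
  haveI : ∀ i, IsOpenImmersion (e i) := fun i ↦ (specCharts B).isOpenImmersion _ i.1.2.2
  obtain ⟨v, hv, huniq⟩ := fam_existsUnique X e hcov t (fun i j xi xj hx ↦ by
    obtain ⟨⟨⟨U, hU⟩, ⟨U', hU'⟩⟩, hle⟩ := i
    obtain ⟨⟨⟨V, hV⟩, ⟨V', hV'⟩⟩, hle'⟩ := j
    have hyU : B.π.base ((B.ι U' hU').base xi) ∈ U' := (specCharts B).map_mem hU' xi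
    have hyV : B.π.base ((B.ι U' hU').base xi) ∈ V' := by
      have h1 := (specCharts B).map_mem hV' xj
      change B.π.base ((B.ι V' hV').base xj) ∈ V' at h1
      rwa [← show (B.ι U' hU').base xi = (B.ι V' hV').base xj from hx] at h1
    obtain ⟨Z, hZ, hyZ, -, ⟨r, hr⟩, s, hs⟩ := exists_common_basic hU hV ⊤
      (g.base (B.π.base ((B.ι U' hU').base xi))) (hle hyU) (hle' hyV) trivial
    obtain ⟨W, hW, hyW, hWZ, ⟨a, ha⟩, b, hb⟩ := exists_common_basic hU' hV' (g ⁻¹ᵁ Z)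
      (B.π.base ((B.ι U' hU').base xi)) hyU hyV hyZ
    refine ⟨⟨(⟨Z, hZ⟩, ⟨W, hW⟩), hWZ⟩,
      Spec.map (B.presheaf.map (homOfLE (le_of_basicOpen_eq ha)).op),
      Spec.map (B.presheaf.map (homOfLE (le_of_basicOpen_eq hb)).op),
      specι_res_of_eq B hU' hW a ha, specι_res_of_eq B hV' hW b hb, ?_, ?_,
      (specCharts B).mem_range hW hyW⟩
    · dsimp only [t]
      rw [← Spec.map_comp_assoc, appLE_res u hle (le_of_basicOpen_eq hr) (le_of_basicOpen_eq ha) hWZ,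
        Spec.map_comp_assoc, specι_res_of_eq A hU hZ r hr]
    · dsimp only [t]
      rw [← Spec.map_comp_assoc, appLE_res u hle' (le_of_basicOpen_eq hs) (le_of_basicOpen_eq hb) hWZ,
        Spec.map_comp_assoc, specι_res_of_eq A hV hZ s hs])
  refine ⟨v, fun U hU U' hU' hle ↦ hv ⟨(⟨U, hU⟩, ⟨U', hU'⟩), hle⟩, fun v' hv' ↦ huniq v' fun i ↦ ?_⟩
  exact hv' i.1.1.1 i.1.1.2 i.1.2.1 i.1.2.2 i.2

/-- `Spec(u)` lies over the morphism of bases. -/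
theorem specQMap_π (u : RelSpec.QHom g A B) {v : B.spec ⟶ A.spec} (hv : RelSpec.IsSpecQMap u v) :
    v ≫ A.π = B.π ≫ g := by
  let I := {i : S.affineOpens × S'.affineOpens // (i.2 : S'.Opens) ≤ g ⁻¹ᵁ (i.1 : S.Opens)}
  haveI : ∀ i : I, IsOpenImmersion (B.ι (i.1.2 : S'.Opens) i.1.2.2) :=
    fun i ↦ (specCharts B).isOpenImmersion _ i.1.2.2
  refine fam_hom_ext (fun i : I ↦ Spec (B.presheaf.obj (op (i.1.2 : S'.Opens))))
    (fun i ↦ B.ι i.1.2.1 i.1.2.2) (fun w ↦ ?_) fun i ↦ ?_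
  · obtain ⟨U, hgU⟩ := Opens.mem_iSup.mp
      ((iSup_affineOpens_eq_top S).ge (Set.mem_univ (g.base (B.π.base w))))
    obtain ⟨_, ⟨U', hU', rfl⟩, hwU', hle⟩ := S'.isBasis_affineOpens.exists_subset_of_mem_open
      (show B.π.base w ∈ g ⁻¹ᵁ U.1 from hgU) (g ⁻¹ᵁ U.1).2
    exact ⟨⟨(U, ⟨U', hU'⟩), hle⟩, (specCharts B).mem_range hU' hwU'⟩
  · obtain ⟨⟨⟨U, (hU : IsAffineOpen U)⟩, ⟨U', (hU' : IsAffineOpen U')⟩⟩, (hle : U' ≤ g ⁻¹ᵁ U)⟩ := i
    change B.ι U' hU' ≫ v ≫ A.π = B.ι U' hU' ≫ B.π ≫ g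
    rw [reassoc_of% (hv U hU U' hU' hle), A.ι_π, reassoc_of% (B.ι_π U' hU'),
      ← hU.SpecMap_appLE_fromSpec g hU' hle, ← Spec.map_comp_assoc, ← Spec.map_comp_assoc,
      u.str_appLE U U' hle]

end Groth.Ega2P2
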