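/-
Morphisms of Proj induced by (eventually) surjective / bijective graded homomorphisms.
-/
import Groth.Agent.Ega2Proj2.ProjLoc
import Mathlib.AlgebraicGeometry.Morphisms.ClosedImmersion

set_option autoImplicit false

universe u

open CategoryTheory CategoryTheory.Limits AlgebraicGeometry Opposite TopologicalSpace
open scoped HomogeneousIdeal

noncomputable section

namespace Groth.Ega2P2

variable {A B σ τ : Type u} [CommRing A] [SetLike σ A] [AddSubgroupClass σ A]
  [CommRing B] [SetLike τ B] [AddSubgroupClass τ B]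
  {𝒜 : ℕ → σ} {ℬ : ℕ → τ} [GradedRing 𝒜] [GradedRing ℬ]
  (ψ : 𝒜 →+*ᵍ ℬ)

lemma awayMap_surjective_of_eventually {N : ℕ}
    (hN : ∀ k, N ≤ k → ∀ y ∈ ℬ k, ∃ x ∈ 𝒜 k, ψ x = y) {f : A} {d : ℕ} (hf : f ∈ 𝒜 d)
    (hd : 0 < d) : Function.Surjective (HomogeneousLocalization.Away.map ψ f) := by
  intro z
  obtain ⟨n, b, hb, rfl⟩ := HomogeneousLocalization.Away.mk_surjective ℬ (ψ.map_mem hf) z
  have hle : N ≤ (n + N) • d := by
    rw [smul_eq_mul]
    exact le_trans (Nat.le_add_left N n) (Nat.le_mul_of_pos_right _ hd)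
  obtain ⟨x, hx, hxe⟩ := hN _ hle (ψ f ^ N * b) (by
    rw [add_comm n N, add_smul]
    exact SetLike.mul_mem_graded (SetLike.pow_mem_graded N (ψ.map_mem hf)) hb)
  refine ⟨HomogeneousLocalization.Away.mk 𝒜 hf (n + N) x hx, ?_⟩
  erw [HomogeneousLocalization.Away.map_mk]
  apply HomogeneousLocalization.val_injective
  simp only [HomogeneousLocalization.Away.val_mk, hxe, Localization.mk_eq_mk_iff,
    Localization.r_iff_exists]
  exact ⟨1, by simp [pow_add]; ring⟩

lemma awayMap_injective_of_eventually {N : ℕ}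
    (hN : ∀ k, N ≤ k → ∀ x ∈ 𝒜 k, ψ x = 0 → x = 0) {f : A} {d : ℕ} (hf : f ∈ 𝒜 d)
    (hd : 0 < d) : Function.Injective (HomogeneousLocalization.Away.map ψ f) := by
  rw [injective_iff_map_eq_zero]
  intro z hz
  obtain ⟨n, a, ha, rfl⟩ := HomogeneousLocalization.Away.mk_surjective 𝒜 hf z
  erw [HomogeneousLocalization.Away.map_mk] at hz
  replace hz := congr_arg HomogeneousLocalization.val hz
  simp only [HomogeneousLocalization.Away.val_mk, HomogeneousLocalization.val_zero] at hz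
  rw [Localization.mk_eq_mk', IsLocalization.mk'_eq_zero_iff] at hz
  obtain ⟨⟨_, l, rfl⟩, hl⟩ := hz
  have hle : N ≤ (N + l + n) • d := by
    rw [smul_eq_mul]
    exact le_trans (by omega) (Nat.le_mul_of_pos_right _ hd)
  have h0 : f ^ (N + l) * a = 0 := by
    refine hN _ hle _ ?_ ?_
    · rw [add_smul]
      exact SetLike.mul_mem_graded (SetLike.pow_mem_graded _ hf) ha
    · change ψ f ^ l * ψ a = 0 at hl
      rw [map_mul, map_pow, pow_add, mul_assoc, hl, mul_zero]
  apply HomogeneousLocalization.val_injective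
  simp only [HomogeneousLocalization.Away.val_mk, HomogeneousLocalization.val_zero]
  rw [Localization.mk_eq_mk', IsLocalization.mk'_eq_zero_iff]
  exact ⟨⟨f ^ (N + l), N + l, rfl⟩, h0⟩

variable (hψ : ℬ₊ ≤ 𝒜₊.map ψ)

/-- A property local on the target holds for `Proj.map` if it does on the standard affines. -/
lemma projMap_of_away (Q : MorphismProperty Scheme.{u}) [IsZariskiLocalAtTarget Q]
    (hQ : ∀ (d : ℕ) (f : A), 0 < d → f ∈ 𝒜 d →
      Q (Spec.map (CommRingCat.ofHom (HomogeneousLocalization.Away.map ψ f)))) :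
    Q (Proj.map ψ hψ) := by
  refine IsZariskiLocalAtTarget.of_openCover (Proj.affineOpenCover 𝒜).openCover
    fun (s : Σ i : PNat, 𝒜 i) ↦ ?_
  have hp := isPullback_awayι ψ hψ s.1.pos s.2.2
  change Q (pullback.snd (Proj.map ψ hψ) (Proj.awayι 𝒜 (s.2 : A) s.2.2 s.1.pos))
  rw [← hp.isoPullback_inv_snd]
  exact (Q.cancel_left_of_respectsIso _ _).mpr (hQ _ _ s.1.pos s.2.2)

lemma isClosedImmersion_projMap {N : ℕ} (hN : ∀ k, N ≤ k → ∀ y ∈ ℬ k, ∃ x ∈ 𝒜 k, ψ x = y) :
    IsClosedImmersion (Proj.map ψ hψ) :=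
  projMap_of_away ψ hψ @IsClosedImmersion fun d f hd hf ↦
    IsClosedImmersion.spec_of_surjective _ (awayMap_surjective_of_eventually ψ hN hf hd)

lemma isIso_projMap {N : ℕ} (hN : ∀ k, N ≤ k → ∀ y ∈ ℬ k, ∃ x ∈ 𝒜 k, ψ x = y)
    (hN' : ∀ k, N ≤ k → ∀ x ∈ 𝒜 k, ψ x = 0 → x = 0) : IsIso (Proj.map ψ hψ) := by
  refine projMap_of_away ψ hψ (MorphismProperty.isomorphisms Scheme) fun d f hd hf ↦ ?_
  have : IsIso (CommRingCat.ofHom (HomogeneousLocalization.Away.map ψ f)) :=
    (ConcreteCategory.isIso_iff_bijective _).mpr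
      ⟨awayMap_injective_of_eventually ψ hN' hf hd, awayMap_surjective_of_eventually ψ hN hf hd⟩
  change IsIso _
  infer_instance

lemma eventually_surj_of_surjective (hs : Function.Surjective ψ) :
    ∀ k, 0 ≤ k → ∀ y ∈ ℬ k, ∃ x ∈ 𝒜 k, ψ x = y := by
  intro k _ y hy
  obtain ⟨x, rfl⟩ := hs y
  refine ⟨DirectSum.decompose 𝒜 x k, SetLike.coe_mem _, ?_⟩
  rw [GradedRingHom.map_directSumDecompose, DirectSum.decompose_of_mem_same _ hy]

end Groth.Ega2P2
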