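/-
The morphism `Proj(u)` on its open of definition.
-/
import Groth.Prelude.Def_RelProj4
import Groth.Agent.Ega2Proj2.Glue
import Groth.Agent.Ega2Proj2.ChartMaps
import Groth.Agent.Ega2Proj2.RelProjProps

set_option autoImplicit false

universe u

open CategoryTheory CategoryTheory.Limits AlgebraicGeometry Opposite TopologicalSpace
open scoped HomogeneousIdeal

noncomputable section

namespace Groth.Ega2P2

variable {S S' : Scheme.{u}} {g : S' ⟶ S} {𝒮 : RelProj.QCGrAlg S} {𝒮' : RelProj.QCGrAlg S'}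
  (u : RelProj.QGrHom g 𝒮 𝒮')

lemma le_preimage_trans {g : S' ⟶ S} {U V : S.Opens} {W : S'.Opens} (h : W ≤ g ⁻¹ᵁ U)
    (i : U ≤ V) : W ≤ g ⁻¹ᵁ V := h.trans (g.preimage_mono i)

/-- `u` commutes with restrictions, as graded homomorphisms. -/
lemma gradedAt_res {U : S.Opens} (hU : IsAffineOpen U) {U' : S'.Opens} (hU' : IsAffineOpen U')
    (hle : U' ≤ g ⁻¹ᵁ U) {Z : S.Opens} (hZ : IsAffineOpen Z) (iZ : Z ≤ U) {W : S'.Opens}
    (hW : IsAffineOpen W) (iW : W ≤ U') (hWZ : W ≤ g ⁻¹ᵁ Z) :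
    (𝒮'.res hU' hW iW).comp (u.gradedAt U hU U' hU' hle) =
      (u.gradedAt Z hZ W hW hWZ).comp (𝒮.res hU hZ iZ) := by
  refine DFunLike.ext _ _ fun x ↦ ?_
  have h1 := congr($(u.toQHom.appLE_map hle iW).hom x)
  have h2 := congr($(u.toQHom.map_appLE iZ hWZ).hom x)
  exact h1.trans h2.symm

/-- An index of a standard chart of `Proj(u)`. -/
structure ChartIdx where
  U : S.Opens
  hU : IsAffineOpen U
  U' : S'.Opens
  hU' : IsAffineOpen U'
  hle : U' ≤ g ⁻¹ᵁ U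
  d : ℕ
  hd : 0 < d
  f : 𝒮.presheaf.obj (op U)
  hf : f ∈ 𝒮.deg U hU d

variable {P : Scheme.{u}} {p : P ⟶ S}
  {chart : ∀ (U : S.Opens) (hU : IsAffineOpen U),
    (((p ⁻¹ᵁ U : P.Opens) : Scheme.{u}) ≅ Proj (𝒮.deg U hU))}
  {P' : Scheme.{u}} {p' : P' ⟶ S'}
  {chart' : ∀ (U' : S'.Opens) (hU' : IsAffineOpen U'),
    (((p' ⁻¹ᵁ U' : P'.Opens) : Scheme.{u}) ≅ Proj (𝒮'.deg U' hU'))}

/-- The target of a standard chart. -/
def qTgt (p : P ⟶ S) (chart : ∀ (U : S.Opens) (hU : IsAffineOpen U),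
    (((p ⁻¹ᵁ U : P.Opens) : Scheme.{u}) ≅ Proj (𝒮.deg U hU)))
    (U : S.Opens) (hU : IsAffineOpen U) (U' : S'.Opens) (hU' : IsAffineOpen U')
    (hle : U' ≤ g ⁻¹ᵁ U) {d : ℕ} (hd : 0 < d) (f : 𝒮.presheaf.obj (op U))
    (hf : f ∈ 𝒮.deg U hU d) :
    Spec (CommRingCat.of (HomogeneousLocalization.Away (𝒮'.deg U' hU')
      (u.gradedAt U hU U' hU' hle f))) ⟶ P :=
  Spec.map (CommRingCat.ofHom (HomogeneousLocalization.Away.map (u.gradedAt U hU U' hU' hle) f)) ≫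
    Proj.awayι (𝒮.deg U hU) f hf hd ≫ RelProj.emb p chart U hU

lemma emb_mem_range_awayEmb {U : S.Opens} (hU : IsAffineOpen U) {U' : S'.Opens}
    (hU' : IsAffineOpen U') (hle : U' ≤ g ⁻¹ᵁ U) {d : ℕ} (hd : 0 < d)
    (f : 𝒮.presheaf.obj (op U)) (hf : f ∈ 𝒮.deg U hU d) (y : Proj (𝒮'.deg U' hU')) :
    (RelProj.emb p' chart' U' hU').base y ∈
        Set.range (RelProj.awayEmb u p' chart' U hU U' hU' hle hd f hf).base ↔
      y ∈ Proj.basicOpen (𝒮'.deg U' hU') (u.gradedAt U hU U' hU' hle f) := by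
  have hr := Proj.opensRange_awayι (𝒮'.deg U' hU') (u.gradedAt U hU U' hU' hle f)
    ((u.gradedAt U hU U' hU' hle).map_mem hf) hd
  refine Iff.trans ?_ (iff_of_eq (congrArg (y ∈ ·) hr))
  constructor
  · rintro ⟨w, hw⟩
    exact ⟨w, (RelProj.emb p' chart' U' hU').isOpenEmbedding.injective hw⟩
  · rintro ⟨w, rfl⟩
    exact ⟨w, rfl⟩

lemma mem_domOpen_iff {U : S.Opens} (hU : IsAffineOpen U) {U' : S'.Opens} (hU' : IsAffineOpen U')
    (hle : U' ≤ g ⁻¹ᵁ U) (y : Proj (𝒮'.deg U' hU')) :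
    y ∈ RelCone.domOpen (u.gradedAt U hU U' hU' hle) ↔
      ∃ (d : ℕ) (f : 𝒮.presheaf.obj (op U)), 0 < d ∧ f ∈ 𝒮.deg U hU d ∧
        y ∈ Proj.basicOpen (𝒮'.deg U' hU') (u.gradedAt U hU U' hU' hle f) := by
  classical
  rw [RelCone.mem_domOpen]
  constructor
  · rintro ⟨f, hf, hfy⟩
    by_contra! hcon
    apply hfy
    rw [← DirectSum.sum_support_decompose (𝒮.deg U hU) f, map_sum]
    refine sum_mem fun i _ ↦ ?_
    by_cases hi : i = 0
    · subst hi
      rw [← GradedRing.proj_apply, (HomogeneousIdeal.mem_irrelevant_iff _ _).mp hf, map_zero]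
      exact zero_mem _
    · exact not_not.mp (hcon i _ (Nat.pos_of_ne_zero hi) (SetLike.coe_mem _))
  · rintro ⟨d, f, hd, hf, hy⟩
    exact ⟨f, HomogeneousIdeal.mem_irrelevant_of_mem _ hd hf, hy⟩

/-- Every point of `G(u)` lies in a standard chart. -/
lemma exists_chart_of_mem_domQ {z : P'} (hz : z ∈ RelProj.domQ u p' chart') :
    ∃ i : ChartIdx (g := g) (𝒮 := 𝒮), z ∈
      Set.range (RelProj.awayEmb u p' chart' i.U i.hU i.U' i.hU' i.hle i.hd i.f i.hf).base := by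
  obtain ⟨⟨⟨⟨U, hU⟩, ⟨U', hU'⟩⟩, hle⟩, y, hy, rfl⟩ := Opens.mem_iSup.mp hz
  obtain ⟨d, f, hd, hf, hy⟩ := (mem_domOpen_iff u hU hU' hle y).mp hy
  exact ⟨⟨U, hU, U', hU', hle, d, hd, f, hf⟩, (emb_mem_range_awayEmb u hU hU' hle hd f hf y).mpr hy⟩

lemma range_awayEmb_mem_domQ (i : ChartIdx (g := g) (𝒮 := 𝒮)) :
    Set.range (RelProj.awayEmb u p' chart' i.U i.hU i.U' i.hU' i.hle i.hd i.f i.hf).base ⊆
      Set.range (RelProj.domQ u p' chart').ι.base :=
  RelProj.range_awayEmb_subset_domQ u p' chart' i.U i.hU i.U' i.hU' i.hle i.hd i.f i.hf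

variable (h : RelProj.IsRelProj 𝒮 p chart) (h' : RelProj.IsRelProj 𝒮' p' chart')

include h h' in
/-- Restriction of the standard charts to smaller basic opens. -/
lemma exists_chart_res {U : S.Opens} (hU : IsAffineOpen U) {U' : S'.Opens}
    (hU' : IsAffineOpen U') (hle : U' ≤ g ⁻¹ᵁ U) {d : ℕ} (hd : 0 < d)
    (f : 𝒮.presheaf.obj (op U)) (hf : f ∈ 𝒮.deg U hU d) {Z : S.Opens} (hZ : IsAffineOpen Z)
    (r : Γ(S, U)) (hr : S.basicOpen r = Z) {W : S'.Opens} (hW : IsAffineOpen W) (a : Γ(S', U'))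
    (ha : S'.basicOpen a = W) (hWZ : W ≤ g ⁻¹ᵁ Z) :
    ∃ m, m ≫ RelProj.awayEmb u p' chart' U hU U' hU' hle hd f hf =
        RelProj.awayEmb u p' chart' Z hZ W hW hWZ hd (𝒮.res hU hZ (le_of_basicOpen_eq hr) f)
          ((𝒮.res hU hZ (le_of_basicOpen_eq hr)).map_mem hf) ∧
      m ≫ qTgt u p chart U hU U' hU' hle hd f hf =
        qTgt u p chart Z hZ W hW hWZ hd (𝒮.res hU hZ (le_of_basicOpen_eq hr) f)
          ((𝒮.res hU hZ (le_of_basicOpen_eq hr)).map_mem hf) := by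
  have hcomm := gradedAt_res u hU hU' hle hZ (le_of_basicOpen_eq hr) hW (le_of_basicOpen_eq ha) hWZ
  have he : 𝒮'.res hU' hW (le_of_basicOpen_eq ha) (u.gradedAt U hU U' hU' hle f) =
      u.gradedAt Z hZ W hW hWZ (𝒮.res hU hZ (le_of_basicOpen_eq hr) f) :=
    DFunLike.congr_fun hcomm f
  refine ⟨Spec.map (CommRingCat.ofHom (amap _ _ _ he)), ?_, ?_⟩
  · rw [RelProj.awayEmb, RelProj.awayEmb,
      ← map_res_emb_of_eq h' hU' hW (le_of_basicOpen_eq ha) a ha, ← Category.assoc,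
      ← Category.assoc]
    congr 1
    exact (awayι_comp_map_amap _ _ hd _ _ _ he _).symm
  · rw [qTgt, qTgt, ← map_res_emb_of_eq h hU hZ (le_of_basicOpen_eq hr) r hr,
      Proj.awayι_comp_map_assoc _ _ hd f hf, ← Spec.map_comp_assoc, ← Spec.map_comp_assoc,
      ← CommRingCat.ofHom_comp, ← CommRingCat.ofHom_comp]
    congr 3
    rw [← amap_rfl, ← amap_rfl, ← amap_rfl, amap_comp, amap_comp]
    exact amap_congr hcomm _ _ _

/-- Product of two standard charts. -/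
lemma exists_chart_mul {U : S.Opens} (hU : IsAffineOpen U) {U' : S'.Opens}
    (hU' : IsAffineOpen U') (hle : U' ≤ g ⁻¹ᵁ U) {d : ℕ} (hd : 0 < d)
    (f : 𝒮.presheaf.obj (op U)) (hf : f ∈ 𝒮.deg U hU d) {d' : ℕ} (k : 𝒮.presheaf.obj (op U))
    (hk : k ∈ 𝒮.deg U hU d') (x : 𝒮.presheaf.obj (op U)) (hx : x = f * k) {n : ℕ} (hn : 0 < n)
    (hxn : x ∈ 𝒮.deg U hU n) :
    ∃ m, m ≫ RelProj.awayEmb u p' chart' U hU U' hU' hle hd f hf =
        RelProj.awayEmb u p' chart' U hU U' hU' hle hn x hxn ∧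
      m ≫ qTgt u p chart U hU U' hU' hle hd f hf = qTgt u p chart U hU U' hU' hle hn x hxn := by
  refine ⟨Spec.map (CommRingCat.ofHom (HomogeneousLocalization.awayMap (𝒮'.deg U' hU')
    ((u.gradedAt U hU U' hU' hle).map_mem hk)
    (show u.gradedAt U hU U' hU' hle x = _ * _ by rw [hx, map_mul]; rfl))), ?_, ?_⟩
  · rw [RelProj.awayEmb, RelProj.awayEmb, ← Category.assoc, Proj.SpecMap_awayMap_awayι]
    rfl
  · rw [qTgt, qTgt, ← Spec.map_comp_assoc, ← CommRingCat.ofHom_comp,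
      awayMap_comp_map _ hf hk hx, CommRingCat.ofHom_comp, Spec.map_comp_assoc,
      Proj.SpecMap_awayMap_awayι_assoc]
    rfl

include h h' in
/-- The standard charts are directed. -/
lemma chart_directed (i j : ChartIdx (g := g) (𝒮 := 𝒮)) (z : P')
    (hzi : z ∈ Set.range (RelProj.awayEmb u p' chart' i.U i.hU i.U' i.hU' i.hle i.hd i.f i.hf).base)
    (hzj : z ∈ Set.range (RelProj.awayEmb u p' chart' j.U j.hU j.U' j.hU' j.hle j.hd j.f j.hf).base) :
    ∃ (k : ChartIdx (g := g) (𝒮 := 𝒮)) (a : _ ⟶ _) (b : _ ⟶ _),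
      a ≫ RelProj.awayEmb u p' chart' i.U i.hU i.U' i.hU' i.hle i.hd i.f i.hf =
          RelProj.awayEmb u p' chart' k.U k.hU k.U' k.hU' k.hle k.hd k.f k.hf ∧
      b ≫ RelProj.awayEmb u p' chart' j.U j.hU j.U' j.hU' j.hle j.hd j.f j.hf =
          RelProj.awayEmb u p' chart' k.U k.hU k.U' k.hU' k.hle k.hd k.f k.hf ∧
      a ≫ qTgt u p chart i.U i.hU i.U' i.hU' i.hle i.hd i.f i.hf =
          qTgt u p chart k.U k.hU k.U' k.hU' k.hle k.hd k.f k.hf ∧
      b ≫ qTgt u p chart j.U j.hU j.U' j.hU' j.hle j.hd j.f j.hf =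
          qTgt u p chart k.U k.hU k.U' k.hU' k.hle k.hd k.f k.hf ∧
      z ∈ Set.range (RelProj.awayEmb u p' chart' k.U k.hU k.U' k.hU' k.hle k.hd k.f k.hf).base := by
  obtain ⟨wi, hwi⟩ := id hzi
  obtain ⟨wj, hwj⟩ := id hzj
  have hyi : p'.base z ∈ i.U' := by
    rw [← hwi]
    exact (projCharts h').map_mem i.hU' _
  have hyj : p'.base z ∈ j.U' := by
    rw [← hwj]
    exact (projCharts h').map_mem j.hU' _
  obtain ⟨Z, hZ, hyZ, -, ⟨r, hr⟩, s, hs⟩ := exists_common_basic i.hU j.hU ⊤ (g.base (p'.base z))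
    (i.hle hyi) (j.hle hyj) trivial
  obtain ⟨W, hW, hyW, hWZ, ⟨a, ha⟩, b, hb⟩ := exists_common_basic i.hU' j.hU' (g ⁻¹ᵁ Z) (p'.base z)
    hyi hyj hyZ
  let fi := 𝒮.res i.hU hZ (le_of_basicOpen_eq hr) i.f
  let fj := 𝒮.res j.hU hZ (le_of_basicOpen_eq hs) j.f
  have hfi : fi ∈ 𝒮.deg Z hZ i.d := (𝒮.res i.hU hZ (le_of_basicOpen_eq hr)).map_mem i.hf
  have hfj : fj ∈ 𝒮.deg Z hZ j.d := (𝒮.res j.hU hZ (le_of_basicOpen_eq hs)).map_mem j.hf
  have hfij : fi * fj ∈ 𝒮.deg Z hZ (i.d + j.d) := SetLike.mul_mem_graded hfi hfj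
  have hn : 0 < i.d + j.d := Nat.add_pos_left i.hd _
  obtain ⟨m1, hm1, hm1'⟩ := exists_chart_res (p' := p') (chart' := chart') (p := p)
    (chart := chart) u h h' i.hU i.hU' i.hle i.hd i.f i.hf hZ r hr hW a ha hWZ
  obtain ⟨m2, hm2, hm2'⟩ := exists_chart_res (p' := p') (chart' := chart') (p := p)
    (chart := chart) u h h' j.hU j.hU' j.hle j.hd j.f j.hf hZ s hs hW b hb hWZ
  obtain ⟨n1, hn1, hn1'⟩ := exists_chart_mul (p' := p') (chart' := chart') (p := p)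
    (chart := chart) u hZ hW hWZ i.hd fi hfi fj hfj (fi * fj) rfl hn hfij
  obtain ⟨n2, hn2, hn2'⟩ := exists_chart_mul (p' := p') (chart' := chart') (p := p)
    (chart := chart) u hZ hW hWZ j.hd fj hfj fi hfi (fi * fj) (mul_comm _ _) hn hfij
  refine ⟨⟨Z, hZ, W, hW, hWZ, i.d + j.d, hn, fi * fj, hfij⟩, n1 ≫ m1, n2 ≫ m2, ?_, ?_, ?_, ?_, ?_⟩
  · rw [Category.assoc, hm1]; exact hn1
  · rw [Category.assoc, hm2]; exact hn2
  · rw [Category.assoc, hm1']; exact hn1'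
  · rw [Category.assoc, hm2']; exact hn2'
  -- the point lies in the common chart
  obtain ⟨y, hy⟩ : ∃ y : Proj (𝒮'.deg W hW), (RelProj.emb p' chart' W hW).base y = z :=
    (projCharts h').mem_range hW hyW
  dsimp only
  rw [← hy, emb_mem_range_awayEmb, map_mul, Proj.basicOpen_mul]
  have key : ∀ (V : S.Opens) (hV : IsAffineOpen V) (V' : S'.Opens) (hV' : IsAffineOpen V')
      (hVle : V' ≤ g ⁻¹ᵁ V) (dd : ℕ) (hdd : 0 < dd) (k : 𝒮.presheaf.obj (op V))
      (hk : k ∈ 𝒮.deg V hV dd) (r : Γ(S, V)) (hr : S.basicOpen r = Z) (a : Γ(S', V'))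
      (ha : S'.basicOpen a = W),
      z ∈ Set.range (RelProj.awayEmb u p' chart' V hV V' hV' hVle hdd k hk).base →
      y ∈ Proj.basicOpen (𝒮'.deg W hW)
        (u.gradedAt Z hZ W hW hWZ (𝒮.res hV hZ (le_of_basicOpen_eq hr) k)) := by
    intro V hV V' hV' hVle dd hdd k hk r hr a ha hz
    rw [← hy, ← map_res_emb_of_eq h' hV' hW (le_of_basicOpen_eq ha) a ha] at hz
    have h2 := (emb_mem_range_awayEmb u hV hV' hVle hdd k hk _).mp hz
    rw [show u.gradedAt Z hZ W hW hWZ (𝒮.res hV hZ (le_of_basicOpen_eq hr) k) =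
      𝒮'.res hV' hW (le_of_basicOpen_eq ha) (u.gradedAt V hV V' hV' hVle k) from
        (DFunLike.congr_fun (gradedAt_res u hV hV' hVle hZ (le_of_basicOpen_eq hr) hW
          (le_of_basicOpen_eq ha) hWZ) k).symm,
      ← Proj.map_preimage_basicOpen _ (irrelevant_le_map_of_eq 𝒮' hV' hW _ a ha)]
    exact h2
  exact ⟨key i.U i.hU i.U' i.hU' i.hle i.d i.hd i.f i.hf r hr a ha hzi,
    key j.U j.hU j.U' j.hU' j.hle j.d j.hd j.f j.hf s hs b hb hzj⟩

instance (U : S.Opens) (hU : IsAffineOpen U) (U' : S'.Opens) (hU' : IsAffineOpen U')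
    (hle : U' ≤ g ⁻¹ᵁ U) {d : ℕ} (hd : 0 < d) (f : 𝒮.presheaf.obj (op U))
    (hf : f ∈ 𝒮.deg U hU d) :
    IsOpenImmersion (RelProj.awayEmb u p' chart' U hU U' hU' hle hd f hf) := by
  unfold RelProj.awayEmb
  infer_instance

/-- A standard chart as a map into `G(u)`. -/
def qLift (i : ChartIdx (g := g) (𝒮 := 𝒮)) :
    Spec (CommRingCat.of (HomogeneousLocalization.Away (𝒮'.deg i.U' i.hU')
      (u.gradedAt i.U i.hU i.U' i.hU' i.hle i.f))) ⟶
      ((RelProj.domQ u p' chart' : P'.Opens) : Scheme.{u}) :=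
  IsOpenImmersion.lift (RelProj.domQ u p' chart').ι _ (range_awayEmb_mem_domQ u i)

@[reassoc]
lemma qLift_ι (i : ChartIdx (g := g) (𝒮 := 𝒮)) :
    qLift (p' := p') (chart' := chart') u i ≫ (RelProj.domQ u p' chart').ι =
      RelProj.awayEmb u p' chart' i.U i.hU i.U' i.hU' i.hle i.hd i.f i.hf :=
  IsOpenImmersion.lift_fac _ _ _

instance (i : ChartIdx (g := g) (𝒮 := 𝒮)) :
    IsOpenImmersion (qLift (p' := p') (chart' := chart') u i) := by
  have : IsOpenImmersion (qLift (p' := p') (chart' := chart') u i ≫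
      (RelProj.domQ u p' chart').ι) := by rw [qLift_ι]; infer_instance
  exact IsOpenImmersion.of_comp _ (RelProj.domQ u p' chart').ι

include h h' in
/-- Existence and uniqueness of `Proj(u)` on `G(u)`. -/
theorem existsUnique_projQMapOn :
    ∃! v : ((RelProj.domQ u p' chart' : P'.Opens) : Scheme.{u}) ⟶ P,
      RelProj.IsProjQMapOn u p chart p' chart' (RelProj.domQ u p' chart') v := by
  let X : ChartIdx (g := g) (𝒮 := 𝒮) → Scheme.{u} := fun i ↦
    Spec (CommRingCat.of (HomogeneousLocalization.Away (𝒮'.deg i.U' i.hU')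
      (u.gradedAt i.U i.hU i.U' i.hU' i.hle i.f)))
  let e : ∀ i, X i ⟶ ((RelProj.domQ u p' chart' : P'.Opens) : Scheme.{u}) := fun i ↦
    IsOpenImmersion.lift (RelProj.domQ u p' chart').ι _ (range_awayEmb_mem_domQ u i)
  have he : ∀ i, e i ≫ (RelProj.domQ u p' chart').ι =
      RelProj.awayEmb u p' chart' i.U i.hU i.U' i.hU' i.hle i.hd i.f i.hf :=
    fun i ↦ IsOpenImmersion.lift_fac _ _ _
  haveI : ∀ i, IsOpenImmersion (e i) := fun i ↦ by
    haveI : IsOpenImmersion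
        (RelProj.awayEmb u p' chart' i.U i.hU i.U' i.hU' i.hle i.hd i.f i.hf) := by
      unfold RelProj.awayEmb; infer_instance
    haveI : IsOpenImmersion (e i ≫ (RelProj.domQ u p' chart').ι) := by rw [he]; infer_instance
    exact IsOpenImmersion.of_comp _ (RelProj.domQ u p' chart').ι
  have hrange : ∀ i (w : ((RelProj.domQ u p' chart' : P'.Opens) : Scheme.{u})),
      (RelProj.domQ u p' chart').ι.base w ∈
        Set.range (RelProj.awayEmb u p' chart' i.U i.hU i.U' i.hU' i.hle i.hd i.f i.hf).base ↔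
      w ∈ Set.range (e i).base := by
    intro i w
    rw [← he i]
    constructor
    · rintro ⟨x, hx⟩
      exact ⟨x, (RelProj.domQ u p' chart').ι.isOpenEmbedding.injective hx⟩
    · rintro ⟨x, rfl⟩
      exact ⟨x, rfl⟩
  obtain ⟨v, hv, huniq⟩ := fam_existsUnique X e (fun w ↦ by
      obtain ⟨i, hi⟩ := exists_chart_of_mem_domQ (p' := p') (chart' := chart') u w.2
      exact ⟨i, (hrange i w).mp hi⟩)
    (fun i ↦ qTgt u p chart i.U i.hU i.U' i.hU' i.hle i.hd i.f i.hf) (fun i j xi xj hx ↦ by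
      obtain ⟨k, a, b, h1, h2, h3, h4, h5⟩ := chart_directed (p := p) (chart := chart)
        (p' := p') (chart' := chart') u h h' i j
        ((RelProj.domQ u p' chart').ι.base ((e i).base xi)) ((hrange i _).mpr ⟨xi, rfl⟩)
        (by rw [hx]; exact (hrange j _).mpr ⟨xj, rfl⟩)
      refine ⟨k, a, b, ?_, ?_, h3, h4, (hrange k _).mp h5⟩
      · rw [← cancel_mono (RelProj.domQ u p' chart').ι, Category.assoc, he, he]; exact h1
      · rw [← cancel_mono (RelProj.domQ u p' chart').ι, Category.assoc, he, he]; exact h2)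
  refine ⟨v, ?_, fun v' hv' ↦ huniq v' fun i ↦ hv' i.U i.hU i.U' i.hU' i.hle i.d i.hd i.f i.hf _⟩
  intro U hU U' hU' hle d hd f hf hW
  exact hv ⟨U, hU, U', hU', hle, d, hd, f, hf⟩

include h h' in
theorem qTgt_comp_p (i : ChartIdx (g := g) (𝒮 := 𝒮)) :
    qTgt u p chart i.U i.hU i.U' i.hU' i.hle i.hd i.f i.hf ≫ p =
      RelProj.awayEmb u p' chart' i.U i.hU i.U' i.hU' i.hle i.hd i.f i.hf ≫ p' ≫ g := by
  obtain ⟨U, hU, U', hU', hle, d, hd, f, hf⟩ := i
  dsimp only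
  rw [qTgt, RelProj.awayEmb, Category.assoc, Category.assoc, awayι_emb_p h U hU f hf hd,
    Category.assoc, reassoc_of% (awayι_emb_p h' U' hU' (u.gradedAt U hU U' hU' hle f)
      ((u.gradedAt U hU U' hU' hle).map_mem hf) hd),
    ← hU.SpecMap_appLE_fromSpec g hU' hle, ← Spec.map_comp_assoc, ← Spec.map_comp_assoc]
  congr 2
  refine CommRingCat.hom_ext (RingHom.ext fun r ↦ ?_)
  have e2 := DFunLike.congr_fun (awayMap_fromZero (u.gradedAt U hU U' hU' hle) f)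
    ((𝒮.strZero U hU).hom r)
  refine Eq.trans e2 ?_
  refine congrArg (HomogeneousLocalization.fromZeroRingHom (𝒮'.deg U' hU') _) (Subtype.ext ?_)
  exact congr($(u.toQHom.str_appLE U U' hle).hom r)

include h h' in
theorem projQMapOn_comp (v : ((RelProj.domQ u p' chart' : P'.Opens) : Scheme.{u}) ⟶ P)
    (hv : RelProj.IsProjQMapOn u p chart p' chart' (RelProj.domQ u p' chart') v) :
    v ≫ p = (RelProj.domQ u p' chart').ι ≫ p' ≫ g := by
  have loc : ∀ w : ((RelProj.domQ u p' chart' : P'.Opens) : Scheme.{u}), ∃ i,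
      w ∈ Set.range (qLift (p' := p') (chart' := chart') u i).base := by
    intro w
    obtain ⟨i, x, hx⟩ := exists_chart_of_mem_domQ (p' := p') (chart' := chart') u w.2
    refine ⟨i, x, (RelProj.domQ u p' chart').ι.isOpenEmbedding.injective ?_⟩
    refine Eq.trans ?_ hx
    change (qLift u i ≫ (RelProj.domQ u p' chart').ι).base x = _
    rw [qLift_ι]
  refine fam_hom_ext _ (qLift (p' := p') (chart' := chart') u) loc fun i ↦ ?_
  rw [← Category.assoc, show qLift u i ≫ v = qTgt u p chart i.U i.hU i.U' i.hU' i.hle i.hd i.f i.hf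
    from hv i.U i.hU i.U' i.hU' i.hle i.d i.hd i.f i.hf _, qTgt_comp_p u h h' i, ← Category.assoc,
    ← qLift_ι (p' := p') (chart' := chart') u i, Category.assoc, Category.assoc]

include h' in
/-- A point of the chart over `U'` in a standard chart at `(V, V', k)`, seen over a smaller pair. -/
lemma mem_basicOpen_res {Z : S.Opens} (hZ : IsAffineOpen Z) {W : S'.Opens} (hW : IsAffineOpen W)
    (hWZ : W ≤ g ⁻¹ᵁ Z) (y : Proj (𝒮'.deg W hW)) {V : S.Opens} (hV : IsAffineOpen V)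
    {V' : S'.Opens} (hV' : IsAffineOpen V') (hVle : V' ≤ g ⁻¹ᵁ V) {dd : ℕ} (hdd : 0 < dd)
    (k : 𝒮.presheaf.obj (op V)) (hk : k ∈ 𝒮.deg V hV dd) (r : Γ(S, V)) (hr : S.basicOpen r = Z)
    (a : Γ(S', V')) (ha : S'.basicOpen a = W)
    (hz : (RelProj.emb p' chart' W hW).base y ∈
      Set.range (RelProj.awayEmb u p' chart' V hV V' hV' hVle hdd k hk).base) :
    y ∈ Proj.basicOpen (𝒮'.deg W hW)
      (u.gradedAt Z hZ W hW hWZ (𝒮.res hV hZ (le_of_basicOpen_eq hr) k)) := by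
  rw [← map_res_emb_of_eq h' hV' hW (le_of_basicOpen_eq ha) a ha] at hz
  have h2 := (emb_mem_range_awayEmb u hV hV' hVle hdd k hk _).mp hz
  rw [show u.gradedAt Z hZ W hW hWZ (𝒮.res hV hZ (le_of_basicOpen_eq hr) k) =
    𝒮'.res hV' hW (le_of_basicOpen_eq ha) (u.gradedAt V hV V' hV' hVle k) from
      (DFunLike.congr_fun (gradedAt_res u hV hV' hVle hZ (le_of_basicOpen_eq hr) hW
        (le_of_basicOpen_eq ha) hWZ) k).symm,
    ← Proj.map_preimage_basicOpen _ (irrelevant_le_map_of_eq 𝒮' hV' hW _ a ha)]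
  exact h2

include h' in
/-- `G(u)` over an affine pair is the domain of the ring map. -/
theorem emb_mem_domQ_iff {U : S.Opens} (hU : IsAffineOpen U) {U' : S'.Opens}
    (hU' : IsAffineOpen U') (hle : U' ≤ g ⁻¹ᵁ U) (y : Proj (𝒮'.deg U' hU')) :
    (RelProj.emb p' chart' U' hU').base y ∈ RelProj.domQ u p' chart' ↔
      y ∈ RelCone.domOpen (u.gradedAt U hU U' hU' hle) := by
  constructor
  swap
  · intro hy
    exact Opens.mem_iSup.mpr ⟨⟨(⟨U, hU⟩, ⟨U', hU'⟩), hle⟩, y, hy, rfl⟩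
  intro hz
  obtain ⟨⟨V, hV, V', hV', hVle, d, hd, k, hk⟩, hj⟩ := exists_chart_of_mem_domQ u hz
  set z := (RelProj.emb p' chart' U' hU').base y with hzdef
  have hyU : p'.base z ∈ U' := (projCharts h').map_mem hU' y
  have hyV : p'.base z ∈ V' := by
    obtain ⟨w, hw⟩ := hj
    rw [← hw]
    exact (projCharts h').map_mem hV' _
  obtain ⟨Z, hZ, hyZ, -, ⟨r, hr⟩, s, hs⟩ := exists_common_basic hU hV ⊤ (g.base (p'.base z))
    (hle hyU) (hVle hyV) trivial
  obtain ⟨W, hW, hyW, hWZ, ⟨a, ha⟩, b, hb⟩ := exists_common_basic hU' hV' (g ⁻¹ᵁ Z) (p'.base z)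
    hyU hyV hyZ
  obtain ⟨yW, hyW'⟩ : ∃ yW : Proj (𝒮'.deg W hW), (RelProj.emb p' chart' W hW).base yW = z :=
    (projCharts h').mem_range hW hyW
  have hk' := mem_basicOpen_res u h' hZ hW hWZ yW hV hV' hVle hd k hk s hs b hb (hyW' ▸ hj)
  have hres : y = (Proj.map (𝒮'.res hU' hW (le_of_basicOpen_eq ha))
      (irrelevant_le_map_of_eq 𝒮' hU' hW _ a ha)).base yW := by
    apply (RelProj.emb p' chart' U' hU').isOpenEmbedding.injective
    refine Eq.trans ?_ (congr($(map_res_emb_of_eq h' hU' hW (le_of_basicOpen_eq ha) a ha).base yW)).symm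
    exact hzdef.symm.trans hyW'.symm
  set kZ := 𝒮.res hV hZ (le_of_basicOpen_eq hs) k
  have hkZ : kZ ∈ 𝒮.deg Z hZ d := (𝒮.res hV hZ (le_of_basicOpen_eq hs)).map_mem hk
  subst hr
  let c : 𝒮.presheaf.obj (op U) := (𝒮.str.app (op U)).hom r
  let ψ := 𝒮.res hU hZ (S.basicOpen_le r)
  have hloc := 𝒮.isQC U hU r
  letI := (𝒮.presheaf.map (homOfLE (S.basicOpen_le r)).op).hom.toAlgebra
  obtain ⟨m, x, hx⟩ := IsLocalization.Away.surj c kZ
  change kZ * ψ c ^ m = ψ x at hx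
  have hu : IsUnit (ψ c ^ m) :=
    (IsLocalization.Away.algebraMap_isUnit (S := 𝒮.presheaf.obj (op (S.basicOpen r))) c).pow m
  have hc0 : ψ c ^ m ∈ 𝒮.deg (S.basicOpen r) hZ 0 := by
    simpa using SetLike.pow_mem_graded (A := 𝒮.deg (S.basicOpen r) hZ) m
      (ψ.map_mem (𝒮.str_mem U hU r))
  have hbi : kZ * ψ c ^ m ∈ 𝒮.deg (S.basicOpen r) hZ d := by
    simpa only [add_zero] using SetLike.mul_mem_graded (A := 𝒮.deg (S.basicOpen r) hZ) hkZ hc0
  have hxd : ψ (DirectSum.decompose (𝒮.deg U hU) x d : 𝒮.presheaf.obj (op U)) = kZ * ψ c ^ m := by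
    rw [GradedRingHom.map_directSumDecompose, ← hx, DirectSum.decompose_of_mem_same _ hbi]
  refine (mem_domOpen_iff u hU hU' hle y).mpr ⟨d,
    (DirectSum.decompose (𝒮.deg U hU) x d : 𝒮.presheaf.obj (op U)), hd, SetLike.coe_mem _, ?_⟩
  rw [hres]
  change yW ∈ (Proj.map _ _) ⁻¹ᵁ Proj.basicOpen _ _
  rw [Proj.map_preimage_basicOpen]
  rw [show 𝒮'.res hU' hW (le_of_basicOpen_eq ha) (u.gradedAt U hU U' hU' hle
      (DirectSum.decompose (𝒮.deg U hU) x d : 𝒮.presheaf.obj (op U))) =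
      u.gradedAt (S.basicOpen r) hZ W hW hWZ (kZ * ψ c ^ m) from by
    rw [← hxd]
    exact DFunLike.congr_fun (gradedAt_res u hU hU' hle hZ (S.basicOpen_le r) hW
      (le_of_basicOpen_eq ha) hWZ) _, map_mul, Proj.basicOpen_mul]
  refine ⟨hk', fun hmem ↦ ?_⟩
  exact yW.isPrime.ne_top (Ideal.eq_top_of_isUnit_mem _ hmem (hu.map _))

include h' in
theorem domQ_inf_preimage {U : S.Opens} (hU : IsAffineOpen U) {U' : S'.Opens}
    (hU' : IsAffineOpen U') (hle : U' ≤ g ⁻¹ᵁ U) :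
    RelProj.domQ u p' chart' ⊓ p' ⁻¹ᵁ U' =
      (RelProj.emb p' chart' U' hU') ''ᵁ RelCone.domOpen (u.gradedAt U hU U' hU' hle) := by
  ext z
  constructor
  · rintro ⟨hz, hzU⟩
    obtain ⟨y, rfl⟩ : ∃ y : Proj (𝒮'.deg U' hU'), (RelProj.emb p' chart' U' hU').base y = z :=
      (projCharts h').mem_range hU' hzU
    exact ⟨y, (emb_mem_domQ_iff u h' hU hU' hle y).mp hz, rfl⟩
  · rintro ⟨y, hy, rfl⟩
    exact ⟨(emb_mem_domQ_iff u h' hU hU' hle y).mpr hy, (projCharts h').map_mem hU' y⟩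

include h' in
theorem domQ_eq_top_iff : RelProj.domQ u p' chart' = ⊤ ↔
    ∀ (U : S.Opens) (hU : IsAffineOpen U) (U' : S'.Opens) (hU' : IsAffineOpen U')
      (hle : U' ≤ g ⁻¹ᵁ U), RelCone.domOpen (u.gradedAt U hU U' hU' hle) = ⊤ := by
  constructor
  · intro htop U hU U' hU' hle
    refine top_le_iff.mp fun y _ ↦ (emb_mem_domQ_iff (p' := p') (chart' := chart') u h' hU hU' hle y).mp ?_
    rw [htop]; trivial
  · intro hall
    refine top_le_iff.mp fun z _ ↦ ?_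
    obtain ⟨U, hgU⟩ := Opens.mem_iSup.mp
      ((iSup_affineOpens_eq_top S).ge (Set.mem_univ (g.base (p'.base z))))
    obtain ⟨_, ⟨U', hU', rfl⟩, hzU', hle⟩ := S'.isBasis_affineOpens.exists_subset_of_mem_open
      (show p'.base z ∈ g ⁻¹ᵁ U.1 from hgU) (g ⁻¹ᵁ U.1).2
    have hU'' : IsAffineOpen U' := hU'
    obtain ⟨y, rfl⟩ : ∃ y : Proj (𝒮'.deg U' hU''), (RelProj.emb p' chart' U' hU'').base y = z :=
      (projCharts h').mem_range hU'' hzU'
    exact (emb_mem_domQ_iff u h' U.2 hU'' hle y).mpr ((hall U.1 U.2 U' hU'' hle).ge trivial)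

include h' in
/-- The preimage of `D_+(f)` under `Proj(u)`, over an affine pair. -/
theorem mem_preimage_basicOpen_iff
    (v : ((RelProj.domQ u p' chart' : P'.Opens) : Scheme.{u}) ⟶ P)
    (hv : RelProj.IsProjQMapOn u p chart p' chart' (RelProj.domQ u p' chart') v)
    {U : S.Opens} (hU : IsAffineOpen U) {U' : S'.Opens} (hU' : IsAffineOpen U')
    (hle : U' ≤ g ⁻¹ᵁ U) {d : ℕ} (hd : 0 < d) (f : 𝒮.presheaf.obj (op U))
    (hf : f ∈ 𝒮.deg U hU d) (w : ((RelProj.domQ u p' chart' : P'.Opens) : Scheme.{u}))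
    (y : Proj (𝒮'.deg U' hU'))
    (hwy : (RelProj.domQ u p' chart').ι.base w = (RelProj.emb p' chart' U' hU').base y) :
    v.base w ∈ (RelProj.emb p chart U hU) ''ᵁ Proj.basicOpen (𝒮.deg U hU) f ↔
      y ∈ Proj.basicOpen (𝒮'.deg U' hU') (u.gradedAt U hU U' hU' hle f) := by
  have hy : y ∈ RelCone.domOpen (u.gradedAt U hU U' hU' hle) :=
    (emb_mem_domQ_iff u h' hU hU' hle y).mp (hwy ▸ w.2)
  obtain ⟨d', k, hd', hk, hyk⟩ := (mem_domOpen_iff u hU hU' hle y).mp hy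
  have hk' := (u.gradedAt U hU U' hU' hle).map_mem hk
  have hr := Proj.opensRange_awayι (𝒮'.deg U' hU') (u.gradedAt U hU U' hU' hle k) hk' hd'
  obtain ⟨x, rfl⟩ : ∃ x, (Proj.awayι (𝒮'.deg U' hU') (u.gradedAt U hU U' hU' hle k) hk' hd').base x
      = y := (SetLike.ext_iff.mp hr y).mpr hyk
  let i : ChartIdx (g := g) (𝒮 := 𝒮) := ⟨U, hU, U', hU', hle, d', hd', k, hk⟩
  have hwx : w = (qLift (p' := p') (chart' := chart') u i).base x := by
    apply (RelProj.domQ u p' chart').ι.isOpenEmbedding.injective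
    refine hwy.trans ?_
    exact congr($(qLift_ι (p' := p') (chart' := chart') u i).base x).symm
  have hvx : v.base w = (qTgt u p chart U hU U' hU' hle hd' k hk).base x := by
    rw [hwx]
    exact congr($(hv U hU U' hU' hle d' hd' k hk
      (range_awayEmb_mem_domQ (p' := p') (chart' := chart') u i)).base x)
  rw [hvx]
  have hinj : ∀ q : Proj (𝒮.deg U hU), (RelProj.emb p chart U hU).base q ∈
      (RelProj.emb p chart U hU) ''ᵁ Proj.basicOpen (𝒮.deg U hU) f ↔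
      q ∈ Proj.basicOpen (𝒮.deg U hU) f := fun q ↦
    ⟨fun ⟨q', hq', he⟩ ↦ (RelProj.emb p chart U hU).isOpenEmbedding.injective he ▸ hq',
      fun hq ↦ ⟨q, hq, rfl⟩⟩
  refine (hinj ((Proj.awayι (𝒮.deg U hU) k hk hd').base ((Spec.map (CommRingCat.ofHom
    (HomogeneousLocalization.Away.map (u.gradedAt U hU U' hU' hle) k))).base x))).trans ?_
  change (Spec.map (CommRingCat.ofHom
    (HomogeneousLocalization.Away.map (u.gradedAt U hU U' hU' hle) k))).base x ∈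
      Proj.awayι (𝒮.deg U hU) k hk hd' ⁻¹ᵁ Proj.basicOpen (𝒮.deg U hU) f ↔
    x ∈ Proj.awayι (𝒮'.deg U' hU') (u.gradedAt U hU U' hU' hle k) hk' hd' ⁻¹ᵁ
      Proj.basicOpen (𝒮'.deg U' hU') (u.gradedAt U hU U' hU' hle f)
  refine (SetLike.ext_iff.mp (Proj.awayι_preimage_basicOpen _ hk hd' hf hd) _).trans (Iff.trans ?_
    (SetLike.ext_iff.mp (Proj.awayι_preimage_basicOpen (𝒮'.deg U' hU') hk' hd'
      ((u.gradedAt U hU U' hU' hle).map_mem hf) hd) x).symm)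
  have hel := isLocalizationElem_map (u.gradedAt U hU U' hU' hle) hk hf
  change HomogeneousLocalization.Away.map _ k _ ∉ x.asIdeal ↔ _ ∉ x.asIdeal
  exact not_congr (by rw [hel])

include h h' in
/-- `Proj(u)` is affine when the morphism of bases is. -/
theorem isAffineHom_projQMapOn [IsAffineHom g]
    (v : ((RelProj.domQ u p' chart' : P'.Opens) : Scheme.{u}) ⟶ P)
    (hv : RelProj.IsProjQMapOn u p chart p' chart' (RelProj.domQ u p' chart') v) :
    IsAffineHom v := by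
  refine isAffineHom_of_forall_exists_isAffineOpen _ fun z ↦ ?_
  obtain ⟨U, hU, y, rfl⟩ : ∃ (U : S.Opens) (hU : IsAffineOpen U) (y : Proj (𝒮.deg U hU)),
      (RelProj.emb p chart U hU).base y = z := (projCharts h).exists_eq z
  obtain ⟨s, x, rfl⟩ : ∃ (s : Σ i : PNat, 𝒮.deg U hU i) (x : _),
      (Proj.awayι (𝒮.deg U hU) (s.2 : 𝒮.presheaf.obj (op U)) s.2.2 s.1.pos).base x = y :=
    (Proj.affineOpenCover (𝒮.deg U hU)).openCover.exists_eq y
  obtain ⟨i, f, hf⟩ := s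
  let hU' := IsAffineHom.isAffine_preimage (f := g) U hU
  refine ⟨(RelProj.emb p chart U hU) ''ᵁ Proj.basicOpen (𝒮.deg U hU) f,
    ⟨_, (Proj.opensRange_awayι (𝒮.deg U hU) f hf i.pos).le ⟨x, rfl⟩, rfl⟩,
    (Proj.isAffineOpen_basicOpen (𝒮.deg U hU) f hf i.pos).image_of_isOpenImmersion _, ?_⟩
  rw [← Scheme.Hom.isAffineOpen_iff_of_isOpenImmersion (RelProj.domQ u p' chart').ι]
  have himg : (RelProj.domQ u p' chart').ι ''ᵁ (v ⁻¹ᵁ ((RelProj.emb p chart U hU) ''ᵁ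
      Proj.basicOpen (𝒮.deg U hU) f)) = (RelProj.emb p' chart' (g ⁻¹ᵁ U) hU') ''ᵁ
        Proj.basicOpen (𝒮'.deg (g ⁻¹ᵁ U) hU') (u.gradedAt U hU (g ⁻¹ᵁ U) hU' le_rfl f) := by
    ext z'
    constructor
    · rintro ⟨w, hw, rfl⟩
      obtain ⟨q, hq, hqv⟩ := id hw
      have hzU : p'.base ((RelProj.domQ u p' chart').ι.base w) ∈ g ⁻¹ᵁ U := by
        have hh : (v ≫ p).base w ∈ U := by
          have h3 := (projCharts h).map_mem hU q
          change p.base (v.base w) ∈ U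
          exact hqv ▸ h3
        rw [projQMapOn_comp u h h' v hv] at hh
        exact hh
      obtain ⟨y', hy'⟩ : ∃ y' : Proj (𝒮'.deg (g ⁻¹ᵁ U) hU'),
          (RelProj.emb p' chart' _ hU').base y' = (RelProj.domQ u p' chart').ι.base w :=
        (projCharts h').mem_range hU' hzU
      exact ⟨y', (mem_preimage_basicOpen_iff u h' v hv hU hU' le_rfl i.pos f hf w y' hy'.symm).mp hw, hy'⟩
    · rintro ⟨y', hy', rfl⟩
      have hdom : (RelProj.emb p' chart' _ hU').base y' ∈ RelProj.domQ u p' chart' :=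
        (emb_mem_domQ_iff u h' hU hU' le_rfl y').mpr
          ((mem_domOpen_iff u hU hU' le_rfl y').mpr ⟨_, f, i.pos, hf, hy'⟩)
      exact ⟨⟨_, hdom⟩, (mem_preimage_basicOpen_iff u h' v hv hU hU' le_rfl i.pos f hf
        ⟨_, hdom⟩ y' rfl).mpr hy', rfl⟩
  rw [himg]
  exact (Proj.isAffineOpen_basicOpen _ _ ((u.gradedAt U hU _ hU' le_rfl).map_mem hf) i.pos).image_of_isOpenImmersion _

end Groth.Ega2P2
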