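/-
Local properties of `Proj(u)`.
-/
import Groth.Prelude.Def_RelProj4
import Groth.Agent.Ega2Proj2.QMap
import Groth.Agent.Ega2Proj2.ProjMaps

set_option autoImplicit false

universe u

open CategoryTheory CategoryTheory.Limits AlgebraicGeometry Opposite TopologicalSpace
open scoped HomogeneousIdeal

noncomputable section

namespace Groth.Ega2P2

variable {S S' : Scheme.{u}} {g : S' ⟶ S} {𝒮 : RelProj.QCGrAlg S} {𝒮' : RelProj.QCGrAlg S'}
  (u : RelProj.QGrHom g 𝒮 𝒮')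
  {P : Scheme.{u}} {p : P ⟶ S}
  {chart : ∀ (U : S.Opens) (hU : IsAffineOpen U),
    (((p ⁻¹ᵁ U : P.Opens) : Scheme.{u}) ≅ Proj (𝒮.deg U hU))}
  {P' : Scheme.{u}} {p' : P' ⟶ S'}
  {chart' : ∀ (U' : S'.Opens) (hU' : IsAffineOpen U'),
    (((p' ⁻¹ᵁ U' : P'.Opens) : Scheme.{u}) ≅ Proj (𝒮'.deg U' hU'))}
  (h : RelProj.IsRelProj 𝒮 p chart) (h' : RelProj.IsRelProj 𝒮' p' chart')

/-- A globally defined `Proj(u)` restricts to `Proj(u)` on `G(u)`. -/
lemma isProjQMapOn_of_isProjQMap {f : P' ⟶ P} (hf : RelProj.IsProjQMap u p chart p' chart' f) :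
    RelProj.IsProjQMapOn u p chart p' chart' (RelProj.domQ u p' chart')
      ((RelProj.domQ u p' chart').ι ≫ f) := by
  intro U hU U' hU' hle d hd s hs hW
  rw [← Category.assoc, IsOpenImmersion.lift_fac]
  exact hf.2 U hU U' hU' hle d hd s hs

omit h h' in
lemma isIso_opens_ι {X : Scheme.{u}} {W : X.Opens} (hW : W = ⊤) : IsIso W.ι := by
  subst hW; exact (Scheme.topIso X).isIso_hom

include h h' in
lemma projQMap_comp {f : P' ⟶ P} (hf : RelProj.IsProjQMap u p chart p' chart' f) :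
    f ≫ p = p' ≫ g := by
  have := isIso_opens_ι hf.1
  rw [← cancel_epi (RelProj.domQ u p' chart').ι, ← Category.assoc,
    projQMapOn_comp u h h' _ (isProjQMapOn_of_isProjQMap u hf)]

include h h' in
lemma existsUnique_projQMap (htop : RelProj.domQ u p' chart' = ⊤) :
    ∃! f : P' ⟶ P, RelProj.IsProjQMap u p chart p' chart' f := by
  haveI := isIso_opens_ι htop
  obtain ⟨v, hv, huniq⟩ := existsUnique_projQMapOn u h h'
  refine ⟨inv (RelProj.domQ u p' chart').ι ≫ v, ⟨htop, ?_⟩, fun f hf ↦ ?_⟩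
  · intro U hU U' hU' hle d hd s hs
    have h1 := hv U hU U' hU' hle d hd s hs
      (RelProj.range_awayEmb_subset_domQ u p' chart' U hU U' hU' hle hd s hs)
    refine Eq.trans ?_ h1
    rw [← Category.assoc]
    congr 1
    rw [← cancel_mono (RelProj.domQ u p' chart').ι, IsOpenImmersion.lift_fac]
    exact (Category.assoc _ _ _).trans
      ((congrArg (_ ≫ ·) (IsIso.inv_hom_id _)).trans (Category.comp_id _))
  · rw [← huniq _ (isProjQMapOn_of_isProjQMap u hf), IsIso.inv_hom_id_assoc]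

include h h' in
/-- The preimage of a standard open of `Proj(𝒮)` under `Proj(u)`, over `g⁻¹U`. -/
theorem preimage_chart_eq
    (v : ((RelProj.domQ u p' chart' : P'.Opens) : Scheme.{u}) ⟶ P)
    (hv : RelProj.IsProjQMapOn u p chart p' chart' (RelProj.domQ u p' chart') v)
    {U : S.Opens} (hU : IsAffineOpen U) (hU' : IsAffineOpen (g ⁻¹ᵁ U)) {d : ℕ} (hd : 0 < d)
    (f : 𝒮.presheaf.obj (op U)) (hf : f ∈ 𝒮.deg U hU d) :
    v ⁻¹ᵁ (Proj.awayι (𝒮.deg U hU) f hf hd ≫ RelProj.emb p chart U hU).opensRange =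
      (qLift (p' := p') (chart' := chart') u ⟨U, hU, g ⁻¹ᵁ U, hU', le_rfl, d, hd, f, hf⟩).opensRange := by
  have hr : (Proj.awayι (𝒮.deg U hU) f hf hd ≫ RelProj.emb p chart U hU).opensRange =
      (RelProj.emb p chart U hU) ''ᵁ Proj.basicOpen (𝒮.deg U hU) f := by
    rw [Scheme.Hom.opensRange_comp, Proj.opensRange_awayι]
  rw [hr]
  ext w
  have hι : ∀ x, (RelProj.domQ u p' chart').ι.base ((qLift (p' := p') (chart' := chart') u
      ⟨U, hU, g ⁻¹ᵁ U, hU', le_rfl, d, hd, f, hf⟩).base x) =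
      (RelProj.awayEmb u p' chart' U hU (g ⁻¹ᵁ U) hU' le_rfl hd f hf).base x := fun x ↦
    congr($(qLift_ι (p' := p') (chart' := chart') u
      ⟨U, hU, g ⁻¹ᵁ U, hU', le_rfl, d, hd, f, hf⟩).base x)
  constructor
  · intro hw
    obtain ⟨q, hq, hqv⟩ := id hw
    have hzU : p'.base ((RelProj.domQ u p' chart').ι.base w) ∈ g ⁻¹ᵁ U := by
      have h3 := (projCharts h).map_mem hU q
      have h4 : (v ≫ p).base w ∈ U := by
        change p.base (v.base w) ∈ U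
        exact hqv ▸ h3
      rw [projQMapOn_comp u h h' v hv] at h4
      exact h4
    obtain ⟨y', hy'⟩ : ∃ y' : Proj (𝒮'.deg (g ⁻¹ᵁ U) hU'),
        (RelProj.emb p' chart' _ hU').base y' = (RelProj.domQ u p' chart').ι.base w :=
      (projCharts h').mem_range hU' hzU
    have hb := (mem_preimage_basicOpen_iff u h' v hv hU hU' le_rfl hd f hf w y' hy'.symm).mp hw
    obtain ⟨x, hx⟩ := (emb_mem_range_awayEmb (p' := p') (chart' := chart') u hU hU' le_rfl hd f hf y').mpr hb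
    refine ⟨x, (RelProj.domQ u p' chart').ι.isOpenEmbedding.injective ?_⟩
    exact (hι x).trans (hx.trans hy')
  · rintro ⟨x, rfl⟩
    let x' : Spec (CommRingCat.of (HomogeneousLocalization.Away (𝒮'.deg (g ⁻¹ᵁ U) hU')
      (u.gradedAt U hU (g ⁻¹ᵁ U) hU' le_rfl f))) := x
    refine (mem_preimage_basicOpen_iff u h' v hv hU hU' le_rfl hd f hf _
      ((Proj.awayι (𝒮'.deg (g ⁻¹ᵁ U) hU') (u.gradedAt U hU (g ⁻¹ᵁ U) hU' le_rfl f)
        ((u.gradedAt U hU (g ⁻¹ᵁ U) hU' le_rfl).map_mem hf) hd).base x') (hι x)).mpr ?_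
    have hr' := Proj.opensRange_awayι (𝒮'.deg (g ⁻¹ᵁ U) hU') (u.gradedAt U hU (g ⁻¹ᵁ U) hU' le_rfl f)
        ((u.gradedAt U hU (g ⁻¹ᵁ U) hU' le_rfl).map_mem hf) hd
    exact hr'.le ⟨x', rfl⟩

include h h' in
/-- A property local at the target holds for `Proj(u)` if it does on the standard charts. -/
theorem projQMapOn_of_away [IsAffineHom g]
    (v : ((RelProj.domQ u p' chart' : P'.Opens) : Scheme.{u}) ⟶ P)
    (hv : RelProj.IsProjQMapOn u p chart p' chart' (RelProj.domQ u p' chart') v)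
    (Q : MorphismProperty Scheme.{u}) [IsZariskiLocalAtTarget Q]
    (hQ : ∀ (U : S.Opens) (hU : IsAffineOpen U) (hU' : IsAffineOpen (g ⁻¹ᵁ U)) (d : ℕ) (_ : 0 < d)
      (f : 𝒮.presheaf.obj (op U)) (_ : f ∈ 𝒮.deg U hU d),
      Q (Spec.map (CommRingCat.ofHom
        (HomogeneousLocalization.Away.map (u.gradedAt U hU (g ⁻¹ᵁ U) hU' le_rfl) f)))) :
    Q v := by
  let ι := Σ (U : S.Opens) (hU : PLift (IsAffineOpen U)), Σ i : PNat, 𝒮.deg U hU.down i
  let V : ι → P.Opens := fun k ↦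
    (Proj.awayι (𝒮.deg k.1 k.2.1.down) (k.2.2.2 : 𝒮.presheaf.obj (op k.1))
      k.2.2.2.2 k.2.2.1.pos ≫ RelProj.emb p chart k.1 k.2.1.down).opensRange
  have hsup : iSup V = ⊤ := by
    refine top_le_iff.mp fun z _ ↦ ?_
    obtain ⟨U, hU, y, rfl⟩ : ∃ (U : S.Opens) (hU : IsAffineOpen U) (y : Proj (𝒮.deg U hU)),
        (RelProj.emb p chart U hU).base y = z := (projCharts h).exists_eq z
    obtain ⟨s, x, rfl⟩ : ∃ (s : Σ i : PNat, 𝒮.deg U hU i) (x : _),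
        (Proj.awayι (𝒮.deg U hU) (s.2 : 𝒮.presheaf.obj (op U)) s.2.2 s.1.pos).base x = y :=
      (Proj.affineOpenCover (𝒮.deg U hU)).openCover.exists_eq y
    exact Opens.mem_iSup.mpr ⟨(⟨U, ⟨hU⟩, s⟩ : ι), ⟨x, rfl⟩⟩
  refine IsZariskiLocalAtTarget.of_iSup_eq_top V hsup ?_
  rintro ⟨U, ⟨hU⟩, ⟨i, f, hf⟩⟩
  have hU' : IsAffineOpen (g ⁻¹ᵁ U) := IsAffineHom.isAffine_preimage U hU
  let c := qLift (p' := p') (chart' := chart') u ⟨U, hU, g ⁻¹ᵁ U, hU', le_rfl, i, i.pos, f, hf⟩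
  let e := Proj.awayι (𝒮.deg U hU) f hf i.pos ≫ RelProj.emb p chart U hU
  have hfac : c ≫ v = Spec.map (CommRingCat.ofHom
      (HomogeneousLocalization.Away.map (u.gradedAt U hU (g ⁻¹ᵁ U) hU' le_rfl) f)) ≫ e :=
    hv U hU _ hU' le_rfl i i.pos f hf (range_awayEmb_mem_domQ (p' := p') (chart' := chart') u
      ⟨U, hU, g ⁻¹ᵁ U, hU', le_rfl, i, i.pos, f, hf⟩)
  have hp := IsOpenImmersion.isPullback (Spec.map (CommRingCat.ofHom
      (HomogeneousLocalization.Away.map (u.gradedAt U hU (g ⁻¹ᵁ U) hU' le_rfl) f))) c e v hfac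
      (preimage_chart_eq u h h' v hv hU hU' i.pos f hf)
  have h1 := hQ U hU hU' i i.pos f hf
  have h2 : Q (pullback.snd v e) := by
    rw [← hp.flip.isoPullback_inv_snd]
    exact (Q.cancel_left_of_respectsIso _ _).mpr h1
  exact (Q.arrow_mk_iso_iff (morphismRestrictOpensRange v e)).mpr h2

include h h' in
/-- A property local at the target holds for `Proj(u)` if it does on the standard charts. -/
theorem projQMap_of_away [IsAffineHom g] {f : P' ⟶ P}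
    (hf : RelProj.IsProjQMap u p chart p' chart' f)
    (Q : MorphismProperty Scheme.{u}) [IsZariskiLocalAtTarget Q]
    (hQ : ∀ (U : S.Opens) (hU : IsAffineOpen U) (hU' : IsAffineOpen (g ⁻¹ᵁ U)) (d : ℕ) (_ : 0 < d)
      (s : 𝒮.presheaf.obj (op U)) (_ : s ∈ 𝒮.deg U hU d),
      Q (Spec.map (CommRingCat.ofHom
        (HomogeneousLocalization.Away.map (u.gradedAt U hU (g ⁻¹ᵁ U) hU' le_rfl) s)))) :
    Q f := by
  haveI := isIso_opens_ι hf.1
  exact (Q.cancel_left_of_respectsIso (RelProj.domQ u p' chart').ι f).mp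
    (projQMapOn_of_away u h h' _ (isProjQMapOn_of_isProjQMap u hf) Q hQ)

omit h h' in
lemma domOpen_eq_top_of_eventually {A B σ τ : Type u} [CommRing A] [SetLike σ A]
    [AddSubgroupClass σ A] [CommRing B] [SetLike τ B] [AddSubgroupClass τ B]
    {𝒜 : ℕ → σ} {ℬ : ℕ → τ} [GradedRing 𝒜] [GradedRing ℬ] (ψ : 𝒜 →+*ᵍ ℬ) {N : ℕ}
    (hN : ∀ k, N ≤ k → ∀ y ∈ ℬ k, ∃ x ∈ 𝒜 k, ψ x = y) : RelCone.domOpen ψ = ⊤ := by
  refine top_le_iff.mp fun y _ ↦ ?_
  obtain ⟨s, x, rfl⟩ : ∃ (s : Σ i : PNat, ℬ i) (x : _),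
      (Proj.awayι ℬ (s.2 : B) s.2.2 s.1.pos).base x = y :=
    (Proj.affineOpenCover ℬ).openCover.exists_eq y
  obtain ⟨i, b, hb⟩ := s
  have hy := (Proj.opensRange_awayι ℬ b hb i.pos).le ⟨x, rfl⟩
  have hpow : b ^ (N + 1) ∈ ℬ ((N + 1) * i) := by simpa using SetLike.pow_mem_graded (N + 1) hb
  have hpos : 0 < (N + 1) * (i : ℕ) := Nat.mul_pos (Nat.succ_pos N) i.pos
  obtain ⟨a, ha, hab⟩ := hN ((N + 1) * i)
    ((Nat.le_succ N).trans (Nat.le_mul_of_pos_right _ i.pos)) _ hpow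
  rw [RelCone.mem_domOpen]
  refine ⟨a, HomogeneousIdeal.mem_irrelevant_of_mem _ hpos ha, fun hmem ↦ hy ?_⟩
  rw [hab] at hmem
  exact ((Proj.awayι ℬ b hb i.pos).base x).isPrime.mem_of_pow_mem _ hmem

omit h h' in
lemma domOpen_eq_top_of_irrelevant_le {A B σ τ : Type u} [CommRing A] [SetLike σ A]
    [AddSubgroupClass σ A] [CommRing B] [SetLike τ B] [AddSubgroupClass τ B]
    {𝒜 : ℕ → σ} {ℬ : ℕ → τ} [GradedRing 𝒜] [GradedRing ℬ] (ψ : 𝒜 →+*ᵍ ℬ)
    (hψ : ℬ₊ ≤ 𝒜₊.map ψ) : RelCone.domOpen ψ = ⊤ := by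
  refine top_le_iff.mp fun y _ ↦ ?_
  rw [RelCone.mem_domOpen]
  by_contra! hcon
  apply y.not_irrelevant_le
  refine hψ.trans ?_
  exact Ideal.map_le_iff_le_comap.mpr fun a ha ↦ hcon a ha

end Groth.Ega2P2
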