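/-
`QGrHom.ofHom` over an affine open paired with itself.
-/
import Groth.Prelude.Def_RelProj4
import Groth.Agent.Ega2Proj2.QMap

set_option autoImplicit false

universe u

open CategoryTheory CategoryTheory.Limits AlgebraicGeometry Opposite TopologicalSpace
open scoped HomogeneousIdeal

noncomputable section

namespace Groth.Ega2P2

variable {S : Scheme.{u}} {𝒜 ℬ : RelProj.QCGrAlg S} (φ : 𝒜.toQCAlg ⟶ ℬ.toQCAlg)
  (hφ : RelProj.IsGradedHom φ)

lemma ofHom_gradedAt_self (U : S.Opens) (hU : IsAffineOpen U) (hle : U ≤ (𝟙 S : S ⟶ S) ⁻¹ᵁ U) :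
    (RelProj.QGrHom.ofHom φ hφ).gradedAt U hU U hU hle = RelProj.gradedHomAt φ hφ U hU := by
  refine DFunLike.ext _ _ fun x ↦ ?_
  change (ℬ.presheaf.map (homOfLE hle).op).hom ((φ.hom.app (op U)).hom x) =
    (φ.hom.app (op U)).hom x
  rw [Subsingleton.elim (homOfLE hle).op (𝟙 (op U))]
  exact congr($(ℬ.presheaf.map_id (op U)).hom ((φ.hom.app (op U)).hom x))

lemma ofHom_gradedAt_apply (U : S.Opens) (hU : IsAffineOpen U) (V : S.Opens) (hV : IsAffineOpen V)
    (hle : V ≤ U) (x : 𝒜.presheaf.obj (op U)) :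
    (RelProj.QGrHom.ofHom φ hφ).gradedAt U hU V hV hle x =
      ℬ.res hU hV hle (RelProj.gradedHomAt φ hφ U hU x) := rfl

lemma ofHom_gradedAt_eq_comp (U : S.Opens) (hU : IsAffineOpen U) (V : S.Opens) (hV : IsAffineOpen V)
    (hle : V ≤ U) :
    (RelProj.QGrHom.ofHom φ hφ).gradedAt U hU V hV hle =
      (ℬ.res hU hV hle).comp (RelProj.gradedHomAt φ hφ U hU) :=
  DFunLike.ext _ _ fun _ ↦ rfl

end Groth.Ega2P2
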