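/-
Relative spectra: charts and base change (EGA II 1.5).
-/
import Groth.Prelude.Def_RelProj4
import Groth.Agent.Ega2Proj2.BaseChange

set_option autoImplicit false

universe u

open CategoryTheory CategoryTheory.Limits AlgebraicGeometry Opposite TopologicalSpace

noncomputable section

namespace Groth.Ega2P2

variable {S : Scheme.{u}} (A : RelSpec.QCAlg S)

/-- A chart of a relative spectrum, over the open subscheme `U`. -/
lemma isPullback_specι (U : S.Opens) (hU : IsAffineOpen U) :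
    IsPullback (Spec.map (A.str.app (op U)) ≫ hU.isoSpec.inv) (A.ι U hU) U.ι A.π :=
  IsOpenImmersion.isPullback _ _ _ _
    (by rw [A.ι_π U hU, Category.assoc, IsAffineOpen.isoSpec_inv_ι])
    (by rw [Scheme.Opens.opensRange_ι]; exact A.π_preimage U hU)

variable {S' : Scheme.{u}} {g : S' ⟶ S} {A} {B : RelSpec.QCAlg S'}

/-- `Spec` of an inverse image algebra is the base change. -/
theorem isPullback_specQMap (u : RelSpec.QHom g A B) (hu : RelSpec.IsQBaseChange u)
    (h : B.spec ⟶ A.spec) (hh : RelSpec.IsSpecQMap u h) : IsPullback h B.π A.π g := by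
  refine IsPullback.flip ?_
  let I := {W : S'.Opens // IsAffineOpen W ∧ ∃ U : S.Opens, IsAffineOpen U ∧ W ≤ g ⁻¹ᵁ U}
  have hI : IsOpenCover (fun i : I ↦ i.1) := by
    refine top_le_iff.mp fun x _ ↦ ?_
    obtain ⟨_, ⟨U, hU, rfl⟩, hxU, -⟩ :=
      S.isBasis_affineOpens.exists_subset_of_mem_open (Set.mem_univ (g.base x)) isOpen_univ
    obtain ⟨_, ⟨W, hW, rfl⟩, hxW, hle⟩ := S'.isBasis_affineOpens.exists_subset_of_mem_open
      (show x ∈ g ⁻¹ᵁ U from hxU) (g ⁻¹ᵁ U).2
    exact Opens.mem_iSup.mpr ⟨⟨W, hW, U, hU, hle⟩, hxW⟩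
  refine Scheme.isPullback_of_openCover _ _ _ _ (S'.openCoverOfIsOpenCover _ hI) fun (i : I) ↦ ?_
  obtain ⟨U', hU', U, hU, hle⟩ := i
  change IsPullback (pullback.snd B.π U'.ι) (pullback.fst B.π U'.ι ≫ h) (U'.ι ≫ g) A.π
  have hp := (isPullback_specι B U' hU').flip
  have hq : IsPullback (Spec.map (u.appLE U U' hle)) (Spec.map (B.str.app (op U')) ≫ hU'.isoSpec.inv)
      (Spec.map (A.str.app (op U)) ≫ hU.isoSpec.inv) (g.resLE U U' hle) :=
    (isPullback_SpecMap_of_isPushout _ _ _ _ (hu U hU U' hU' hle).flip).paste_vert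
      (toOpenAux_paste hU hU' hle)
  have hK := (hq.paste_horiz (isPullback_specι A U hU).flip).flip
  rw [← hh U hU U' hU' hle, Scheme.Hom.resLE_comp_ι] at hK
  refine hK.of_iso hp.isoPullback (Iso.refl _) (Iso.refl _) (Iso.refl _) ?_ ?_ ?_ ?_
  · rw [Iso.refl_hom, Category.comp_id, hp.isoPullback_hom_snd]
  · rw [Iso.refl_hom, Category.comp_id, hp.isoPullback_hom_fst_assoc]
  · simp
  · simp

end Groth.Ega2P2
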