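/-
The vertex section of an affine cone (EGA II 8.3).
-/
import Groth.Prelude.Def_RelSpec2
import Groth.Agent.Ega2Proj2.RelSpecBasic
import Groth.Agent.Ega2Proj2.RelProjBasic

set_option autoImplicit false

universe u

open CategoryTheory CategoryTheory.Limits AlgebraicGeometry Opposite TopologicalSpace
open scoped HomogeneousIdeal

noncomputable section

namespace Groth.Ega2P2

variable {Y : Scheme.{u}} (𝒮 : RelProj.QCGrAlg Y) (aug : 𝒮.toQCAlg ⟶ RelSpec.QCAlg.unit Y)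

set_option backward.isDefEq.respectTransparency.types false in
/-- The spectrum of the structure sheaf is the base. -/
lemma isIso_unit_π (S : Scheme.{u}) : IsIso (RelSpec.QCAlg.unit S).π := by
  have h : MorphismProperty.isomorphisms Scheme.{u} (RelSpec.QCAlg.unit S).π := by
    refine IsZariskiLocalAtTarget.of_openCover
      (S.openCoverOfIsOpenCover (fun U : S.affineOpens ↦ U.1) (iSup_affineOpens_eq_top S))
      fun (U : S.affineOpens) ↦ ?_
    have hp := (isPullback_specι (RelSpec.QCAlg.unit S) U.1 U.2).flip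
    change MorphismProperty.isomorphisms Scheme.{u} (pullback.snd (RelSpec.QCAlg.unit S).π U.1.ι)
    rw [← hp.isoPullback_inv_snd]
    refine (MorphismProperty.cancel_left_of_respectsIso _ _ _).mpr ?_
    change IsIso (Spec.map (𝟙 _) ≫ U.2.isoSpec.inv)
    rw [Spec.map_id]
    infer_instance
  exact h

lemma unit_ι_π (S : Scheme.{u}) (U : S.Opens) (hU : IsAffineOpen U) :
    (RelSpec.QCAlg.unit S).ι U hU ≫ (RelSpec.QCAlg.unit S).π = hU.fromSpec := by
  rw [(RelSpec.QCAlg.unit S).ι_π U hU]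
  change Spec.map (𝟙 _) ≫ hU.fromSpec = hU.fromSpec
  rw [Spec.map_id, Category.id_comp]

/-- The vertex section exists and is unique. -/
theorem existsUnique_vertex : ∃! ε : Y ⟶ 𝒮.toQCAlg.spec, RelCone.IsVertex 𝒮 aug ε := by
  have := isIso_unit_π Y
  have hc : ∀ (U : Y.Opens) (hU : IsAffineOpen U),
      hU.fromSpec ≫ inv (RelSpec.QCAlg.unit Y).π ≫ RelSpec.QCAlg.specMap aug =
        Spec.map (aug.hom.app (op U)) ≫ 𝒮.toQCAlg.ι U hU := fun U hU ↦ by
    refine (congrArg (· ≫ (inv (RelSpec.QCAlg.unit Y).π ≫ RelSpec.QCAlg.specMap aug))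
      (unit_ι_π Y U hU).symm).trans ((Category.assoc _ _ _).trans ?_)
    exact (congrArg (_ ≫ ·) (IsIso.hom_inv_id_assoc _ _)).trans (RelSpec.QCAlg.ι_specMap U hU aug)
  refine ⟨inv (RelSpec.QCAlg.unit Y).π ≫ RelSpec.QCAlg.specMap aug, ⟨?_, hc⟩, fun ε hε ↦ ?_⟩
  · rw [Category.assoc, RelSpec.QCAlg.specMap_π, IsIso.inv_hom_id]
  · refine (cancel_epi (RelSpec.QCAlg.unit Y).π).mp ((specCharts _).hom_ext fun U hU ↦ ?_)
    change (RelSpec.QCAlg.unit Y).ι U hU ≫ _ = (RelSpec.QCAlg.unit Y).ι U hU ≫ _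
    exact ((Category.assoc _ _ _).symm.trans (congrArg (· ≫ ε) (unit_ι_π Y U hU))).trans
      ((hε.chart U hU).trans ((hc U hU).symm.trans
        ((congrArg (· ≫ _) (unit_ι_π Y U hU).symm).trans (Category.assoc _ _ _))))

/-- The vertex section is a closed immersion. -/
theorem isClosedImmersion_vertex {ε : Y ⟶ 𝒮.toQCAlg.spec} (hε : RelCone.IsVertex 𝒮 aug ε) :
    IsClosedImmersion ε := by
  haveI : IsClosedImmersion (ε ≫ 𝒮.toQCAlg.π) := by rw [hε.comp_π]; infer_instance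
  exact IsClosedImmersion.of_comp ε 𝒮.toQCAlg.π

variable (h0 : RelCone.StrZeroBij 𝒮) (haug : RelCone.IsAugmentation 𝒮 aug)

include h0 haug in
lemma aug_ker (U : Y.Opens) (hU : IsAffineOpen U) :
    RingHom.ker (aug.hom.app (op U)).hom = (HomogeneousIdeal.irrelevant (𝒮.deg U hU)).toIdeal := by
  classical
  have hstr : ∀ r : Γ(Y, U), (aug.hom.app (op U)).hom ((𝒮.str.app (op U)).hom r) = r := fun r ↦
    congr($(NatTrans.congr_app aug.comm (op U)).hom r)
  have hle : (HomogeneousIdeal.irrelevant (𝒮.deg U hU)).toIdeal ≤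
      RingHom.ker (aug.hom.app (op U)).hom :=
    (HomogeneousIdeal.toIdeal_irrelevant_le _).mpr fun i hi x hx ↦ by
      obtain ⟨d, rfl⟩ : ∃ d, i = d + 1 := ⟨i - 1, by omega⟩
      exact haug U hU d x hx
  refine le_antisymm (fun x hx ↦ ?_) hle
  obtain ⟨r, hr⟩ := (h0 U hU).2 (DirectSum.decompose (𝒮.deg U hU) x 0)
  have hr' : (𝒮.str.app (op U)).hom r = (DirectSum.decompose (𝒮.deg U hU) x 0 : 𝒮.presheaf.obj (op U)) :=
    congrArg Subtype.val hr
  have hd : x - (𝒮.str.app (op U)).hom r ∈ (HomogeneousIdeal.irrelevant (𝒮.deg U hU)).toIdeal := by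
    refine (HomogeneousIdeal.mem_irrelevant_iff _ _).mpr ?_
    rw [GradedRing.proj_apply, DirectSum.decompose_sub, DirectSum.sub_apply,
      AddSubgroupClass.coe_sub, hr', DirectSum.decompose_of_mem_same (𝒮.deg U hU) (SetLike.coe_mem _),
      sub_self]
  have h1 := hle hd
  rw [RingHom.mem_ker] at h1 hx
  rw [map_sub, hx, hstr] at h1
  obtain rfl : r = 0 := neg_eq_zero.mp ((zero_sub r).symm.trans h1)
  rwa [map_zero, sub_zero] at hd

include h0 haug in
/-- The vertex in a chart is `V(S₊)`. -/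
lemma chart_mem_range_vertex_iff {ε : Y ⟶ 𝒮.toQCAlg.spec} (hε : RelCone.IsVertex 𝒮 aug ε)
    (U : Y.Opens) (hU : IsAffineOpen U) (y : Spec (𝒮.presheaf.obj (op U))) :
    (𝒮.toQCAlg.ι U hU).base y ∈ Set.range ε.base ↔
      y ∈ PrimeSpectrum.zeroLocus
        ((HomogeneousIdeal.irrelevant (𝒮.deg U hU)).toIdeal : Set (𝒮.presheaf.obj (op U))) := by
  have hs : Function.Surjective (aug.hom.app (op U)).hom := fun r ↦
    ⟨(𝒮.str.app (op U)).hom r, congr($(NatTrans.congr_app aug.comm (op U)).hom r)⟩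
  rw [← aug_ker 𝒮 aug h0 haug U hU]
  refine Iff.trans ?_ (iff_of_eq (congrArg (y ∈ ·) (range_comap_of_surjective _ _ hs)))
  constructor
  · rintro ⟨s, hs'⟩
    have hsU : s ∈ U := by
      have h1 : (ε ≫ 𝒮.toQCAlg.π).base s ∈ U := by
        change 𝒮.toQCAlg.π.base (ε.base s) ∈ U
        rw [hs']
        exact (specCharts 𝒮.toQCAlg).map_mem hU y
      rwa [hε.comp_π] at h1
    obtain ⟨q, rfl⟩ : s ∈ Set.range hU.fromSpec.base := by rw [hU.range_fromSpec]; exact hsU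
    refine ⟨q, ((𝒮.toQCAlg.ι U hU).isOpenEmbedding.injective ?_)⟩
    exact (congr($(hε.chart U hU).base q)).symm.trans hs'
  · rintro ⟨q, rfl⟩
    exact ⟨hU.fromSpec.base q, congr($(hε.chart U hU).base q)⟩

include h0 haug in
/-- The pointed cone is the complement of the vertex. -/
theorem pointedCone_eq_compl {ε : Y ⟶ 𝒮.toQCAlg.spec} (hε : RelCone.IsVertex 𝒮 aug ε) :
    ((RelCone.pointedCone 𝒮 : 𝒮.toQCAlg.spec.Opens) : Set 𝒮.toQCAlg.spec) = (Set.range ε.base)ᶜ := by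
  ext z
  constructor
  · intro hz
    obtain ⟨⟨U, hU⟩, y, hy, rfl⟩ := Opens.mem_iSup.mp hz
    exact fun hc ↦ hy ((chart_mem_range_vertex_iff 𝒮 aug h0 haug hε U hU y).mp hc)
  · intro hz
    obtain ⟨U, hU, y, rfl⟩ : ∃ (U : Y.Opens) (hU : IsAffineOpen U) (y : Spec (𝒮.presheaf.obj (op U))),
        (𝒮.toQCAlg.ι U hU).base y = z := (specCharts 𝒮.toQCAlg).exists_eq z
    exact Opens.mem_iSup.mpr ⟨⟨U, hU⟩, y,
      fun hc ↦ hz ((chart_mem_range_vertex_iff 𝒮 aug h0 haug hε U hU y).mpr hc), rfl⟩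

end Groth.Ega2P2
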