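/-
Morphisms of relative Proj induced by graded homomorphisms (everywhere defined case).
-/
import Groth.Agent.Ega2Proj2.RelProjProps
import Groth.Agent.Ega2Proj2.ProjMaps

set_option autoImplicit false

universe u

open CategoryTheory CategoryTheory.Limits AlgebraicGeometry Opposite TopologicalSpace
open scoped HomogeneousIdeal

noncomputable section

namespace Groth.Ega2P2

variable {Y PA PB : Scheme.{u}} {𝒜 ℬ : RelProj.QCGrAlg Y}
  (φ : 𝒜.toQCAlg ⟶ ℬ.toQCAlg) (hφ : RelProj.IsGradedHom φ)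
  (hirr : ∀ (U : Y.Opens) (hU : IsAffineOpen U),
    (ℬ.deg U hU)₊ ≤ ((𝒜.deg U hU)₊).map (RelProj.gradedHomAt φ hφ U hU))
  {pA : PA ⟶ Y} {pB : PB ⟶ Y}
  {chartA : ∀ (U : Y.Opens) (hU : IsAffineOpen U),
    (((pA ⁻¹ᵁ U : PA.Opens) : Scheme.{u}) ≅ Proj (𝒜.deg U hU))}
  {chartB : ∀ (U : Y.Opens) (hU : IsAffineOpen U),
    (((pB ⁻¹ᵁ U : PB.Opens) : Scheme.{u}) ≅ Proj (ℬ.deg U hU))}

lemma gradedHomAt_res (U : Y.Opens) (hU : IsAffineOpen U) (V : Y.Opens) (hV : IsAffineOpen V)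
    (i : V ≤ U) :
    (ℬ.res hU hV i).comp (RelProj.gradedHomAt φ hφ U hU) =
      (RelProj.gradedHomAt φ hφ V hV).comp (𝒜.res hU hV i) :=
  DFunLike.ext _ _ fun x ↦ congr($(φ.hom.naturality (homOfLE i).op).hom x).symm

lemma isRelProjMap_iff (h : PB ⟶ PA) :
    RelProj.IsRelProjMap φ hφ hirr chartA chartB h ↔
      ∀ (U : Y.Opens) (hU : IsAffineOpen U), RelProj.emb pB chartB U hU ≫ h =
        Proj.map (RelProj.gradedHomAt φ hφ U hU) (hirr U hU) ≫ RelProj.emb pA chartA U hU :=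
  forall₂_congr fun U hU ↦ ι_comp_eq_iff h U hU _

lemma existsUnique_relProjMap (hA : RelProj.IsRelProj 𝒜 pA chartA)
    (hB : RelProj.IsRelProj ℬ pB chartB) :
    ∃! h : PB ⟶ PA, RelProj.IsRelProjMap φ hφ hirr chartA chartB h := by
  simp only [isRelProjMap_iff]
  refine emb_existsUnique hB _ fun U hU r ↦ ?_
  rw [← RelProj.map_res_emb hA U hU r, ← Category.assoc, ← Category.assoc, ← Proj.map_comp,
    ← Proj.map_comp]
  congr 1
  exact projMap_congr (gradedHomAt_res φ hφ U hU _ _ _)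

lemma relProjMap_comp_p (hA : RelProj.IsRelProj 𝒜 pA chartA)
    (hB : RelProj.IsRelProj ℬ pB chartB) (h : PB ⟶ PA)
    (hh : RelProj.IsRelProjMap φ hφ hirr chartA chartB h) : h ≫ pA = pB := by
  rw [isRelProjMap_iff] at hh
  refine emb_hom_ext hB fun U hU ↦ ?_
  rw [reassoc_of% (hh U hU), emb_p hA, emb_p hB, reassoc_of% map_toSpecZero,
    ← Spec.map_comp_assoc]
  congr 3
  refine CommRingCat.hom_ext (RingHom.ext fun r ↦ Subtype.ext ?_)
  exact congr($(NatTrans.congr_app φ.comm (op U)).hom r)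

lemma relProjMap_of_charts (hA : RelProj.IsRelProj 𝒜 pA chartA)
    (hB : RelProj.IsRelProj ℬ pB chartB) (h : PB ⟶ PA)
    (hh : RelProj.IsRelProjMap φ hφ hirr chartA chartB h) (Q : MorphismProperty Scheme.{u})
    [IsZariskiLocalAtTarget Q]
    (hQ : ∀ (U : Y.Opens) (hU : IsAffineOpen U),
      Q (Proj.map (RelProj.gradedHomAt φ hφ U hU) (hirr U hU))) : Q h :=
  (projCharts hA).of_charts (projCharts hB) h (relProjMap_comp_p φ hφ hirr hA hB h hh) Q _
    ((isRelProjMap_iff φ hφ hirr h).mp hh) hQ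

end Groth.Ega2P2
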