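/-
`Proj(u)` for an inverse image algebra (EGA II 2.8.10, 3.5.3).
-/
import Groth.Agent.Ega2Proj2.BaseChange
import Groth.Agent.Ega2Proj2.QMapLocal

set_option autoImplicit false

universe u

open CategoryTheory CategoryTheory.Limits AlgebraicGeometry Opposite TopologicalSpace
open scoped HomogeneousIdeal

noncomputable section

namespace Groth.Ega2P2

variable {S S' : Scheme.{u}} {g : S' ⟶ S} {𝒮 : RelProj.QCGrAlg S} {𝒮' : RelProj.QCGrAlg S'}
  (u : RelProj.QGrHom g 𝒮 𝒮') (hu : RelSpec.IsQBaseChange u.toQHom)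
  {P : Scheme.{u}} {p : P ⟶ S}
  {chart : ∀ (U : S.Opens) (hU : IsAffineOpen U),
    (((p ⁻¹ᵁ U : P.Opens) : Scheme.{u}) ≅ Proj (𝒮.deg U hU))}
  {P' : Scheme.{u}} {p' : P' ⟶ S'}
  {chart' : ∀ (U' : S'.Opens) (hU' : IsAffineOpen U'),
    (((p' ⁻¹ᵁ U' : P'.Opens) : Scheme.{u}) ≅ Proj (𝒮'.deg U' hU'))}
  (h : RelProj.IsRelProj 𝒮 p chart) (h' : RelProj.IsRelProj 𝒮' p' chart')

include hu in
lemma irrelevant_le_of_isQBaseChange (U : S.Opens) (hU : IsAffineOpen U) (U' : S'.Opens)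
    (hU' : IsAffineOpen U') (hle : U' ≤ g ⁻¹ᵁ U) :
    (𝒮'.deg U' hU')₊ ≤ ((𝒮.deg U hU)₊).map (u.gradedAt U hU U' hU' hle) :=
  irrelevant_le_map_of_pushout_cat (u.gradedAt U hU U' hU' hle) (g.appLE U U' hle)
    (𝒮.str.app (op U)) (𝒮'.str.app (op U')) (fun x ↦ 𝒮'.str_mem U' hU' x)
    (hu U hU U' hU' hle)

include hu h' in
lemma domQ_eq_top_of_isQBaseChange : RelProj.domQ u p' chart' = ⊤ :=
  (domQ_eq_top_iff u h').mpr fun U hU U' hU' hle ↦
    domOpen_eq_top_of_irrelevant_le _ (irrelevant_le_of_isQBaseChange u hu U hU U' hU' hle)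

/-- On an affine pair, `Proj(u)` is `Proj.map`. -/
lemma emb_comp_projQMap {f : P' ⟶ P} (hf : RelProj.IsProjQMap u p chart p' chart' f)
    (U : S.Opens) (hU : IsAffineOpen U) (U' : S'.Opens) (hU' : IsAffineOpen U')
    (hle : U' ≤ g ⁻¹ᵁ U)
    (hirr : (𝒮'.deg U' hU')₊ ≤ ((𝒮.deg U hU)₊).map (u.gradedAt U hU U' hU' hle)) :
    RelProj.emb p' chart' U' hU' ≫ f =
      Proj.map (u.gradedAt U hU U' hU' hle) hirr ≫ RelProj.emb p chart U hU := by
  refine (Proj.mapAffineOpenCover _ hirr).openCover.hom_ext _ _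
    fun (s : Σ i : PNat, 𝒮.deg U hU i) ↦ ?_
  change Proj.awayι (𝒮'.deg U' hU') _ ((u.gradedAt U hU U' hU' hle).map_mem s.2.2) s.1.pos ≫ _ =
    Proj.awayι (𝒮'.deg U' hU') _ ((u.gradedAt U hU U' hU' hle).map_mem s.2.2) s.1.pos ≫ _
  refine ((Category.assoc _ _ _).symm.trans
    (hf.2 U hU U' hU' hle s.1 s.1.pos s.2 s.2.2)).trans ?_
  exact (Proj.awayι_comp_map_assoc (u.gradedAt U hU U' hU' hle) hirr s.1.pos _ s.2.2 _).symm

include hu h h' in
theorem isPullback_projQMap {f : P' ⟶ P} (hf : RelProj.IsProjQMap u p chart p' chart' f) :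
    IsPullback f p' p g :=
  isPullback_of_charts h h' (fun U hU U' hU' hle ↦ u.gradedAt U hU U' hU' hle)
    (fun U hU U' hU' hle ↦ hu U hU U' hU' hle)
    (irrelevant_le_of_isQBaseChange u hu) f
    (fun U hU U' hU' hle ↦ emb_comp_projQMap u hf U hU U' hU' hle _)

end Groth.Ega2P2
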