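/-
The pointed affine cone of a quasi-coherent graded algebra (EGA II 8.3).
-/
import Groth.Prelude.Def_RelSpec2
import Groth.Agent.Ega2Proj2.RelProjBasic
import Groth.Agent.Ega2Proj2.ChartMaps
import Groth.Agent.Ega2Proj.GradedBasic

set_option autoImplicit false

universe u

open CategoryTheory CategoryTheory.Limits AlgebraicGeometry Opposite TopologicalSpace
open scoped HomogeneousIdeal

noncomputable section

namespace Groth.Ega2P2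

variable {Y : Scheme.{u}} (𝒮 : RelProj.QCGrAlg Y)

lemma mem_vertexCompl {U : Y.Opens} (hU : IsAffineOpen U) (y : Spec (𝒮.presheaf.obj (op U))) :
    y ∈ RelCone.vertexCompl (𝒮.deg U hU) ↔
      ∃ f ∈ (HomogeneousIdeal.irrelevant (𝒮.deg U hU)).toIdeal, f ∉ y.asIdeal :=
  Set.not_subset

/-- The pointed affine spaces are compatible with restriction to basic opens. -/
lemma mem_vertexCompl_res {U : Y.Opens} (hU : IsAffineOpen U) {W : Y.Opens} (hW : IsAffineOpen W)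
    (r : Γ(Y, U)) (hr : Y.basicOpen r = W) (w : Spec (𝒮.presheaf.obj (op W))) :
    (Spec.map (𝒮.presheaf.map (homOfLE (le_of_basicOpen_eq hr)).op)).base w ∈
        RelCone.vertexCompl (𝒮.deg U hU) ↔
      w ∈ RelCone.vertexCompl (𝒮.deg W hW) := by
  rw [mem_vertexCompl, mem_vertexCompl]
  constructor
  · rintro ⟨f, hf, hfw⟩
    refine ⟨𝒮.res hU hW (le_of_basicOpen_eq hr) f, ?_, hfw⟩
    have hle : (HomogeneousIdeal.irrelevant (𝒮.deg U hU)).toIdeal ≤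
        (HomogeneousIdeal.irrelevant (𝒮.deg W hW)).toIdeal.comap
          (𝒮.res hU hW (le_of_basicOpen_eq hr)) :=
      (HomogeneousIdeal.toIdeal_irrelevant_le _).mpr fun i hi x hx ↦
        HomogeneousIdeal.mem_irrelevant_of_mem _ hi ((𝒮.res hU hW (le_of_basicOpen_eq hr)).map_mem hx)
    exact hle hf
  · rintro ⟨g, hg, hgw⟩
    by_contra! hcon
    apply hgw
    have hle : ((HomogeneousIdeal.irrelevant (𝒮.deg U hU)).map
        (𝒮.res hU hW (le_of_basicOpen_eq hr))).toIdeal ≤ w.asIdeal :=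
      Ideal.map_le_iff_le_comap.mpr hcon
    exact hle (irrelevant_le_map_of_eq 𝒮 hU hW _ r hr hg)

/-- The pointed cone in a chart. -/
lemma mem_pointedCone_iff {U : Y.Opens} (hU : IsAffineOpen U)
    (y : Spec (𝒮.presheaf.obj (op U))) :
    (𝒮.toQCAlg.ι U hU).base y ∈ RelCone.pointedCone 𝒮 ↔ y ∈ RelCone.vertexCompl (𝒮.deg U hU) := by
  refine ⟨fun hy ↦ ?_, fun hy ↦ Opens.mem_iSup.mpr ⟨⟨U, hU⟩, y, hy, rfl⟩⟩
  obtain ⟨⟨V, hV⟩, y', hy', hyy⟩ := Opens.mem_iSup.mp hy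
  replace hyy : (𝒮.toQCAlg.ι V hV).base y' = (𝒮.toQCAlg.ι U hU).base y := hyy
  set z := (𝒮.toQCAlg.ι U hU).base y
  have hzU : 𝒮.toQCAlg.π.base z ∈ U := (specCharts 𝒮.toQCAlg).map_mem hU y
  have hzV : 𝒮.toQCAlg.π.base z ∈ V := hyy ▸ (specCharts 𝒮.toQCAlg).map_mem hV y'
  obtain ⟨W, hW, hzW, -, ⟨r, hr⟩, s, hs⟩ :=
    exists_common_basic hU hV ⊤ (𝒮.toQCAlg.π.base z) hzU hzV trivial
  obtain ⟨w, hw⟩ : ∃ w : Spec (𝒮.presheaf.obj (op W)), (𝒮.toQCAlg.ι W hW).base w = z :=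
    (specCharts 𝒮.toQCAlg).mem_range hW hzW
  have key : ∀ {X : Y.Opens} (hX : IsAffineOpen X) (a : Γ(Y, X)) (ha : Y.basicOpen a = W)
      (x : Spec (𝒮.presheaf.obj (op X))), (𝒮.toQCAlg.ι X hX).base x = z →
      (x ∈ RelCone.vertexCompl (𝒮.deg X hX) ↔ w ∈ RelCone.vertexCompl (𝒮.deg W hW)) := by
    intro X hX a ha x hx
    have hx' : x = (Spec.map (𝒮.presheaf.map (homOfLE (le_of_basicOpen_eq ha)).op)).base w := by
      apply (𝒮.toQCAlg.ι X hX).isOpenEmbedding.injective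
      refine (hx.trans hw.symm).trans ?_
      subst ha
      exact (congr($((specCharts 𝒮.toQCAlg).fac X hX a).base w)).symm
    rw [hx']
    exact mem_vertexCompl_res 𝒮 hX hW a ha w
  exact (key hU r hr y rfl).mpr ((key hV s hs y' hyy).mp hy')

variable {Y' : Scheme.{u}} {q : Y' ⟶ Y} {𝒮} {𝒮' : RelProj.QCGrAlg Y'}
  (u : 𝒮.presheaf ⟶ q.base _* 𝒮'.presheaf)
  (φ : ∀ (U : Y.Opens) (hU : IsAffineOpen U) (U' : Y'.Opens) (hU' : IsAffineOpen U')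
    (_ : U' ≤ q ⁻¹ᵁ U), 𝒮.deg U hU →+*ᵍ 𝒮'.deg U' hU')
  (hφ : ∀ (U : Y.Opens) (hU : IsAffineOpen U) (U' : Y'.Opens) (hU' : IsAffineOpen U')
    (hle : U' ≤ q ⁻¹ᵁ U), (φ U hU U' hU' hle).toRingHom =
      ((u.app (op U) : 𝒮.presheaf.obj (op U) ⟶ 𝒮'.presheaf.obj (op (q ⁻¹ᵁ U))) ≫
        𝒮'.presheaf.map (homOfLE hle).op).hom)
  (Φ : 𝒮'.toQCAlg.spec ⟶ 𝒮.toQCAlg.spec)
  (hΦ : ∀ (U : Y.Opens) (hU : IsAffineOpen U) (U' : Y'.Opens) (hU' : IsAffineOpen U')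
    (hle : U' ≤ q ⁻¹ᵁ U), 𝒮'.toQCAlg.ι U' hU' ≫ Φ =
      Spec.map ((u.app (op U) : 𝒮.presheaf.obj (op U) ⟶ 𝒮'.presheaf.obj (op (q ⁻¹ᵁ U))) ≫
        𝒮'.presheaf.map (homOfLE hle).op) ≫ 𝒮.toQCAlg.ι U hU)

include hφ hΦ in
lemma preimage_pointedCone_chart_iff (U : Y.Opens) (hU : IsAffineOpen U) (U' : Y'.Opens)
    (hU' : IsAffineOpen U') (hle : U' ≤ q ⁻¹ᵁ U) (y : Spec (𝒮'.presheaf.obj (op U'))) :
    (𝒮'.toQCAlg.ι U' hU').base y ∈ Φ ⁻¹ᵁ RelCone.pointedCone 𝒮 ↔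
      ∃ f ∈ (HomogeneousIdeal.irrelevant (𝒮.deg U hU)).toIdeal,
        φ U hU U' hU' hle f ∉ y.asIdeal := by
  have e := congr($(hΦ U hU U' hU' hle).base y)
  change Φ.base ((𝒮'.toQCAlg.ι U' hU').base y) = _ at e
  change Φ.base ((𝒮'.toQCAlg.ι U' hU').base y) ∈ RelCone.pointedCone 𝒮 ↔ _
  rw [e]
  refine (mem_pointedCone_iff 𝒮 hU _).trans ((mem_vertexCompl 𝒮 hU _).trans ?_)
  exact exists_congr fun f ↦ and_congr_right fun _ ↦
    not_congr (iff_of_eq (congrArg (· ∈ y.asIdeal) (DFunLike.congr_fun (hφ U hU U' hU' hle) f).symm))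

lemma exists_affine_pair (x : Y') : ∃ (U : Y.Opens) (_ : IsAffineOpen U) (U' : Y'.Opens)
    (_ : IsAffineOpen U'), x ∈ U' ∧ U' ≤ q ⁻¹ᵁ U := by
  obtain ⟨_, ⟨U, hU, rfl⟩, hxU, -⟩ :=
    Y.isBasis_affineOpens.exists_subset_of_mem_open (Set.mem_univ (q.base x)) isOpen_univ
  obtain ⟨_, ⟨W, hW, rfl⟩, hxW, hle⟩ := Y'.isBasis_affineOpens.exists_subset_of_mem_open
    (show x ∈ q ⁻¹ᵁ U from hxU) (q ⁻¹ᵁ U).2
  exact ⟨U, hU, W, hW, hxW, hle⟩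

include hφ hΦ in
theorem preimage_pointedCone_le : Φ ⁻¹ᵁ RelCone.pointedCone 𝒮 ≤ RelCone.pointedCone 𝒮' := by
  intro z hz
  obtain ⟨U, hU, U', hU', hzU', hle⟩ := exists_affine_pair (q := q) (𝒮'.toQCAlg.π.base z)
  obtain ⟨y, rfl⟩ : ∃ y : Spec (𝒮'.presheaf.obj (op U')), (𝒮'.toQCAlg.ι U' hU').base y = z :=
    (specCharts 𝒮'.toQCAlg).mem_range hU' hzU'
  obtain ⟨f, hf, hfy⟩ := (preimage_pointedCone_chart_iff u φ hφ Φ hΦ U hU U' hU' hle y).mp hz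
  refine (mem_pointedCone_iff 𝒮' hU' y).mpr ((mem_vertexCompl 𝒮' hU' y).mpr
    ⟨φ U hU U' hU' hle f, ?_, hfy⟩)
  have h2 : (HomogeneousIdeal.irrelevant (𝒮.deg U hU)).toIdeal ≤
      (HomogeneousIdeal.irrelevant (𝒮'.deg U' hU')).toIdeal.comap (φ U hU U' hU' hle) :=
    (HomogeneousIdeal.toIdeal_irrelevant_le _).mpr fun i hi x hx ↦
      HomogeneousIdeal.mem_irrelevant_of_mem _ hi ((φ U hU U' hU' hle).map_mem hx)
  exact h2 hf

include hφ hΦ in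
theorem preimage_pointedCone_eq_iff :
    (∀ (U : Y.Opens) (hU : IsAffineOpen U) (U' : Y'.Opens) (hU' : IsAffineOpen U')
        (hle : U' ≤ q ⁻¹ᵁ U), RelCone.domOpen (φ U hU U' hU' hle) = ⊤) ↔
      Φ ⁻¹ᵁ RelCone.pointedCone 𝒮 = RelCone.pointedCone 𝒮' := by
  constructor
  · intro hdom
    refine le_antisymm (preimage_pointedCone_le u φ hφ Φ hΦ) fun z hz ↦ ?_
    obtain ⟨U, hU, U', hU', hzU', hle⟩ := exists_affine_pair (q := q) (𝒮'.toQCAlg.π.base z)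
    obtain ⟨y, rfl⟩ : ∃ y : Spec (𝒮'.presheaf.obj (op U')), (𝒮'.toQCAlg.ι U' hU').base y = z :=
      (specCharts 𝒮'.toQCAlg).mem_range hU' hzU'
    obtain ⟨g, hg, hgy⟩ := (mem_vertexCompl 𝒮' hU' y).mp ((mem_pointedCone_iff 𝒮' hU' y).mp hz)
    refine (preimage_pointedCone_chart_iff u φ hφ Φ hΦ U hU U' hU' hle y).mpr ?_
    by_contra! hcon
    apply hgy
    have hle' : ((HomogeneousIdeal.irrelevant (𝒮.deg U hU)).map (φ U hU U' hU' hle)).toIdeal ≤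
        y.asIdeal := Ideal.map_le_iff_le_comap.mpr hcon
    refine y.isPrime.radical_le_iff.mpr hle' ?_
    refine (Groth.Ega2Proj.mem_radical_iff_forall_point (𝒮'.deg U' hU') hg
      ((HomogeneousIdeal.irrelevant (𝒮.deg U hU)).map (φ U hU U' hU' hle)).isHomogeneous).mpr
        fun x hx ↦ ?_
    obtain ⟨f, hf, hfx⟩ := (RelCone.mem_domOpen _ x).mp ((hdom U hU U' hU' hle).ge trivial)
    exact absurd (hx (Ideal.mem_map_of_mem _ hf)) hfx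
  · intro heq U hU U' hU' hle
    refine top_le_iff.mp fun x _ ↦ (RelCone.mem_domOpen _ x).mpr ?_
    obtain ⟨g, hg, hgx⟩ := Set.not_subset.mp x.not_irrelevant_le
    let y : Spec (𝒮'.presheaf.obj (op U')) := ⟨x.asHomogeneousIdeal.toIdeal, x.isPrime⟩
    have hy : (𝒮'.toQCAlg.ι U' hU').base y ∈ Φ ⁻¹ᵁ RelCone.pointedCone 𝒮 := by
      rw [heq]
      exact (mem_pointedCone_iff 𝒮' hU' y).mpr ((mem_vertexCompl 𝒮' hU' y).mpr ⟨g, hg, hgx⟩)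
    exact (preimage_pointedCone_chart_iff u φ hφ Φ hΦ U hU U' hU' hle y).mp hy

end Groth.Ega2P2
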