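/-
The open `X_f` of a global homogeneous section on a relative Proj (EGA II 3.1.4).
-/
import Groth.Agent.Ega2Proj2.RelProjBasic
import Groth.Agent.Ega2Proj2.ChartMaps

set_option autoImplicit false

universe u

open CategoryTheory CategoryTheory.Limits AlgebraicGeometry Opposite TopologicalSpace
open scoped HomogeneousIdeal

noncomputable section

namespace Groth.Ega2P2

variable {S : Scheme.{u}} {𝒮 : RelProj.QCGrAlg S} {P : Scheme.{u}} {p : P ⟶ S}
  {chart : ∀ (U : S.Opens) (hU : IsAffineOpen U),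
    (((p ⁻¹ᵁ U : P.Opens) : Scheme.{u}) ≅ Proj (𝒮.deg U hU))}
  (h : RelProj.IsRelProj 𝒮 p chart)

lemma ι_image_chart_eq (U : S.Opens) (hU : IsAffineOpen U) (O : (Proj (𝒮.deg U hU)).Opens) :
    (p ⁻¹ᵁ U).ι ''ᵁ ((chart U hU).hom ⁻¹ᵁ O) = RelProj.emb p chart U hU ''ᵁ O := by
  ext z
  constructor
  · rintro ⟨w, hw, rfl⟩
    refine ⟨(chart U hU).hom.base w, hw, ?_⟩
    change ((chart U hU).hom ≫ RelProj.emb p chart U hU).base w = _
    rw [RelProj.emb, Iso.hom_inv_id_assoc]
    rfl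
  · rintro ⟨y, hy, rfl⟩
    refine ⟨(chart U hU).inv.base y, ?_, rfl⟩
    change ((chart U hU).inv ≫ (chart U hU).hom).base y ∈ O
    rw [Iso.inv_hom_id]
    exact hy

/-- The restriction of a global section. -/
abbrev globalRes (f : 𝒮.presheaf.obj (op ⊤)) (U : S.Opens) : 𝒮.presheaf.obj (op U) :=
  (𝒮.presheaf.map (homOfLE (le_top : U ≤ ⊤)).op).hom f

include h in
/-- The basic opens of a global section on different charts agree. -/
lemma mem_basicOpen_global_iff (f : 𝒮.presheaf.obj (op ⊤)) {U : S.Opens} (hU : IsAffineOpen U)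
    {V : S.Opens} (hV : IsAffineOpen V) (y : Proj (𝒮.deg U hU)) (y' : Proj (𝒮.deg V hV))
    (hyy : (RelProj.emb p chart U hU).base y = (RelProj.emb p chart V hV).base y') :
    y ∈ Proj.basicOpen (𝒮.deg U hU) (globalRes f U) ↔
      y' ∈ Proj.basicOpen (𝒮.deg V hV) (globalRes f V) := by
  set z := (RelProj.emb p chart U hU).base y with hz
  have hzU : p.base z ∈ U := (projCharts h).map_mem hU y
  have hzV : p.base z ∈ V := by rw [hyy]; exact (projCharts h).map_mem hV y'
  obtain ⟨W, hW, hzW, -, ⟨r, hr⟩, s, hs⟩ := exists_common_basic hU hV ⊤ (p.base z) hzU hzV trivial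
  obtain ⟨w, hw⟩ : ∃ w : Proj (𝒮.deg W hW), (RelProj.emb p chart W hW).base w = z :=
    (projCharts h).mem_range hW hzW
  have key : ∀ {X : S.Opens} (hX : IsAffineOpen X) (a : Γ(S, X)) (ha : S.basicOpen a = W)
      (x : Proj (𝒮.deg X hX)), (RelProj.emb p chart X hX).base x = z →
      (x ∈ Proj.basicOpen (𝒮.deg X hX) (globalRes f X) ↔
        w ∈ Proj.basicOpen (𝒮.deg W hW) (globalRes f W)) := by
    intro X hX a ha x hx
    have hx' : x = (Proj.map (𝒮.res hX hW (le_of_basicOpen_eq ha))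
        (irrelevant_le_map_of_eq 𝒮 hX hW _ a ha)).base w := by
      apply (RelProj.emb p chart X hX).isOpenEmbedding.injective
      refine (hx.trans hw.symm).trans ?_
      exact (congr($(map_res_emb_of_eq h hX hW (le_of_basicOpen_eq ha) a ha).base w)).symm
    have hf : 𝒮.res hX hW (le_of_basicOpen_eq ha) (globalRes f X) = globalRes f W :=
      (congr($(𝒮.presheaf.map_comp (homOfLE (le_top : X ≤ ⊤)).op
        (homOfLE (le_of_basicOpen_eq ha)).op).hom f)).symm
    rw [← hf, ← Proj.map_preimage_basicOpen _ (irrelevant_le_map_of_eq 𝒮 hX hW _ a ha), hx']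
    exact Iff.rfl
  exact (key hU r hr y rfl).trans (key hV s hs y' hyy.symm).symm

variable (p chart) in
/-- The open `X_f`. -/
def globalOpen (f : 𝒮.presheaf.obj (op ⊤)) : P.Opens :=
  ⨆ V : {W : S.Opens // IsAffineOpen W},
    RelProj.emb p chart V.1 V.2 ''ᵁ Proj.basicOpen (𝒮.deg V.1 V.2) (globalRes f V.1)

include h in
lemma globalOpen_inf (f : 𝒮.presheaf.obj (op ⊤)) (U : S.Opens) (hU : IsAffineOpen U) :
    globalOpen p chart f ⊓ p ⁻¹ᵁ U =
      RelProj.emb p chart U hU ''ᵁ Proj.basicOpen (𝒮.deg U hU) (globalRes f U) := by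
  ext z
  constructor
  · rintro ⟨hz, hzU⟩
    obtain ⟨⟨V, hV⟩, y', hy', rfl⟩ := Opens.mem_iSup.mp hz
    obtain ⟨y, hy⟩ : ∃ y : Proj (𝒮.deg U hU), (RelProj.emb p chart U hU).base y =
        (RelProj.emb p chart V hV).base y' := (projCharts h).mem_range hU hzU
    exact ⟨y, (mem_basicOpen_global_iff h f hU hV y y' hy).mpr hy', hy⟩
  · rintro ⟨y, hy, rfl⟩
    exact ⟨Opens.mem_iSup.mpr ⟨⟨U, hU⟩, y, hy, rfl⟩, (projCharts h).map_mem hU y⟩

include h in
lemma isAffineHom_globalOpen (f : 𝒮.presheaf.obj (op ⊤)) {d : ℕ} (hd : 0 < d)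
    (hf : ∀ (U : S.Opens) (hU : IsAffineOpen U), globalRes f U ∈ 𝒮.deg U hU d) :
    IsAffineHom ((globalOpen p chart f).ι ≫ p) where
  isAffine_preimage U hU := by
    rw [← Scheme.Hom.isAffineOpen_iff_of_isOpenImmersion (globalOpen p chart f).ι,
      Scheme.Hom.comp_preimage, Scheme.Hom.image_preimage_eq_opensRange_inf,
      Scheme.Opens.opensRange_ι, globalOpen_inf h f U hU]
    exact (Proj.isAffineOpen_basicOpen _ _ (hf U hU) hd).image_of_isOpenImmersion _

end Groth.Ega2P2
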