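/-
The graded algebra `S[z]` over an affine open (EGA II 8.3.1).
-/
import Groth.Prelude.Def_RelSpec2
import Groth.Agent.Ega2Proj2.ChartMaps

set_option autoImplicit false

universe u

open CategoryTheory AlgebraicGeometry Opposite TopologicalSpace Polynomial
open scoped HomogeneousIdeal

noncomputable section

namespace Groth.Ega2P2

variable {S : Scheme.{u}} {𝒮 𝒮h : RelProj.QCGrAlg S} {ι : 𝒮.toQCAlg ⟶ 𝒮h.toQCAlg}
  {z : 𝒮h.presheaf.obj (op ⊤)} (h : RelCone.IsPolyOver 𝒮 𝒮h ι z) {U : S.Opens}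
  (hU : IsAffineOpen U)

lemma polyEquiv_C (a : 𝒮.presheaf.obj (op U)) :
    h.polyEquiv U hU (C a) = RelProj.gradedHomAt ι h.graded U hU a := by
  rw [RelCone.IsPolyOver.polyEquiv_apply, eval₂_C]
  rfl

lemma polyEquiv_monomial (j : ℕ) (a : 𝒮.presheaf.obj (op U)) :
    h.polyEquiv U hU (monomial j a) =
      RelProj.gradedHomAt ι h.graded U hU a * RelCone.restrictTop 𝒮h z U ^ j := by
  rw [RelCone.IsPolyOver.polyEquiv_apply, eval₂_monomial]
  rfl

lemma evalOne_polyEquiv (p : Polynomial (𝒮.presheaf.obj (op U))) :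
    h.evalOne U hU (h.polyEquiv U hU p) = p.eval 1 := by
  rw [RelCone.IsPolyOver.evalOne, RingHom.comp_apply]
  simp

lemma polyEquiv_monomial_mem (j m : ℕ) {a : 𝒮.presheaf.obj (op U)} (ha : a ∈ 𝒮.deg U hU m) :
    h.polyEquiv U hU (monomial j a) ∈ 𝒮h.deg U hU (m + j) := by
  rw [polyEquiv_monomial]
  refine SetLike.mul_mem_graded ((RelProj.gradedHomAt ι h.graded U hU).map_mem ha) ?_
  simpa using SetLike.pow_mem_graded (A := 𝒮h.deg U hU) j (h.deg_z U hU)

/-- The homogeneous parts in terms of the coefficients. -/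
lemma decompose_polyEquiv (p : Polynomial (𝒮.presheaf.obj (op U))) (k : ℕ) :
    (DirectSum.decompose (𝒮h.deg U hU) (h.polyEquiv U hU p) k : 𝒮h.presheaf.obj (op U)) =
      h.polyEquiv U hU (∑ j ∈ Finset.range (k + 1),
        monomial j (DirectSum.decompose (𝒮.deg U hU) (p.coeff j) (k - j) : 𝒮.presheaf.obj (op U))) := by
  classical
  induction p using Polynomial.induction_on' with
  | add p q hp hq =>
    rw [map_add, DirectSum.decompose_add, DirectSum.add_apply, AddMemClass.coe_add, hp, hq,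
      ← map_add, ← Finset.sum_add_distrib]
    refine congrArg _ (Finset.sum_congr rfl fun j _ ↦ ?_)
    rw [coeff_add, DirectSum.decompose_add, DirectSum.add_apply, AddMemClass.coe_add, map_add]
  | monomial n a =>
    have hz : RelCone.restrictTop 𝒮h z U ^ n ∈ 𝒮h.deg U hU n := by
      simpa using SetLike.pow_mem_graded (A := 𝒮h.deg U hU) n (h.deg_z U hU)
    rw [polyEquiv_monomial, DirectSum.coe_decompose_mul_of_right_mem (𝒮h.deg U hU) k hz]
    by_cases hn : n ≤ k
    · rw [if_pos hn, Finset.sum_eq_single n]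
      · rw [coeff_monomial, if_pos rfl, polyEquiv_monomial, GradedRingHom.map_directSumDecompose]
      · intro j _ hj
        rw [coeff_monomial, if_neg (Ne.symm hj), DirectSum.decompose_zero, DirectSum.zero_apply,
          ZeroMemClass.coe_zero, map_zero]
      · intro hn'
        exact (hn' (Finset.mem_range.mpr (Nat.lt_succ_of_le hn))).elim
    · rw [if_neg hn, Finset.sum_eq_zero, map_zero]
      intro j hj
      have := Finset.mem_range.mp hj
      rw [coeff_monomial, if_neg (by omega), DirectSum.decompose_zero, DirectSum.zero_apply,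
        ZeroMemClass.coe_zero, map_zero]

/-- A homogeneous element is a sum of `ι(a_j) z^j`. -/
lemma exists_coeff {k : ℕ} {x : 𝒮h.presheaf.obj (op U)} (hx : x ∈ 𝒮h.deg U hU k) :
    ∃ a : ℕ → 𝒮.presheaf.obj (op U), (∀ j, a j ∈ 𝒮.deg U hU (k - j)) ∧
      x = h.polyEquiv U hU (∑ j ∈ Finset.range (k + 1), monomial j (a j)) := by
  obtain ⟨p, rfl⟩ := (h.polyEquiv U hU).surjective x
  refine ⟨fun j ↦ DirectSum.decompose (𝒮.deg U hU) (p.coeff j) (k - j),
    fun j ↦ SetLike.coe_mem _, ?_⟩
  rw [← decompose_polyEquiv h hU p k, DirectSum.decompose_of_mem_same _ hx]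

/-- "`z = 1`" is injective on each homogeneous part. -/
lemma eq_zero_of_evalOne_eq_zero {k : ℕ} {x : 𝒮h.presheaf.obj (op U)} (hx : x ∈ 𝒮h.deg U hU k)
    (h1 : h.evalOne U hU x = 0) : x = 0 := by
  classical
  obtain ⟨a, ha, rfl⟩ := exists_coeff h hU hx
  rw [evalOne_polyEquiv, eval_finsetSum] at h1
  simp only [eval_monomial, one_pow, mul_one] at h1
  have hz : ∀ j ∈ Finset.range (k + 1), a j = 0 := by
    intro j hj
    have h2 := congrArg
      (fun y ↦ (DirectSum.decompose (𝒮.deg U hU) y (k - j) : 𝒮.presheaf.obj (op U))) h1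
    simp only [DirectSum.decompose_zero, DirectSum.zero_apply, ZeroMemClass.coe_zero] at h2
    rw [DirectSum.decompose_sum, DirectSum.sum_apply, AddSubmonoidClass.coe_finsetSum,
      Finset.sum_eq_single j, DirectSum.decompose_of_mem_same _ (ha j)] at h2
    · exact h2
    · intro i hi hij
      have := Finset.mem_range.mp hj
      have := Finset.mem_range.mp hi
      exact DirectSum.decompose_of_mem_ne _ (ha i) (by omega)
    · exact fun hn ↦ (hn hj).elim
  rw [Finset.sum_eq_zero (fun j hj ↦ by rw [hz j hj, map_zero]), map_zero]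

/-- The element `ι(a) / z^i` of the localization, for `a` of degree `i`. -/
def iotaDiv {i : ℕ} (a : 𝒮.presheaf.obj (op U)) (ha : a ∈ 𝒮.deg U hU i) :
    HomogeneousLocalization.Away (𝒮h.deg U hU) (RelCone.restrictTop 𝒮h z U) :=
  HomogeneousLocalization.Away.mk (𝒮h.deg U hU) (h.deg_z U hU) i
    (RelProj.gradedHomAt ι h.graded U hU a)
    (by simpa using (RelProj.gradedHomAt ι h.graded U hU).map_mem ha)

lemma iotaDiv_val {i : ℕ} (a : 𝒮.presheaf.obj (op U)) (ha : a ∈ 𝒮.deg U hU i) :
    (iotaDiv h hU a ha).val = Localization.mk ((ι.hom.app (op U)).hom a)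
      ⟨RelCone.restrictTop 𝒮h z U ^ i, pow_mem (Submonoid.mem_powers _) i⟩ := rfl

lemma awayZToBase_mk (k : ℕ) (x : 𝒮h.presheaf.obj (op U)) (hx : x ∈ 𝒮h.deg U hU (k • 1)) :
    h.awayZToBase U hU (HomogeneousLocalization.Away.mk (𝒮h.deg U hU) (h.deg_z U hU) k x hx) =
      h.evalOne U hU x :=
  h.awayZToBase_of_val U hU _ x k (HomogeneousLocalization.Away.val_mk ..)

lemma awayZToBase_iotaDiv {i : ℕ} (a : 𝒮.presheaf.obj (op U)) (ha : a ∈ 𝒮.deg U hU i) :
    h.awayZToBase U hU (iotaDiv h hU a ha) = a := by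
  rw [iotaDiv, awayZToBase_mk]
  exact h.evalOne_ι U hU a

/-- `𝒮h(U)_(z) → 𝒮(U)` is bijective. -/
theorem awayZToBase_bijective : Function.Bijective (h.awayZToBase U hU) := by
  classical
  refine ⟨(injective_iff_map_eq_zero _).mpr fun q hq ↦ ?_, fun a ↦ ?_⟩
  · obtain ⟨k, x, hx, rfl⟩ :=
      HomogeneousLocalization.Away.mk_surjective (𝒮h.deg U hU) (h.deg_z U hU) q
    rw [awayZToBase_mk] at hq
    have hx0 := eq_zero_of_evalOne_eq_zero h hU hx hq
    subst hx0
    apply HomogeneousLocalization.val_injective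
    rw [HomogeneousLocalization.Away.val_mk, Localization.mk_zero, HomogeneousLocalization.val_zero]
  · refine ⟨∑ i ∈ (DirectSum.decompose (𝒮.deg U hU) a).support,
      iotaDiv h hU (DirectSum.decompose (𝒮.deg U hU) a i : 𝒮.presheaf.obj (op U)) (SetLike.coe_mem _), ?_⟩
    rw [map_sum]
    simp only [awayZToBase_iotaDiv]
    exact DirectSum.sum_support_decompose _ a

/-- Ring homomorphisms out of the localization are determined by their values on `ι(a) / z^i`. -/
theorem away_hom_ext {T : Type u} [CommRing T]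
    {f g : HomogeneousLocalization.Away (𝒮h.deg U hU) (RelCone.restrictTop 𝒮h z U) →+* T}
    (hfg : ∀ (i : ℕ) (a : 𝒮.presheaf.obj (op U)) (ha : a ∈ 𝒮.deg U hU i),
      f (iotaDiv h hU a ha) = g (iotaDiv h hU a ha)) : f = g := by
  classical
  refine RingHom.ext fun q ↦ ?_
  obtain ⟨a, rfl⟩ : ∃ a, (RingEquiv.ofBijective _ (awayZToBase_bijective h hU)).symm a = q :=
    (RingEquiv.ofBijective _ (awayZToBase_bijective h hU)).symm.surjective q
  rw [← DirectSum.sum_support_decompose (𝒮.deg U hU) a, map_sum, map_sum, map_sum]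
  refine Finset.sum_congr rfl fun i _ ↦ ?_
  have e : (RingEquiv.ofBijective _ (awayZToBase_bijective h hU)).symm
      (DirectSum.decompose (𝒮.deg U hU) a i : 𝒮.presheaf.obj (op U)) =
        iotaDiv h hU _ (SetLike.coe_mem (DirectSum.decompose (𝒮.deg U hU) a i)) :=
    (RingEquiv.ofBijective _ (awayZToBase_bijective h hU)).injective
      ((RingEquiv.apply_symm_apply _ _).trans (awayZToBase_iotaDiv h hU _ _).symm)
  rw [e]
  exact hfg _ _ _

include h hU in
/-- `z` is a non-zero-divisor over an affine open. -/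
theorem restrictTop_mem_nonZeroDivisors :
    RelCone.restrictTop 𝒮h z U ∈ nonZeroDivisors (𝒮h.presheaf.obj (op U)) := by
  have hX : h.polyEquiv U hU X = RelCone.restrictTop 𝒮h z U := by
    rw [RelCone.IsPolyOver.polyEquiv_apply, eval₂_X]
  rw [mem_nonZeroDivisors_iff_right]
  intro x hx
  obtain ⟨p, rfl⟩ := (h.polyEquiv U hU).surjective x
  rw [← hX, ← map_mul, map_eq_zero_iff _ (h.polyEquiv U hU).injective] at hx
  have hp : p = 0 := Polynomial.ext fun n ↦ by
    have := congrArg (fun r ↦ Polynomial.coeff r (n + 1)) hx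
    simpa using this
  rw [hp, map_zero]

end Groth.Ega2P2
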