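/-
The affine cone inside the projective cone (EGA II 8.3.2).
-/
import Groth.Agent.Ega2Proj2.PolyOver
import Groth.Agent.Ega2Proj2.ProjDense
import Groth.Agent.Ega2Proj2.RelProjProps
import Groth.Agent.Ega2Proj2.GlobalBasicOpen

set_option autoImplicit false

universe u

open CategoryTheory CategoryTheory.Limits AlgebraicGeometry Opposite TopologicalSpace
open scoped HomogeneousIdeal

noncomputable section

namespace Groth.Ega2P2

/-- The kernel of a base change along an open immersion. -/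
lemma ker_ideal_eq_bot_of_isPullback {X Y U V : Scheme.{u}} (f : X ⟶ Y) (f' : U ⟶ V) (iU : U ⟶ X)
    (iV : V ⟶ Y) [IsOpenImmersion iV] [QuasiCompact f] (H : IsPullback f' iU iV f) (hf' : f'.ker = ⊥)
    (W : V.affineOpens) : f.ker.ideal ⟨iV ''ᵁ W, W.2.image_of_isOpenImmersion _⟩ = ⊥ := by
  have hk := Scheme.ker_ideal_of_isPullback_of_isOpenImmersion f f' iU iV H W
  rw [hf', Scheme.IdealSheafData.ideal_bot, Pi.bot_apply] at hk
  refine eq_bot_iff.mpr fun x hx ↦ ?_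
  have hx' : (iV.appIso W).hom.hom x = 0 := by
    refine Ideal.mem_bot.mp (hk ▸ ?_)
    rw [Ideal.mem_comap, ← CommRingCat.comp_apply, Iso.hom_inv_id]
    exact hx
  exact (map_eq_zero_iff _ (ConcreteCategory.bijective_of_isIso (iV.appIso W).hom).1).mp hx'

variable {Y : Scheme.{u}} {𝒮 𝒮h : RelProj.QCGrAlg Y} {ι : 𝒮.toQCAlg ⟶ 𝒮h.toQCAlg}
  {z : 𝒮h.presheaf.obj (op ⊤)} (h : RelCone.IsPolyOver 𝒮 𝒮h ι z)
  {PC : Scheme.{u}} {pC : PC ⟶ Y}
  {chartC : ∀ (U : Y.Opens) (hU : IsAffineOpen U),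
    (((pC ⁻¹ᵁ U : PC.Opens) : Scheme.{u}) ≅ Proj (𝒮h.deg U hU))}

lemma restrictTop_res {U V : Y.Opens} (hU : IsAffineOpen U) (hV : IsAffineOpen V) (i : V ≤ U) :
    𝒮h.res hU hV i (RelCone.restrictTop 𝒮h z U) = RelCone.restrictTop 𝒮h z V :=
  (congr($(𝒮h.presheaf.map_comp (homOfLE (le_top : U ≤ ⊤)).op (homOfLE i).op).hom z)).symm

lemma awayZToBase_natural {U V : Y.Opens} (hU : IsAffineOpen U) (hV : IsAffineOpen V) (i : V ≤ U) :
    (h.awayZToBase V hV).comp (amap (𝒮h.res hU hV i) _ _ (restrictTop_res hU hV i)) =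
      (𝒮.presheaf.map (homOfLE i).op).hom.comp (h.awayZToBase U hU) := by
  refine away_hom_ext h hU fun k a ha ↦ ?_
  rw [RingHom.comp_apply, RingHom.comp_apply, awayZToBase_iotaDiv]
  have hnat : 𝒮h.res hU hV i (RelProj.gradedHomAt ι h.graded U hU a) =
      RelProj.gradedHomAt ι h.graded V hV (𝒮.res hU hV i a) :=
    (congr($(ι.hom.naturality (homOfLE i).op).hom a)).symm
  have e : amap (𝒮h.res hU hV i) _ _ (restrictTop_res hU hV i) (iotaDiv h hU a ha) =
      iotaDiv h hV (𝒮.res hU hV i a) ((𝒮.res hU hV i).map_mem ha) := by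
    apply HomogeneousLocalization.val_injective
    rw [iotaDiv, iotaDiv, HomogeneousLocalization.Away.val_mk, amap, HomogeneousLocalization.Away.mk,
      HomogeneousLocalization.map_mk, HomogeneousLocalization.val_mk]
    refine congrArg₂ Localization.mk hnat (Subtype.ext ?_)
    change 𝒮h.res hU hV i (RelCone.restrictTop 𝒮h z U ^ k) = RelCone.restrictTop 𝒮h z V ^ k
    rw [map_pow, restrictTop_res]
  rw [e, awayZToBase_iotaDiv]
  rfl

/-- The chart of the cone immersion into `Proj 𝒮h(U)`. -/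
def coneImmAux (U : Y.Opens) (hU : IsAffineOpen U) :
    Spec (𝒮.presheaf.obj (op U)) ⟶ Proj (𝒮h.deg U hU) :=
  Spec.map (CommRingCat.ofHom (h.awayZToBase U hU)) ≫
    Proj.awayι (𝒮h.deg U hU) (RelCone.restrictTop 𝒮h z U) (h.deg_z U hU) one_pos

lemma isIso_awayZToBase (U : Y.Opens) (hU : IsAffineOpen U) :
    IsIso (Spec.map (CommRingCat.ofHom (h.awayZToBase U hU))) := by
  haveI : IsIso (CommRingCat.ofHom (h.awayZToBase U hU)) :=
    (ConcreteCategory.isIso_iff_bijective _).mpr (awayZToBase_bijective h hU)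
  infer_instance

instance (U : Y.Opens) (hU : IsAffineOpen U) : IsOpenImmersion (coneImmAux h U hU) := by
  have := isIso_awayZToBase h U hU
  unfold coneImmAux
  infer_instance

instance (U : Y.Opens) (hU : IsAffineOpen U) : IsAffineHom (coneImmAux h U hU) :=
  MorphismProperty.of_postcomp (W := @IsAffineHom) (W' := @IsSeparated) _
    (Limits.terminal.from _) inferInstance inferInstance

lemma opensRange_coneImmAux (U : Y.Opens) (hU : IsAffineOpen U) :
    (coneImmAux h U hU).opensRange =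
      Proj.basicOpen (𝒮h.deg U hU) (RelCone.restrictTop 𝒮h z U) := by
  have := isIso_awayZToBase h U hU
  simp only [coneImmAux, Scheme.Hom.opensRange_comp, Scheme.Hom.opensRange_of_isIso,
    Scheme.Hom.image_top_eq_opensRange, Proj.opensRange_awayι]

lemma ker_coneImmAux (U : Y.Opens) (hU : IsAffineOpen U) : (coneImmAux h U hU).ker = ⊥ := by
  have := isIso_awayZToBase h U hU
  rw [coneImmAux, Scheme.Hom.ker_comp_of_isIso, ← Proj.basicOpenIsoSpec_inv_ι,
    Scheme.Hom.ker_comp_of_isIso]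
  exact ker_basicOpen_ι one_pos _ (h.deg_z U hU) (restrictTop_mem_nonZeroDivisors h hU)

variable (hC : RelProj.IsRelProj 𝒮h pC chartC)

/-- Restatement of the predicate `IsConeImm`. -/
lemma isConeImm_iff (i : 𝒮.toQCAlg.spec ⟶ PC) :
    RelCone.IsConeImm 𝒮 h pC chartC i ↔ ∀ (U : Y.Opens) (hU : IsAffineOpen U),
      𝒮.toQCAlg.ι U hU ≫ i = coneImmAux h U hU ≫ RelProj.emb pC chartC U hU := by
  simp only [coneImmAux, Category.assoc]
  rfl

include hC in
theorem existsUnique_coneImm :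
    ∃! i : 𝒮.toQCAlg.spec ⟶ PC, RelCone.IsConeImm 𝒮 h pC chartC i := by
  refine (specCharts 𝒮.toQCAlg).existsUnique_hom (Z := PC)
    (fun U hU ↦ Spec.map (CommRingCat.ofHom (h.awayZToBase U hU)) ≫
      Proj.awayι (𝒮h.deg U hU) (RelCone.restrictTop 𝒮h z U) (h.deg_z U hU) one_pos ≫
        RelProj.emb pC chartC U hU) fun U hU r ↦ ?_
  have key : Spec.map (𝒮.presheaf.map (homOfLE (Y.basicOpen_le r)).op) ≫
      Spec.map (CommRingCat.ofHom (h.awayZToBase U hU)) ≫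
        Proj.awayι (𝒮h.deg U hU) (RelCone.restrictTop 𝒮h z U) (h.deg_z U hU) one_pos ≫
          RelProj.emb pC chartC U hU =
    Spec.map (CommRingCat.ofHom (h.awayZToBase (Y.basicOpen r) (hU.basicOpen r))) ≫
      Proj.awayι (𝒮h.deg (Y.basicOpen r) (hU.basicOpen r))
        (RelCone.restrictTop 𝒮h z (Y.basicOpen r)) (h.deg_z _ (hU.basicOpen r)) one_pos ≫
          RelProj.emb pC chartC (Y.basicOpen r) (hU.basicOpen r) := by
    rw [← Spec.map_comp_assoc, ← map_res_emb_of_eq hC hU (hU.basicOpen r) (Y.basicOpen_le r) r rfl,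
      ← Category.assoc (Proj.awayι (𝒮h.deg (Y.basicOpen r) (hU.basicOpen r)) _ _ _),
      awayι_comp_map_amap (𝒮h.res hU (hU.basicOpen r) (Y.basicOpen_le r)) _ one_pos _ (h.deg_z U hU) _
        (restrictTop_res hU (hU.basicOpen r) (Y.basicOpen_le r)), Category.assoc, ← Spec.map_comp_assoc]
    congr 2
    exact CommRingCat.hom_ext (awayZToBase_natural h hU (hU.basicOpen r) (Y.basicOpen_le r)).symm
  exact key

include hC in
theorem coneImm_comp_p {i : 𝒮.toQCAlg.spec ⟶ PC} (hi : RelCone.IsConeImm 𝒮 h pC chartC i) :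
    i ≫ pC = 𝒮.toQCAlg.π := by
  refine (specCharts 𝒮.toQCAlg).hom_ext fun U hU ↦ ?_
  change 𝒮.toQCAlg.ι U hU ≫ i ≫ pC = 𝒮.toQCAlg.ι U hU ≫ 𝒮.toQCAlg.π
  rw [reassoc_of% (hi U hU), awayι_emb_p hC U hU _ (h.deg_z U hU) one_pos, ← Spec.map_comp_assoc,
    𝒮.toQCAlg.ι_π]
  congr 2
  refine CommRingCat.hom_ext (RingHom.ext fun a ↦ ?_)
  change h.awayZToBase U hU (HomogeneousLocalization.fromZeroRingHom (𝒮h.deg U hU) _
    ((𝒮h.strZero U hU).hom a)) = (𝒮.str.app (op U)).hom a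
  rw [h.awayZToBase_of_val U hU _ ((𝒮h.str.app (op U)).hom a) 0
    ((val_fromZero _ _).trans (congrArg (Localization.mk _) (Subtype.ext (pow_zero _).symm))),
    show (𝒮h.str.app (op U)).hom a = (ι.hom.app (op U)).hom ((𝒮.str.app (op U)).hom a) from
      (congr($(NatTrans.congr_app ι.comm (op U)).hom a)).symm, h.evalOne_ι U hU]

include hC in
lemma coneImm_of_charts {i : 𝒮.toQCAlg.spec ⟶ PC} (hi : RelCone.IsConeImm 𝒮 h pC chartC i)
    (Q : MorphismProperty Scheme.{u}) [IsZariskiLocalAtTarget Q]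
    (hQ : ∀ (U : Y.Opens) (hU : IsAffineOpen U), Q (coneImmAux h U hU)) : Q i :=
  (projCharts hC).of_charts (specCharts 𝒮.toQCAlg) i (coneImm_comp_p h hC hi) Q
    (fun U hU ↦ coneImmAux h U hU) ((isConeImm_iff h i).mp hi) hQ

include hC in
theorem isOpenImmersion_coneImm {i : 𝒮.toQCAlg.spec ⟶ PC}
    (hi : RelCone.IsConeImm 𝒮 h pC chartC i) : IsOpenImmersion i :=
  coneImm_of_charts h hC hi @IsOpenImmersion fun U hU ↦ inferInstance

set_option backward.isDefEq.respectTransparency.types false in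
include hC in
theorem isAffineHom_coneImm {i : 𝒮.toQCAlg.spec ⟶ PC}
    (hi : RelCone.IsConeImm 𝒮 h pC chartC i) : IsAffineHom i :=
  coneImm_of_charts h hC hi @IsAffineHom fun U hU ↦ inferInstance

include hC in
theorem range_coneImm {i : 𝒮.toQCAlg.spec ⟶ PC} (hi : RelCone.IsConeImm 𝒮 h pC chartC i) :
    Set.range i.base = (globalOpen pC chartC z : Set PC) := by
  have hiU := (isConeImm_iff h i).mp hi
  ext x
  constructor
  · rintro ⟨w, rfl⟩
    obtain ⟨U, hU, y, rfl⟩ : ∃ (U : Y.Opens) (hU : IsAffineOpen U) (y : Spec (𝒮.presheaf.obj (op U))),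
        (𝒮.toQCAlg.ι U hU).base y = w := (specCharts 𝒮.toQCAlg).exists_eq w
    refine Opens.mem_iSup.mpr ⟨⟨U, hU⟩, (coneImmAux h U hU).base y, ?_,
      (congr($(hiU U hU).base y)).symm⟩
    exact (opensRange_coneImmAux h U hU).le ⟨y, rfl⟩
  · intro hx
    obtain ⟨⟨U, hU⟩, q, hq, rfl⟩ := Opens.mem_iSup.mp hx
    obtain ⟨y, rfl⟩ : ∃ y, (coneImmAux h U hU).base y = q :=
      (opensRange_coneImmAux h U hU).ge hq
    exact ⟨(𝒮.toQCAlg.ι U hU).base y, congr($(hiU U hU).base y)⟩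

include hC in
theorem ker_coneImm {i : 𝒮.toQCAlg.spec ⟶ PC} (hi : RelCone.IsConeImm 𝒮 h pC chartC i) :
    i.ker = ⊥ := by
  have := isAffineHom_coneImm h hC hi
  have hiU := (isConeImm_iff h i).mp hi
  let J := Σ (U : Y.Opens) (hU : PLift (IsAffineOpen U)), Σ k : PNat, 𝒮h.deg U hU.down k
  have haff : ∀ j : J, IsAffineOpen (Proj.basicOpen (𝒮h.deg j.1 j.2.1.down)
      (j.2.2.2 : 𝒮h.presheaf.obj (op j.1))) := fun j ↦
    Proj.isAffineOpen_basicOpen _ _ j.2.2.2.2 j.2.2.1.pos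
  refine Scheme.IdealSheafData.ext_of_iSup_eq_top (fun j : J ↦
    ⟨RelProj.emb pC chartC j.1 j.2.1.down ''ᵁ Proj.basicOpen (𝒮h.deg j.1 j.2.1.down)
      (j.2.2.2 : 𝒮h.presheaf.obj (op j.1)), (haff j).image_of_isOpenImmersion _⟩) ?_ ?_
  · refine top_le_iff.mp fun x _ ↦ ?_
    obtain ⟨U, hU, y, rfl⟩ : ∃ (U : Y.Opens) (hU : IsAffineOpen U) (y : Proj (𝒮h.deg U hU)),
        (RelProj.emb pC chartC U hU).base y = x := (projCharts hC).exists_eq x
    obtain ⟨s, w, rfl⟩ : ∃ (s : Σ k : PNat, 𝒮h.deg U hU k) (w : _),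
        (Proj.awayι (𝒮h.deg U hU) (s.2 : 𝒮h.presheaf.obj (op U)) s.2.2 s.1.pos).base w = y :=
      (Proj.affineOpenCover (𝒮h.deg U hU)).openCover.exists_eq y
    exact Opens.mem_iSup.mpr ⟨(⟨U, ⟨hU⟩, s⟩ : J), _,
      (Proj.opensRange_awayι _ _ s.2.2 s.1.pos).le ⟨w, rfl⟩, rfl⟩
  · rintro ⟨U, ⟨hU⟩, k, f, hf⟩
    have hp : IsPullback (coneImmAux h U hU) (𝒮.toQCAlg.ι U hU) (RelProj.emb pC chartC U hU) i :=
      (projCharts hC).isPullback_e (specCharts 𝒮.toQCAlg) i (coneImm_comp_p h hC hi) U hU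
        (coneImmAux h U hU) (hiU U hU)
    exact (ker_ideal_eq_bot_of_isPullback i (coneImmAux h U hU) (𝒮.toQCAlg.ι U hU)
      (RelProj.emb pC chartC U hU) hp (ker_coneImmAux h U hU)
      ⟨Proj.basicOpen (𝒮h.deg U hU) f, haff ⟨U, ⟨hU⟩, k, f, hf⟩⟩).trans
        (congrFun Scheme.IdealSheafData.ideal_bot _).symm

end Groth.Ega2P2
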