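/-
The graded ring `A^♮` attached to a graded ring `A` (EGA II 8.2).
-/
import Groth.Agent.Ega2Proj.Generators
import Mathlib.Algebra.Algebra.Operations
import Mathlib.Algebra.Polynomial.AlgebraMap
import Mathlib.RingTheory.GradedAlgebra.Basic

set_option autoImplicit false

universe u

open DirectSum Polynomial

noncomputable section

namespace Groth.Ega2P2.Natural

variable {R A B : Type u} [CommRing R] [CommRing A] [Algebra R A]
  (𝒜 : ℕ → Submodule R A) [GradedAlgebra 𝒜]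

/-- Elements with all components in degree `≥ n`. -/
def F (n : ℕ) : Submodule R A := ⨆ (m : ℕ) (_ : n ≤ m), 𝒜 m

omit [GradedAlgebra 𝒜] in
lemma le_F {n m : ℕ} (h : n ≤ m) : 𝒜 m ≤ F 𝒜 n := le_iSup₂_of_le m h le_rfl

lemma decompose_eq_zero_of_mem_F {n : ℕ} {a : A} (ha : a ∈ F 𝒜 n) {j : ℕ} (hj : j < n) :
    (decompose 𝒜 a j : A) = 0 := by
  have hle : F 𝒜 n ≤ LinearMap.ker (GradedAlgebra.proj 𝒜 j) := iSup₂_le fun m hm x hx ↦ by
    rw [LinearMap.mem_ker, GradedAlgebra.proj_apply,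
      DirectSum.decompose_of_mem_ne 𝒜 hx (by omega)]
  simpa [GradedAlgebra.proj_apply] using hle ha

lemma mem_F_of_decompose {n : ℕ} {a : A} (ha : ∀ j < n, (decompose 𝒜 a j : A) = 0) :
    a ∈ F 𝒜 n := by
  classical
  rw [← DirectSum.sum_support_decompose 𝒜 a]
  refine sum_mem fun j _ ↦ ?_
  by_cases hj : n ≤ j
  · exact le_F 𝒜 hj (SetLike.coe_mem _)
  · rw [ha j (not_le.mp hj)]; exact zero_mem _

lemma decompose_mem_F {n : ℕ} {a : A} (ha : a ∈ F 𝒜 n) (j : ℕ) :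
    (decompose 𝒜 a j : A) ∈ F 𝒜 n := by
  by_cases hj : n ≤ j
  · exact le_F 𝒜 hj (SetLike.coe_mem _)
  · rw [decompose_eq_zero_of_mem_F 𝒜 ha (not_le.mp hj)]; exact zero_mem _

lemma F_zero : F 𝒜 0 = ⊤ :=
  top_le_iff.mp fun _ _ ↦ mem_F_of_decompose 𝒜 fun _ h ↦ (Nat.not_lt_zero _ h).elim

lemma F_mul_le (n m : ℕ) : F 𝒜 n * F 𝒜 m ≤ F 𝒜 (n + m) := by
  simp only [F, Submodule.iSup_mul, Submodule.mul_iSup]
  refine iSup₂_le fun j hj ↦ iSup₂_le fun i hi ↦ Submodule.mul_le.mpr fun x hx y hy ↦ ?_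
  exact le_F 𝒜 (Nat.add_le_add hi hj) (SetLike.mul_mem_graded hx hy)

/-- The monomial map. -/
abbrev mon (n : ℕ) : A →ₗ[R] Polynomial A :=
  (Polynomial.monomial n : A →ₗ[A] Polynomial A).restrictScalars R

omit [GradedAlgebra 𝒜] in
lemma map_mon_mul (P Q : Submodule R A) (i j : ℕ) :
    Submodule.map (mon (R := R) i) P * Submodule.map (mon (R := R) j) Q =
      Submodule.map (mon (R := R) (i + j)) (P * Q) := by
  refine le_antisymm (Submodule.mul_le.mpr ?_) (Submodule.map_le_iff_le_comap.mpr ?_)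
  · rintro _ ⟨x, hx, rfl⟩ _ ⟨y, hy, rfl⟩
    exact ⟨x * y, Submodule.mul_mem_mul hx hy, (monomial_mul_monomial i j x y).symm⟩
  · refine Submodule.mul_le.mpr fun x hx y hy ↦ ?_
    change monomial (i + j) (x * y) ∈ Submodule.map (mon (R := R) i) P * Submodule.map (mon (R := R) j) Q
    rw [← monomial_mul_monomial]
    exact Submodule.mul_mem_mul ⟨x, hx, rfl⟩ ⟨y, hy, rfl⟩

omit [GradedAlgebra 𝒜] in
lemma map_mon_pow (P : Submodule R A) (i n : ℕ) (hn : 1 ≤ n) :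
    Submodule.map (mon i) P ^ n = Submodule.map (mon (n * i)) (P ^ n) := by
  induction n, hn using Nat.le_induction with
  | base => simp [Submodule.pow_one]
  | succ k _ ih => rw [Submodule.pow_succ, Submodule.pow_succ, ih, map_mon_mul, Nat.succ_mul]

omit [GradedAlgebra 𝒜] in
lemma mon_injective (n : ℕ) : Function.Injective (mon (R := R) (A := A) n) :=
  Polynomial.monomial_injective n

variable [CommRing B] [Algebra R B] (ℬ : ℕ → Submodule R B)
  (φ : B →ₐ[R] Polynomial A) (hφ : Function.Injective φ)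
  (hdeg : ∀ n : ℕ, Submodule.map φ.toLinearMap (ℬ n) =
    Submodule.map (mon n) (F 𝒜 n))

include hdeg in
omit [GradedAlgebra 𝒜] in
lemma exists_lift {n : ℕ} {a : A} (ha : a ∈ F 𝒜 n) : ∃ b ∈ ℬ n, φ b = monomial n a := by
  have h : mon (R := R) n a ∈ Submodule.map φ.toLinearMap (ℬ n) := by rw [hdeg]; exact ⟨a, ha, rfl⟩
  obtain ⟨b, hb, hb'⟩ := h
  exact ⟨b, hb, hb'⟩

include hdeg in
omit [GradedAlgebra 𝒜] in
lemma exists_monomial {n : ℕ} {b : B} (hb : b ∈ ℬ n) : ∃ a ∈ F 𝒜 n, φ b = monomial n a := by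
  have h : φ b ∈ Submodule.map (mon n) (F 𝒜 n) := by rw [← hdeg]; exact ⟨b, hb, rfl⟩
  obtain ⟨a, ha, ha'⟩ := h
  exact ⟨a, ha, ha'.symm⟩

include hφ hdeg in
omit [GradedAlgebra 𝒜] in
lemma eq_iff_succ (n : ℕ) : ℬ (n + 1) = ℬ 1 * ℬ n ↔ F 𝒜 (n + 1) = F 𝒜 1 * F 𝒜 n := by
  rw [← (Submodule.map_injective_of_injective (f := φ.toLinearMap) hφ).eq_iff, Submodule.map_mul,
    hdeg, hdeg, hdeg, map_mon_mul, add_comm 1 n,
    (Submodule.map_injective_of_injective (mon_injective (n + 1))).eq_iff]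

include hφ hdeg in
omit [GradedAlgebra 𝒜] in
lemma eq_iff_pow (n : ℕ) (hn : 1 ≤ n) : ℬ n = ℬ 1 ^ n ↔ F 𝒜 n = F 𝒜 1 ^ n := by
  rw [← (Submodule.map_injective_of_injective (f := φ.toLinearMap) hφ).eq_iff, Submodule.map_pow,
    hdeg, hdeg, map_mon_pow _ _ _ hn, mul_one,
    (Submodule.map_injective_of_injective (mon_injective n)).eq_iff]

/-- The degree `n + 1` component of a product of filtration steps. -/
lemma decompose_mem_mul {i j : ℕ} {x : A} (hx : x ∈ F 𝒜 i * F 𝒜 j) :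
    (decompose 𝒜 x (i + j) : A) ∈ 𝒜 i * 𝒜 j := by
  have hle : F 𝒜 i * F 𝒜 j ≤ Submodule.comap (GradedAlgebra.proj 𝒜 (i + j)) (𝒜 i * 𝒜 j) := by
    simp only [F, Submodule.iSup_mul, Submodule.mul_iSup]
    refine iSup₂_le fun l hl ↦ iSup₂_le fun k hk ↦ Submodule.mul_le.mpr fun a ha b hb ↦ ?_
    rw [Submodule.mem_comap, GradedAlgebra.proj_apply]
    by_cases h : k + l = i + j
    · obtain ⟨rfl, rfl⟩ : k = i ∧ l = j := by omega
      rw [DirectSum.decompose_of_mem_same 𝒜 (SetLike.mul_mem_graded ha hb)]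
      exact Submodule.mul_mem_mul ha hb
    · rw [DirectSum.decompose_of_mem_ne 𝒜 (SetLike.mul_mem_graded ha hb) h]
      exact zero_mem _
  simpa [GradedAlgebra.proj_apply] using hle hx

/-- The degree `n` component of an `n`-th power of a filtration step. -/
lemma decompose_mem_pow {n : ℕ} (hn : 1 ≤ n) {x : A} (hx : x ∈ F 𝒜 1 ^ n) :
    (decompose 𝒜 x n : A) ∈ 𝒜 1 ^ n := by
  induction n, hn using Nat.le_induction generalizing x with
  | base =>
    rw [Submodule.pow_one] at hx ⊢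
    exact SetLike.coe_mem _
  | succ k hk ih =>
    rw [Submodule.pow_succ] at hx ⊢
    have hkF : F 𝒜 1 ^ k ≤ F 𝒜 k := by
      clear ih hx x
      induction k, hk using Nat.le_induction with
      | base => rw [Submodule.pow_one]
      | succ l _ ihl =>
        rw [Submodule.pow_succ]
        exact (mul_le_mul' ihl le_rfl).trans (F_mul_le 𝒜 l 1)
    have hle : F 𝒜 1 ^ k * F 𝒜 1 ≤
        Submodule.comap (GradedAlgebra.proj 𝒜 (k + 1)) (𝒜 1 ^ k * 𝒜 1) := by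
      refine Submodule.mul_le.mpr fun a ha b hb ↦ ?_
      rw [Submodule.mem_comap, GradedAlgebra.proj_apply]
      have h2 : a * b - (decompose 𝒜 a k : A) * (decompose 𝒜 b 1 : A) ∈ F 𝒜 (k + 1 + 1) := by
        have e : a * b - (decompose 𝒜 a k : A) * (decompose 𝒜 b 1 : A) =
            (a - decompose 𝒜 a k) * b + (decompose 𝒜 a k : A) * (b - decompose 𝒜 b 1) := by ring
        rw [e]
        have ha' : a - decompose 𝒜 a k ∈ F 𝒜 (k + 1) := mem_F_of_decompose 𝒜 fun j hj ↦ by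
          rcases eq_or_lt_of_le (Nat.lt_succ_iff.mp hj) with rfl | hlt
          · simp
          · rw [DirectSum.decompose_sub, DirectSum.sub_apply, AddSubgroupClass.coe_sub,
              decompose_eq_zero_of_mem_F 𝒜 (hkF ha) hlt,
              DirectSum.decompose_of_mem_ne 𝒜 (SetLike.coe_mem _) hlt.ne', sub_zero]
        have hb' : b - decompose 𝒜 b 1 ∈ F 𝒜 2 := mem_F_of_decompose 𝒜 fun j hj ↦ by
          rcases eq_or_lt_of_le (Nat.lt_succ_iff.mp hj) with rfl | hlt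
          · simp
          · rw [DirectSum.decompose_sub, DirectSum.sub_apply, AddSubgroupClass.coe_sub,
              decompose_eq_zero_of_mem_F 𝒜 hb hlt,
              DirectSum.decompose_of_mem_ne 𝒜 (SetLike.coe_mem _) hlt.ne', sub_zero]
        exact add_mem (F_mul_le 𝒜 (k + 1) 1 (Submodule.mul_mem_mul ha' hb))
          (F_mul_le 𝒜 k 2 (Submodule.mul_mem_mul (le_F 𝒜 le_rfl (SetLike.coe_mem _)) hb'))
      have h3 := decompose_eq_zero_of_mem_F 𝒜 h2 (Nat.lt_succ_self _)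
      rw [DirectSum.decompose_sub, DirectSum.sub_apply, AddSubgroupClass.coe_sub, sub_eq_zero,
        DirectSum.decompose_of_mem_same 𝒜 (SetLike.mul_mem_graded (SetLike.coe_mem _) (SetLike.coe_mem _))] at h3
      rw [h3]
      exact Submodule.mul_mem_mul (ih ha) (SetLike.coe_mem _)
    simpa [GradedAlgebra.proj_apply] using hle hx

include hφ hdeg in
theorem succ_eq_iff (n₀ : ℕ) :
    (∀ n : ℕ, n₀ ≤ n → ℬ (n + 1) = ℬ 1 * ℬ n) ↔
      (∀ n : ℕ, n₀ ≤ n → 𝒜 (n + 1) = 𝒜 1 * 𝒜 n) := by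
  simp only [eq_iff_succ 𝒜 ℬ φ hφ hdeg]
  constructor <;> intro h n hn
  · refine le_antisymm (fun x hx ↦ ?_) (Submodule.mul_le.mpr fun a ha b hb ↦
      add_comm 1 n ▸ SetLike.mul_mem_graded ha hb)
    have h1 : x ∈ F 𝒜 1 * F 𝒜 n := h n hn ▸ le_F 𝒜 le_rfl hx
    have h2 := decompose_mem_mul 𝒜 h1
    rwa [add_comm 1 n, DirectSum.decompose_of_mem_same 𝒜 hx] at h2
  · refine le_antisymm (iSup₂_le fun m hm ↦ ?_) ((F_mul_le 𝒜 1 n).trans_eq (by rw [add_comm]))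
    obtain ⟨k, rfl⟩ : ∃ k, m = k + 1 := ⟨m - 1, by omega⟩
    rw [h k (by omega)]
    exact mul_le_mul' (le_F 𝒜 le_rfl) (le_F 𝒜 (by omega))

include hφ hdeg in
theorem pow_eq_iff (n₀ : ℕ) (hn₀ : 1 ≤ n₀) :
    (∀ n : ℕ, n₀ ≤ n → ℬ n = ℬ 1 ^ n) ↔ (∀ n : ℕ, n₀ ≤ n → 𝒜 n = 𝒜 1 ^ n) := by
  have hpow : ∀ n, 1 ≤ n → 𝒜 1 ^ n ≤ 𝒜 n := by
    intro n hn
    induction n, hn using Nat.le_induction with
    | base => rw [Submodule.pow_one]
    | succ k _ ih =>
      rw [Submodule.pow_succ]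
      exact Submodule.mul_le.mpr fun a ha b hb ↦ SetLike.mul_mem_graded (ih ha) hb
  constructor <;> intro h n hn
  · refine le_antisymm (fun x hx ↦ ?_) (hpow n (by omega))
    have h1 : x ∈ F 𝒜 1 ^ n :=
      (eq_iff_pow 𝒜 ℬ φ hφ hdeg n (by omega)).mp (h n hn) ▸ le_F 𝒜 le_rfl hx
    have h2 := decompose_mem_pow 𝒜 (show 1 ≤ n by omega) h1
    rwa [DirectSum.decompose_of_mem_same 𝒜 hx] at h2
  · refine (eq_iff_pow 𝒜 ℬ φ hφ hdeg n (by omega)).mpr (le_antisymm (iSup₂_le fun m hm ↦ ?_) ?_)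
    · obtain ⟨k, rfl⟩ : ∃ k, n = k + 1 := ⟨n - 1, by omega⟩
      obtain ⟨l, rfl⟩ : ∃ l, m = k + (l + 1) := ⟨m - k - 1, by omega⟩
      rw [h _ (by omega), pow_add, pow_succ (F 𝒜 1) k]
      exact mul_le_mul' (pow_le_pow_left' (le_F 𝒜 le_rfl) k)
        ((hpow (l + 1) (by omega)).trans (le_F 𝒜 (by omega)))
    · clear hn h
      induction n with
      | zero => rw [F_zero]; exact le_top
      | succ k ih => rw [pow_succ]; exact (mul_le_mul' ih le_rfl).trans (F_mul_le 𝒜 k 1)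

end Groth.Ega2P2.Natural
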