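/-
Radical, finiteness and noetherianity of `A^♮` (EGA II 8.2).
-/
import Groth.Agent.Ega2Proj2.Natural
import Mathlib.RingTheory.FiniteType
import Mathlib.RingTheory.Noetherian.Basic

set_option autoImplicit false

universe u

open DirectSum Polynomial

noncomputable section

namespace Groth.Ega2P2.Natural

variable {R A B : Type u} [CommRing R] [CommRing A] [Algebra R A]
  (𝒜 : ℕ → Submodule R A) [GradedAlgebra 𝒜] [CommRing B] [Algebra R B] (ℬ : ℕ → Submodule R B)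
  [GradedAlgebra ℬ] (φ : B →ₐ[R] Polynomial A) (hφ : Function.Injective φ)
  (hdeg : ∀ n : ℕ, Submodule.map φ.toLinearMap (ℬ n) =
    Submodule.map (mon n) (F 𝒜 n))

/-- `φ` followed by evaluation at `1`. -/
def ev : B →+* A := (Polynomial.evalRingHom 1).comp φ.toRingHom

omit [GradedAlgebra 𝒜] [GradedAlgebra ℬ] in
lemma ev_eq {n : ℕ} {a : A} {b : B} (h : φ b = monomial n a) : ev φ b = a := by
  change (φ b).eval 1 = a
  rw [h, eval_monomial, one_pow, mul_one]

include hdeg in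
omit [GradedAlgebra ℬ] in
lemma ev_surjective : Function.Surjective (ev φ) := fun a ↦ by
  obtain ⟨b, -, hb⟩ := exists_lift 𝒜 ℬ φ hdeg (n := 0) (a := a) (by rw [F_zero]; trivial)
  exact ⟨b, ev_eq φ hb⟩

include hφ hdeg in
/-- To lie in an ideal it suffices to do so for the homogeneous parts. -/
lemma mem_of_homogeneous (I : Ideal B) {n : ℕ}
    (h : ∀ m, n ≤ m → ∀ a ∈ 𝒜 m, ∃ b ∈ I, φ b = monomial n a) {b : B} (hb : b ∈ ℬ n) : b ∈ I := by
  obtain ⟨a, ha, hba⟩ := exists_monomial 𝒜 ℬ φ hdeg hb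
  have hle : F 𝒜 n ≤ Submodule.comap (mon (R := R) n)
      (Submodule.map φ.toLinearMap (I.restrictScalars R)) := iSup₂_le fun m hm x hx ↦ by
    obtain ⟨c, hc, hcx⟩ := h m hm x hx
    exact ⟨c, hc, hcx⟩
  obtain ⟨c, hc, hca⟩ := hle ha
  obtain rfl : c = b := hφ (hca.trans hba.symm)
  exact hc

include hφ hdeg in
theorem radical_span {ι : Type u} (d : ι → ℕ) (f : ι → A)
    (hf : ∀ a, f a ∈ 𝒜 (d a))
    (hrad : ∀ g ∈ (HomogeneousIdeal.irrelevant 𝒜).toIdeal, ∃ n : ℕ, 0 < n ∧ g ^ n ∈ Ideal.span (Set.range f))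
    (fn : ι → B) (hfn : ∀ a, φ (fn a) = monomial (d a) (f a)) :
    ∀ g ∈ (HomogeneousIdeal.irrelevant ℬ).toIdeal,
      ∃ n : ℕ, 0 < n ∧ g ^ n ∈ Ideal.span (Set.range fn) := by
  classical
  set I := Ideal.span (Set.range fn) with hI
  suffices hle : (HomogeneousIdeal.irrelevant ℬ).toIdeal ≤ I.radical by
    intro g hg
    obtain ⟨n, hn⟩ := hle hg
    exact ⟨n + 1, n.succ_pos, by rw [pow_succ]; exact I.mul_mem_right _ hn⟩
  refine (HomogeneousIdeal.toIdeal_irrelevant_le _).mpr fun n hn b hb ↦ ?_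
  refine mem_of_homogeneous 𝒜 ℬ φ hφ hdeg I.radical (fun m hm a ha ↦ ?_) hb
  obtain ⟨b', hb', hba⟩ := exists_lift 𝒜 ℬ φ hdeg (le_F 𝒜 hm ha)
  refine ⟨b', ?_, hba⟩
  obtain ⟨k, hk, hak⟩ := hrad a (HomogeneousIdeal.mem_irrelevant_of_mem 𝒜 (lt_of_lt_of_le hn hm) ha)
  obtain ⟨c, hc⟩ := Finsupp.mem_span_range_iff_exists_finsupp.mp hak
  set D := c.support.sup d
  have hke : k ≤ k * (D + 1) := Nat.le_mul_of_pos_right _ D.succ_pos
  set e := k * (D + 1) with he
  have hde : ∀ i ∈ c.support, d i ≤ n * e := fun i hi ↦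
    calc d i ≤ D := Finset.le_sup hi
      _ ≤ D + 1 := Nat.le_succ _
      _ ≤ e := Nat.le_mul_of_pos_left _ hk
      _ ≤ n * e := Nat.le_mul_of_pos_left _ hn
  have hexp : a ^ e = ∑ i ∈ c.support,
      (decompose 𝒜 (a ^ (e - k) * c i) (m * e - d i) : A) * f i := by
    have hae : a ^ e ∈ 𝒜 (m * e) := by
      simpa [mul_comm] using SetLike.pow_mem_graded e ha
    calc a ^ e = (decompose 𝒜 (a ^ e) (m * e) : A) := (decompose_of_mem_same 𝒜 hae).symm
      _ = (decompose 𝒜 (∑ i ∈ c.support, (a ^ (e - k) * c i) * f i) (m * e) : A) := by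
        have : a ^ e = ∑ i ∈ c.support, (a ^ (e - k) * c i) * f i := by
          rw [← Nat.sub_add_cancel hke, pow_add, ← hc, Finsupp.sum, Finset.mul_sum,
            Nat.add_sub_cancel]
          exact Finset.sum_congr rfl fun i _ ↦ by rw [smul_eq_mul, mul_assoc]
        rw [this]
      _ = _ := by
        rw [← GradedAlgebra.proj_apply, map_sum]
        refine Finset.sum_congr rfl fun i hi ↦ ?_
        rw [GradedAlgebra.proj_apply, DirectSum.coe_decompose_mul_of_right_mem 𝒜 (m * e) (hf i),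
          if_pos ((hde i hi).trans (Nat.mul_le_mul_right e hm))]
  have hmem : ∀ i ∈ c.support, ∃ q : B, φ q =
      monomial (n * e - d i) (decompose 𝒜 (a ^ (e - k) * c i) (m * e - d i) : A) := fun i hi ↦ by
    have := Nat.mul_le_mul_right e hm
    have := hde i hi
    obtain ⟨q, -, hq⟩ := exists_lift 𝒜 ℬ φ hdeg (n := n * e - d i)
      (le_F 𝒜 (by omega) (SetLike.coe_mem (decompose 𝒜 (a ^ (e - k) * c i) (m * e - d i))))
    exact ⟨q, hq⟩
  choose! q hq using hmem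
  refine ⟨e, ?_⟩
  have key : b' ^ e = ∑ i ∈ c.support, q i * fn i := by
    apply hφ
    rw [map_pow, hba, monomial_pow, map_sum, hexp, map_sum]
    refine Finset.sum_congr rfl fun i hi ↦ ?_
    rw [map_mul φ, hq i hi, hfn, monomial_mul_monomial, Nat.sub_add_cancel (hde i hi)]
  rw [key]
  exact sum_mem fun i _ ↦ I.mul_mem_left _ (Ideal.subset_span ⟨i, rfl⟩)

include hφ hdeg in
theorem irrelevant_fg_iff :
    (HomogeneousIdeal.irrelevant ℬ).toIdeal.FG ↔ (HomogeneousIdeal.irrelevant 𝒜).toIdeal.FG := by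
  classical
  constructor
  · intro h
    have he : (HomogeneousIdeal.irrelevant ℬ).toIdeal.map (ev φ) =
        (HomogeneousIdeal.irrelevant 𝒜).toIdeal := by
      refine le_antisymm (Ideal.map_le_iff_le_comap.mpr
        ((HomogeneousIdeal.toIdeal_irrelevant_le _).mpr fun n hn b hb ↦ ?_))
        ((HomogeneousIdeal.toIdeal_irrelevant_le _).mpr fun m hm a ha ↦ ?_)
      · obtain ⟨a, ha, hba⟩ := exists_monomial 𝒜 ℬ φ hdeg hb
        change ev φ b ∈ (HomogeneousIdeal.irrelevant 𝒜).toIdeal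
        rw [ev_eq φ hba]
        have hle : F 𝒜 n ≤ (HomogeneousIdeal.irrelevant 𝒜).toIdeal.restrictScalars R :=
          iSup₂_le fun m hm x hx ↦ HomogeneousIdeal.mem_irrelevant_of_mem 𝒜 (lt_of_lt_of_le hn hm) hx
        exact hle ha
      · obtain ⟨b, hb, hba⟩ := exists_lift 𝒜 ℬ φ hdeg (le_F 𝒜 le_rfl ha)
        exact ev_eq φ hba ▸ Ideal.mem_map_of_mem _ (HomogeneousIdeal.mem_irrelevant_of_mem ℬ hm hb)
    exact he ▸ h.map _
  · intro h
    obtain ⟨E, hE, hspan⟩ := Groth.Ega2Proj.exists_homogeneous_generators_of_fg 𝒜 h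
    choose! deg hpos hdeg' using hE
    have hlift : ∀ e ∈ E, ∀ j, j ≤ deg e → ∃ b ∈ ℬ j, φ b = monomial j e := fun e he j hj ↦
      exists_lift 𝒜 ℬ φ hdeg (le_F 𝒜 hj (hdeg' e he))
    choose! L hL hLe using hlift
    let G : Finset B := E.biUnion fun e ↦ (Finset.Icc 1 (deg e)).image fun j ↦ L e j
    refine ⟨G, le_antisymm (Ideal.span_le.mpr fun b hb ↦ ?_)
      ((HomogeneousIdeal.toIdeal_irrelevant_le _).mpr fun n hn b hb ↦ ?_)⟩
    · obtain ⟨e, he, hb⟩ := Finset.mem_biUnion.mp hb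
      obtain ⟨j, hj, rfl⟩ := Finset.mem_image.mp hb
      obtain ⟨hj1, hj2⟩ := Finset.mem_Icc.mp hj
      exact HomogeneousIdeal.mem_irrelevant_of_mem ℬ hj1 (hL e he j hj2)
    · refine mem_of_homogeneous 𝒜 ℬ φ hφ hdeg (Ideal.span (G : Set B)) (fun m hm a ha ↦ ?_) hb
      let T : AddSubmonoid A := (Submodule.comap (mon (R := R) n) (Submodule.map φ.toLinearMap
        ((Ideal.span (G : Set B)).restrictScalars R))).toAddSubmonoid
      have haT : (decompose 𝒜 a m : A) ∈ T := by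
        refine Groth.Ega2Proj.decompose_mem_of_mem_span 𝒜 hdeg' T (fun e he hle c hc ↦ ?_)
          (hspan ▸ HomogeneousIdeal.mem_irrelevant_of_mem 𝒜 (lt_of_lt_of_le hn hm) ha)
        have := hpos e he
        obtain ⟨q, -, hq⟩ := exists_lift 𝒜 ℬ φ hdeg (n := n - min n (deg e))
          (le_F 𝒜 (by omega) hc)
        refine ⟨q * L e (min n (deg e)), Ideal.mul_mem_left _ _ (Ideal.subset_span ?_), ?_⟩
        · exact Finset.mem_coe.mpr (Finset.mem_biUnion.mpr ⟨e, he, Finset.mem_image.mpr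
            ⟨_, Finset.mem_Icc.mpr ⟨le_min hn this, min_le_right _ _⟩, rfl⟩⟩)
        · change φ (q * L e (min n (deg e))) = monomial n (c * e)
          rw [map_mul, hq, hLe e he _ (min_le_right _ _), monomial_mul_monomial,
            Nat.sub_add_cancel (min_le_left _ _)]
      rwa [decompose_of_mem_same 𝒜 ha] at haT

include hφ hdeg in
theorem finiteType_iff : Algebra.FiniteType (ℬ 0) B ↔ Algebra.FiniteType (𝒜 0) A := by
  rw [← Groth.Ega2Proj.irrelevant_fg_iff_finiteType ℬ,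
    ← Groth.Ega2Proj.irrelevant_fg_iff_finiteType 𝒜, irrelevant_fg_iff 𝒜 ℬ φ hφ hdeg]

include hφ hdeg in
theorem isNoetherianRing_iff : IsNoetherianRing B ↔ IsNoetherianRing A := by
  refine ⟨fun h ↦ isNoetherianRing_of_surjective B A (ev φ) (ev_surjective 𝒜 ℬ φ hdeg), fun h ↦ ?_⟩
  haveI : Algebra.FiniteType (ℬ 0) B := (finiteType_iff 𝒜 ℬ φ hφ hdeg).mpr
    ((Groth.Ega2Proj.irrelevant_fg_iff_finiteType 𝒜).mp (IsNoetherian.noetherian _))
  let e : ℬ 0 →+* A :=
    { toFun := fun b ↦ ev φ b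
      map_one' := map_one (ev φ)
      map_mul' := fun x y ↦ map_mul (ev φ) x.1 y.1
      map_zero' := map_zero (ev φ)
      map_add' := fun x y ↦ map_add (ev φ) x.1 y.1 }
  have hbij : Function.Bijective e := by
    refine ⟨fun x y hxy ↦ Subtype.ext (hφ ?_), fun a ↦ ?_⟩
    · obtain ⟨a, -, ha⟩ := exists_monomial 𝒜 ℬ φ hdeg x.2
      obtain ⟨a', -, ha'⟩ := exists_monomial 𝒜 ℬ φ hdeg y.2
      change ev φ x = ev φ y at hxy
      rw [ev_eq φ ha, ev_eq φ ha'] at hxy
      rw [ha, ha', hxy]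
    · obtain ⟨b, hb, hba⟩ := exists_lift 𝒜 ℬ φ hdeg (n := 0) (a := a) (by rw [F_zero]; trivial)
      exact ⟨⟨b, hb⟩, ev_eq φ hba⟩
  haveI : IsNoetherianRing (ℬ 0) :=
    isNoetherianRing_of_surjective A (ℬ 0) (RingEquiv.ofBijective e hbij).symm.toRingHom
      (RingEquiv.ofBijective e hbij).symm.surjective
  exact Algebra.FiniteType.isNoetherianRing (ℬ 0) B

end Groth.Ega2P2.Natural
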