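/-
Finiteness of Proj over a base ring; reducedness.
-/
import Groth.Agent.Ega2Proj2.GenDeg
import Groth.Agent.Ega2Proj2.ProjLoc
import Mathlib.AlgebraicGeometry.ProjectiveSpectrum.Proper
import Mathlib.AlgebraicGeometry.Properties
import Mathlib.AlgebraicGeometry.Morphisms.FiniteType
import Mathlib.AlgebraicGeometry.Morphisms.QuasiSeparated

set_option autoImplicit false

universe u

open CategoryTheory CategoryTheory.Limits AlgebraicGeometry Opposite TopologicalSpace
open scoped HomogeneousIdeal

noncomputable section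

namespace Groth.Ega2P2

variable {R : CommRingCat.{u}} {A σ : Type u} [CommRing A] [SetLike σ A] [AddSubgroupClass σ A]
  {𝒜 : ℕ → σ} [GradedRing 𝒜] (φ : R ⟶ CommRingCat.of (𝒜 0))

/-- `Proj` over `R` is locally of finite type and quasi-compact when the degree one part generates
over degree zero and is finitely generated over `R`. -/
theorem proj_finiteType_of_genDegOne
    (hgen : Subring.closure ((𝒜 0 : Set A) ∪ (𝒜 1 : Set A)) = ⊤)
    (T : Finset A) (hT : (↑T : Set A) ⊆ (𝒜 1 : Set A))
    (hspan : ∀ x ∈ 𝒜 1, ∃ c : A → R, x = ∑ t ∈ T, ((φ.hom (c t) : 𝒜 0) : A) * t) :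
    LocallyOfFiniteType (Proj.toSpecZero 𝒜 ≫ Spec.map φ) ∧
      QuasiCompact (Proj.toSpecZero 𝒜 ≫ Spec.map φ) := by
  classical
  let G : Set A := Set.range fun r : R ↦ ((φ.hom r : 𝒜 0) : A)
  have h1 : (𝒜 1 : Set A) ⊆ Subring.closure (G ∪ T) := by
    intro x hx
    obtain ⟨c, hc⟩ := hspan x hx
    rw [hc]
    exact Subring.sum_mem _ fun t ht ↦ Subring.mul_mem _
      (Subring.subset_closure (Or.inl ⟨c t, rfl⟩)) (Subring.subset_closure (Or.inr ht))
  have hG : G ⊆ (𝒜 0 : Set A) := by rintro _ ⟨r, rfl⟩; exact (φ.hom r).2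
  have hmem : ∀ (k : ℕ), 0 < k → ∀ x ∈ 𝒜 k, x ∈ Subring.closure (G ∪ (↑T : Set A)) :=
    fun k hk x hx ↦ mem_of_genDegOne hgen _ h1 hk hx
  have hirr : (HomogeneousIdeal.irrelevant 𝒜).toIdeal ≤
      Ideal.span (Set.range fun t : T ↦ (t : A)) := by
    rw [show (Set.range fun t : T ↦ (t : A)) = (↑T : Set A) from Subtype.range_coe]
    exact (HomogeneousIdeal.toIdeal_irrelevant_le _).mpr fun i hi x hx ↦
      mem_span_of_mem_closure hG hT (hmem i hi x hx) hi hx
  let 𝒰 := Proj.affineOpenCoverOfIrrelevantLESpan 𝒜 (fun t : T ↦ (t : A)) (m := fun _ ↦ 1)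
    (fun t ↦ hT t.2) (fun _ ↦ one_pos) hirr
  haveI : IsZariskiLocalAtSource @LocallyOfFiniteType.{u} :=
    HasRingHomProperty.instIsZariskiLocalAtSource (Q := RingHom.FiniteType)
  refine ⟨IsZariskiLocalAtSource.of_openCover (P := @LocallyOfFiniteType.{u}) 𝒰.openCover
    fun (t : T) ↦ ?_, ?_⟩
  · change LocallyOfFiniteType
      (Proj.awayι 𝒜 (t : A) (hT t.2) one_pos ≫ Proj.toSpecZero 𝒜 ≫ Spec.map φ)
    rw [Proj.awayι_toSpecZero_assoc, ← Spec.map_comp,
      HasRingHomProperty.Spec_iff (P := @LocallyOfFiniteType)]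
    let F := MvPolynomial.eval₂Hom
      ((HomogeneousLocalization.fromZeroRingHom 𝒜 (Submonoid.powers (t : A))).comp φ.hom)
      (fun s : T ↦ HomogeneousLocalization.Away.mk 𝒜 (hT t.2) 1 (s : A) (by
        rw [one_smul]; exact hT s.2))
    have hF : Function.Surjective F := by
      intro z
      obtain ⟨n, a, ha, rfl⟩ := HomogeneousLocalization.Away.mk_surjective 𝒜 (hT t.2) z
      -- the set of homogeneous fractions in the image
      let Q : ℕ → A → Prop := fun k y ↦
        ∀ hy : y ∈ 𝒜 (k • 1), HomogeneousLocalization.Away.mk 𝒜 (hT t.2) k y hy ∈ F.range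
      by_cases hn : n = 0
      · subst hn
        have ha0 : a ∈ 𝒜 0 := by simpa using ha
        have hat : a * (t : A) ∈ 𝒜 1 := by
          simpa using SetLike.mul_mem_graded (A := 𝒜) ha0 (hT t.2)
        obtain ⟨c, hc⟩ := hspan _ hat
        refine ⟨∑ s : T, MvPolynomial.C (c s) * MvPolynomial.X s, ?_⟩
        rw [map_sum]
        apply HomogeneousLocalization.val_injective
        have hval : ∀ s : T, (F (MvPolynomial.C (c s) * MvPolynomial.X s)).val =
            Localization.mk (((φ.hom (c s) : 𝒜 0) : A) * s)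
              ⟨(t : A), Submonoid.mem_powers _⟩ := by
          intro s
          simp [F, Localization.mk_mul]
        rw [← HomogeneousLocalization.algebraMap_apply, map_sum]
        simp only [HomogeneousLocalization.algebraMap_apply, hval,
          HomogeneousLocalization.Away.val_mk]
        rw [← Localization.mk_sum, Finset.sum_coe_sort T
          (fun s ↦ ((φ.hom (c s) : 𝒜 0) : A) * s), ← hc, Localization.mk_eq_mk_iff,
          Localization.r_iff_exists]
        exact ⟨1, by simp [mul_comm]⟩
      have h := homogeneous_mem_of_closure (𝒜 := 𝒜) Q ?_ ?_ ?_ ?_ ?_ (G ∪ (↑T : Set A)) ?_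
        (hmem n (Nat.pos_of_ne_zero hn) a (by simpa using ha)) (k := n) (by simpa using ha)
      · exact h ha
      · intro k hy
        refine ⟨0, ?_⟩
        rw [map_zero]
        apply HomogeneousLocalization.val_injective
        simp [Localization.mk_zero]
      · intro k y hyk y' hy'k hy hy' hyy
        obtain ⟨u, hu⟩ := hy (by simpa using hyk)
        obtain ⟨v, hv⟩ := hy' (by simpa using hy'k)
        refine ⟨u + v, ?_⟩
        rw [map_add, hu, hv]
        apply HomogeneousLocalization.val_injective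
        simp [Localization.add_mk]
        rw [Localization.mk_eq_mk_iff, Localization.r_iff_exists]
        exact ⟨1, by simp; ring⟩
      · intro k y hyk hy hyy
        obtain ⟨u, hu⟩ := hy (by simpa using hyk)
        refine ⟨-u, ?_⟩
        rw [map_neg, hu]
        apply HomogeneousLocalization.val_injective
        simp [Localization.neg_mk]
      · intro h1'
        refine ⟨1, ?_⟩
        rw [map_one]
        apply HomogeneousLocalization.val_injective
        simp
      · intro i j y hyi y' hyj hy hy' hyy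
        obtain ⟨u, hu⟩ := hy (by simpa using hyi)
        obtain ⟨v, hv⟩ := hy' (by simpa using hyj)
        refine ⟨u * v, ?_⟩
        rw [map_mul, hu, hv]
        apply HomogeneousLocalization.val_injective
        simp [Localization.mk_mul, pow_add]
      · rintro y (⟨r, rfl⟩ | hy)
        · refine ⟨0, (φ.hom r).2, fun hy' ↦ ⟨MvPolynomial.C r, ?_⟩⟩
          apply HomogeneousLocalization.val_injective
          simp [F]
          rfl
        · refine ⟨1, hT hy, fun hy' ↦ ⟨MvPolynomial.X ⟨y, hy⟩, ?_⟩⟩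
          simp [F]
    have : φ ≫ CommRingCat.ofHom (HomogeneousLocalization.fromZeroRingHom 𝒜
          (Submonoid.powers (t : A))) = CommRingCat.ofHom (F.comp MvPolynomial.C) := by
      ext r; simp [F]
    rw [this]
    exact (RingHom.FiniteType.of_surjective F hF).comp
      (RingHom.finiteType_algebraMap.mpr (inferInstance : Algebra.FiniteType R (MvPolynomial T R)))
  · haveI : CompactSpace (Proj 𝒜) := by
      haveI : Finite 𝒰.openCover.I₀ := (inferInstance : Finite T)
      haveI : ∀ i, CompactSpace (𝒰.openCover.X i) :=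
        fun i ↦ (inferInstance : CompactSpace (Spec (𝒰.X i)))
      exact 𝒰.openCover.compactSpace
    exact quasiCompact_of_compactSpace _

omit φ in
lemma isReduced_away {d : ℕ} {f : A} (hd : 0 < d) (hf : f ∈ 𝒜 d)
    (hred : ∀ x ∈ 𝒜₊, IsNilpotent x → x = 0) :
    _root_.IsReduced (HomogeneousLocalization.Away 𝒜 f) := by
  refine ⟨fun z hz ↦ ?_⟩
  obtain ⟨k, hk⟩ := hz
  obtain ⟨n, a, ha, rfl⟩ := HomogeneousLocalization.Away.mk_surjective 𝒜 hf z
  replace hk := congr_arg HomogeneousLocalization.val hk
  simp only [HomogeneousLocalization.val_pow, HomogeneousLocalization.Away.val_mk,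
    HomogeneousLocalization.val_zero, Localization.mk_pow] at hk
  rw [Localization.mk_eq_mk', IsLocalization.mk'_eq_zero_iff] at hk
  obtain ⟨⟨_, l, rfl⟩, hl⟩ := hk
  change f ^ l * a ^ k = 0 at hl
  have hnil : IsNilpotent (f ^ (l + 1) * a) := by
    refine ⟨k + 1, ?_⟩
    rw [mul_pow, ← pow_mul, pow_succ a k,
      show (l + 1) * (k + 1) = l + ((l + 1) * (k + 1) - l) from by
        have : l ≤ (l + 1) * (k + 1) := le_trans (Nat.le_succ l) (Nat.le_mul_of_pos_right _ (Nat.succ_pos k))
        omega, pow_add]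
    calc f ^ l * f ^ ((l + 1) * (k + 1) - l) * (a ^ k * a)
        = f ^ ((l + 1) * (k + 1) - l) * a * (f ^ l * a ^ k) := by ring
      _ = 0 := by rw [hl, mul_zero]
  have h0 : f ^ (l + 1) * a = 0 :=
    hred _ (HomogeneousIdeal.mem_irrelevant_of_mem _ (i := (l + 1 + n) • d)
      (Nat.mul_pos (by omega) hd)
      (by rw [add_smul]; exact SetLike.mul_mem_graded (SetLike.pow_mem_graded _ hf) ha)) hnil
  apply HomogeneousLocalization.val_injective
  simp only [HomogeneousLocalization.Away.val_mk, HomogeneousLocalization.val_zero]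
  rw [Localization.mk_eq_mk', IsLocalization.mk'_eq_zero_iff]
  exact ⟨⟨f ^ (l + 1), l + 1, rfl⟩, h0⟩

omit φ in
/-- `Proj` of an essentially reduced graded ring is reduced. -/
theorem isReduced_proj (hred : ∀ x ∈ 𝒜₊, IsNilpotent x → x = 0) :
    AlgebraicGeometry.IsReduced (Proj 𝒜) := by
  haveI : ∀ s : (Proj.affineOpenCover 𝒜).openCover.I₀,
      AlgebraicGeometry.IsReduced ((Proj.affineOpenCover 𝒜).openCover.X s) := fun (s : Σ i : PNat, 𝒜 i) ↦
    haveI := isReduced_away s.1.pos s.2.2 hred
    (inferInstance : AlgebraicGeometry.IsReduced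
      (Spec (CommRingCat.of (HomogeneousLocalization.Away 𝒜 (s.2 : A)))))
  exact IsReduced.of_openCover (𝒰 := (Proj.affineOpenCover 𝒜).openCover)

end Groth.Ega2P2
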