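/-
A quasi-coherent algebra as a graded algebra concentrated in degree zero.
-/
import Groth.Prelude.Def_RelProj
import Groth.Agent.Ega2Proj2.ConeImm

set_option autoImplicit false

universe u

open CategoryTheory CategoryTheory.Limits AlgebraicGeometry Opposite TopologicalSpace
open scoped HomogeneousIdeal

noncomputable section

namespace Groth.Ega2P2

/-- Everything in degree zero. -/
def trivDeg (A : Type u) [CommRing A] (i : ℕ) : AddSubgroup A := if i = 0 then ⊤ else ⊥

lemma mem_trivDeg_iff {A : Type u} [CommRing A] {i : ℕ} {x : A} :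
    x ∈ trivDeg A i ↔ i = 0 ∨ x = 0 := by
  by_cases h : i = 0 <;> simp [trivDeg, h]

instance (A : Type u) [CommRing A] : SetLike.GradedMonoid (trivDeg A) where
  one_mem := mem_trivDeg_iff.mpr (Or.inl rfl)
  mul_mem i j a b ha hb := by
    rcases mem_trivDeg_iff.mp ha with rfl | rfl
    · rcases mem_trivDeg_iff.mp hb with rfl | rfl
      · exact mem_trivDeg_iff.mpr (Or.inl rfl)
      · exact mem_trivDeg_iff.mpr (Or.inr (mul_zero a))
    · exact mem_trivDeg_iff.mpr (Or.inr (zero_mul b))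

/-- The graded ring structure. -/
@[reducible]
def trivGraded (A : Type u) [CommRing A] : GradedRing (trivDeg A) where
  decompose' a := DirectSum.of (fun i ↦ trivDeg A i) 0 ⟨a, mem_trivDeg_iff.mpr (Or.inl rfl)⟩
  left_inv a := DirectSum.coeAddMonoidHom_of (trivDeg A) _ _
  right_inv x := by
    induction x using DirectSum.induction_on with
    | zero =>
      simp only [map_zero]
      exact map_zero (DirectSum.of (fun i ↦ trivDeg A i) 0)
    | of i y =>
      obtain ⟨y, hy⟩ := y
      rcases mem_trivDeg_iff.mp hy with rfl | rfl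
      · exact congrArg (DirectSum.of (fun i ↦ trivDeg A i) 0)
          (Subtype.ext (DirectSum.coeAddMonoidHom_of (trivDeg A) _ _))
      · rw [show (⟨0, hy⟩ : trivDeg A i) = 0 from rfl, map_zero]
        simp only [map_zero]
        exact map_zero (DirectSum.of (fun i ↦ trivDeg A i) 0)
    | add x y hx hy =>
      refine Eq.trans ?_ (congrArg₂ (· + ·) hx hy)
      rw [← map_add (DirectSum.of (fun i ↦ trivDeg A i) 0)]
      exact congrArg _ (Subtype.ext (map_add _ x y))

/-- `A` in degree zero. -/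
def trivQCGr {Y : Scheme.{u}} (𝒜 : RelSpec.QCAlg Y) : RelProj.QCGrAlg Y where
  toQCAlg := 𝒜
  deg U _ := trivDeg (𝒜.presheaf.obj (op U))
  graded U _ := trivGraded _
  map_mem {U V} _ _ i {d x} hx := by
    rcases mem_trivDeg_iff.mp hx with rfl | rfl
    · exact mem_trivDeg_iff.mpr (Or.inl rfl)
    · exact mem_trivDeg_iff.mpr (Or.inr (map_zero _))
  str_mem U _ r := mem_trivDeg_iff.mpr (Or.inl rfl)

variable {Y : Scheme.{u}} {𝒜 : RelSpec.QCAlg Y} {Sh : RelProj.QCGrAlg Y}
  {ι : (trivQCGr 𝒜).toQCAlg ⟶ Sh.toQCAlg} {z : Sh.presheaf.obj (op ⊤)}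
  (h : RelCone.IsPolyOver (trivQCGr 𝒜) Sh ι z)
  {P : Scheme.{u}} {p : P ⟶ Y}
  {chart : ∀ (U : Y.Opens) (hU : IsAffineOpen U),
    (((p ⁻¹ᵁ U : P.Opens) : Scheme.{u}) ≅ Proj (Sh.deg U hU))}

include h in
lemma basicOpen_z_eq_top (U : Y.Opens) (hU : IsAffineOpen U) :
    Proj.basicOpen (Sh.deg U hU) (RelCone.restrictTop Sh z U) = ⊤ := by
  refine top_le_iff.mp fun y _ ↦ fun hzy ↦ y.not_irrelevant_le ?_
  refine (HomogeneousIdeal.toIdeal_irrelevant_le _).mpr fun i hi b hb ↦ ?_
  obtain ⟨a, ha, rfl⟩ := exists_coeff h hU hb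
  rw [map_sum]
  refine sum_mem fun j hj ↦ ?_
  rw [polyEquiv_monomial]
  rcases mem_trivDeg_iff.mp (ha j) with h0 | h0
  · have hij : j = i := le_antisymm (Nat.lt_succ_iff.mp (Finset.mem_range.mp hj))
      (Nat.sub_eq_zero_iff_le.mp h0)
    subst hij
    exact Ideal.mul_mem_left _ _ (Ideal.pow_mem_of_mem _ hzy _ hi)
  · rw [h0, map_zero, zero_mul]
    exact zero_mem _

include h in
theorem isIso_coneImm_triv (hP : RelProj.IsRelProj Sh p chart)
    {i : (trivQCGr 𝒜).toQCAlg.spec ⟶ P}
    (hi : RelCone.IsConeImm (trivQCGr 𝒜) h p chart i) : IsIso i := by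
  have := isOpenImmersion_coneImm h hP hi
  have hs : Function.Surjective i.base := by
    intro x
    obtain ⟨U, hU, y, rfl⟩ : ∃ (U : Y.Opens) (hU : IsAffineOpen U) (y : Proj (Sh.deg U hU)),
        (RelProj.emb p chart U hU).base y = x := (projCharts hP).exists_eq x
    have hy : (RelProj.emb p chart U hU).base y ∈ (globalOpen p chart z : Set P) :=
      Opens.mem_iSup.mpr ⟨⟨U, hU⟩, y, (basicOpen_z_eq_top h U hU).ge trivial, rfl⟩
    rw [← range_coneImm h hP hi] at hy
    exact hy
  haveI : Epi i.base := (TopCat.epi_iff_surjective _).mpr hs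
  exact IsOpenImmersion.isIso i

end Groth.Ega2P2
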